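import Cfsg.Agent.Sym9ThreeLocal.Tau
import Cfsg.Agent.S0205
import Mathlib.GroupTheory.Solvable

/-!
# The facts about a configuration
-/

set_option autoImplicit false
set_option synthInstance.maxSize 4000
set_option synthInstance.maxHeartbeats 400000

namespace Cfsg.Agent.Sym9ThreeLocal

open Cfsg Cfsg.Agent Subgroup

universe u

/-- The part of the model over the cycle of the blocks. -/
def InS (u : W) : Prop := u = 1 ∨ u = wc ∨ u = wc * wc

instance : DecidablePred InS := fun u => by unfold InS; infer_instance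

theorem sylow_model : (∀ k, (Finset.univ.filter fun u : W => inK k u ∧ InS u).card = 3) ∧
    (∀ u v : W, InS u → InS v → InS (u * v)) ∧ (∀ u : W, InS u → InS u⁻¹) ∧
    (∀ u : W, u ^ 12 = 1) ∧
    (∀ u : W, u ^ 3 = 1 → (act u xA = xA ∨ act u xA = xA⁻¹) → InS u) ∧
    (∀ a : A, act wc a = a → a = 1 ∨ a = xA ∨ a = xA * xA) ∧ wc * (wc * wc) = 1 ∧ wc ≠ 1 := by
  decide +kernel

theorem big_model : (¬ XLike .eight e1) ∧
    (Finset.univ.filter fun q : W => inK .eight q ∧ act q e1 = e1).card = 8 ∧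
    wt * wt = 1 ∧ wq 0 1 0 (.r 0) * wq 0 1 0 (.r 0) = 1 ∧ act wt e1 = e1 ∧
    act (wq 0 1 0 (.r 0)) e1 = e1 ∧
    ((wt * wq 0 1 0 (.r 0)) * (wt * wq 0 1 0 (.r 0))) * ((wt * wq 0 1 0 (.r 0)) * (wt * wq 0 1 0 (.r 0))) = 1 ∧
    (wt * wq 0 1 0 (.r 0)) * (wt * wq 0 1 0 (.r 0)) ≠ 1 ∧ e1 ≠ 1 := by
  decide +kernel

namespace Conf

variable {G : Type u} [Group G] [Finite G] (h : Conf G)

theorem mem_S {g : G} : g ∈ h.S ↔ ∃ (c : A) (u : KG h.k), InS u ∧ g = h.j c * h.q u := by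
  constructor
  · intro hg
    let S' : Subgroup G :=
      { carrier := {g | ∃ (c : A) (u : KG h.k), InS u ∧ g = h.j c * h.q u}
        one_mem' := ⟨1, 1, Or.inl rfl, by simp⟩
        mul_mem' := by
          rintro _ _ ⟨c, u, hu, rfl⟩ ⟨c', u', hu', rfl⟩
          refine ⟨c * act u c', u * u', sylow_model.2.1 _ _ hu hu', ?_⟩
          rw [map_mul, map_mul, ← h.conj_j]; group
        inv_mem' := by
          rintro _ ⟨c, u, hu, rfl⟩
          refine ⟨act ((u⁻¹ : KG h.k) : W) c⁻¹, u⁻¹, sylow_model.2.2.1 _ hu, ?_⟩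
          rw [← h.conj_j, map_inv, map_inv, mul_inv_rev]; group }
    have hle : h.S ≤ S' := sup_le
      (by rintro _ ⟨a, rfl⟩; exact ⟨a, 1, Or.inl rfl, by simp⟩)
      (zpowers_le.2 ⟨1, ⟨wc, inK_wc h.k⟩, Or.inr (Or.inl rfl), by rw [map_one, one_mul]; rfl⟩)
    exact hle hg
  · rintro ⟨c, u, hu, rfl⟩
    refine mul_mem (mem_sup_left (h.j_mem c)) (mem_sup_right ?_)
    rcases hu with e | e | e
    · rw [show u = 1 from Subtype.ext e, map_one]; exact one_mem _
    · rw [show u = ⟨wc, inK_wc h.k⟩ from Subtype.ext e]; exact mem_zpowers _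
    · rw [show u = ⟨wc, inK_wc h.k⟩ * ⟨wc, inK_wc h.k⟩ from Subtype.ext e, map_mul]
      exact mul_mem (mem_zpowers _) (mem_zpowers _)

theorem S_card : Nat.card h.S = 81 := by
  classical
  rw [show 81 = Nat.card A * (Finset.univ.filter fun u : W => inK h.k u ∧ InS u).card by
      rw [card_A, sylow_model.1],
    ← Fintype.card_subtype, ← Nat.card_eq_fintype_card, ← Nat.card_prod]
  refine (Nat.card_congr (Equiv.ofBijective
    (fun p : A × {u : W // inK h.k u ∧ InS u} =>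
      (⟨h.j p.1 * h.q ⟨p.2.1, p.2.2.1⟩, h.mem_S.2 ⟨_, _, p.2.2.2, rfl⟩⟩ : h.S)) ⟨?_, ?_⟩)).symm
  · rintro ⟨a, q⟩ ⟨b, r⟩ e
    have e' : h.j a * h.q ⟨q.1, q.2.1⟩ = h.j b * h.q ⟨r.1, r.2.1⟩ := congrArg Subtype.val e
    have e2 : inlA h.k a * inrK h.k ⟨q.1, q.2.1⟩ = inlA h.k b * inrK h.k ⟨r.1, r.2.1⟩ :=
      h.inj (by rw [map_mul, map_mul]; exact e')
    have e3 := congrArg Subtype.val e2
    change (SemidirectProduct.inl a * SemidirectProduct.inr q.1 : Mf) =
      SemidirectProduct.inl b * SemidirectProduct.inr r.1 at e3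
    have hl := congrArg SemidirectProduct.left e3
    have hr := congrArg SemidirectProduct.right e3
    simp at hl hr
    exact Prod.ext hl (Subtype.ext hr)
  · rintro ⟨g, hg⟩
    obtain ⟨c, u, hu, rfl⟩ := h.mem_S.1 hg
    exact ⟨(c, ⟨u, u.2, hu⟩), rfl⟩

theorem J_le_S : h.J ≤ h.S := le_sup_left

theorem S_center : ∀ s ∈ h.S, (∀ t ∈ h.S, s * t = t * s) → s ∈ zpowers h.x := by
  intro s hs hc
  obtain ⟨a, rfl⟩ := h.cent_J fun a => hc _ (h.J_le_S (h.j_mem a))
  have hcy : h.cyc ∈ h.S := mem_sup_right (mem_zpowers _)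
  have e := hc _ hcy
  have hfix : act wc a = a := h.j_inj (by
    rw [← h.conj_j ⟨wc, inK_wc h.k⟩]
    exact mul_inv_eq_iff_eq_mul.2 e.symm)
  rcases sylow_model.2.2.2.2.2.1 a hfix with rfl | rfl | rfl
  · rw [map_one]; exact one_mem _
  · exact mem_zpowers _
  · rw [map_mul]; exact mul_mem (mem_zpowers _) (mem_zpowers _)

theorem S_isPGroup : IsPGroup 3 h.S := IsPGroup.of_card (n := 4) (by rw [h.S_card]; norm_num)

/-- The subgroup is a Sylow subgroup. -/
theorem sylow (P : Subgroup G) (hP : IsPGroup 3 P) : ∃ g : G, ∀ y ∈ P, g * y * g⁻¹ ∈ h.S := by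
  haveI : Fact (Nat.Prime 3) := ⟨Nat.prime_three⟩
  obtain ⟨Q, hQ⟩ := h.S_isPGroup.exists_le_sylow
  have hQS : (Q : Subgroup G) = h.S := by
    by_contra hne
    have hlt : h.S.subgroupOf (Q : Subgroup G) < ⊤ :=
      lt_top_iff_ne_top.2 fun e => hne (le_antisymm (subgroupOf_eq_top.1 e) hQ)
    haveI : Group.IsNilpotent (Q : Subgroup G) := Q.2.isNilpotent
    obtain ⟨g, hgN, hgS⟩ := SetLike.exists_of_lt (Group.normalizerCondition_of_isNilpotent _ hlt)
    have hgn : ∀ y ∈ h.S, (g : G) * y * (g : G)⁻¹ ∈ h.S := fun y hy =>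
      (mem_normalizer_iff.1 hgN ⟨y, hQ hy⟩).1 hy
    have hxS : h.x ∈ h.S := h.J_le_S (h.j_mem xA)
    have hcent : ∀ t ∈ h.S, h.x * t = t * h.x := by
      intro t ht
      obtain ⟨c, u, hu, rfl⟩ := h.mem_S.1 ht
      have hfix : act u xA = xA := by
        rcases hu with e | e | e <;> rw [e] <;> decide +kernel
      have e1 : h.q u * h.x = h.x * h.q u := mul_inv_eq_iff_eq_mul.1 ((h.conj_j u xA).trans (congrArg h.j hfix))
      rw [← mul_assoc, h.j_comm, mul_assoc, ← e1, mul_assoc]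
    have hgx : (g : G) * h.x * (g : G)⁻¹ ∈ zpowers h.x := by
      refine h.S_center _ (hgn _ hxS) fun t ht => ?_
      have hgn' : (g : G)⁻¹ * t * g ∈ h.S := (mem_normalizer_iff''.1 hgN ⟨t, hQ ht⟩).1 ht
      calc (g : G) * h.x * (g : G)⁻¹ * t = (g : G) * (h.x * ((g : G)⁻¹ * t * g)) * (g : G)⁻¹ := by group
        _ = _ := by rw [hcent _ hgn']; group
    have hgline : (g : G) * h.x * (g : G)⁻¹ = h.x ∨ (g : G) * h.x * (g : G)⁻¹ = h.x⁻¹ :=
      (A9ThreeLocal.zpowers_three_cases (h.J_cube _ (h.j_mem xA)) hgx).resolve_left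
        fun e => h.j_ne xA_ne (conj_eq_one_iff.1 e)
    obtain ⟨u, hu, c, hgc⟩ := h.exists_act (h.mem_N_of_line hgline)
    have hux : act u xA = xA ∨ act u xA = xA⁻¹ := by
      rw [hu, ← map_inv, h.j_inj.eq_iff, h.j_inj.eq_iff] at hgline
      exact hgline
    have hquQ : h.q u ∈ (Q : Subgroup G) := by
      have : h.q u = (h.j c)⁻¹ * g := by rw [hgc, inv_mul_cancel_left]
      rw [this]; exact mul_mem (inv_mem (hQ (h.J_le_S (h.j_mem c)))) g.2
    obtain ⟨n, hn⟩ := Q.2 ⟨_, hquQ⟩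
    have hn' : (u : W) ^ 3 ^ n = 1 := by
      have : u ^ 3 ^ n = 1 := h.q_inj (by rw [map_pow, map_one]; exact congrArg Subtype.val hn)
      exact congrArg Subtype.val this
    have h3 : (u : W) ^ 3 = 1 := by
      rw [← orderOf_dvd_iff_pow_eq_one]
      have h12 := orderOf_dvd_of_pow_eq_one (sylow_model.2.2.2.1 (u : W))
      obtain ⟨i, -, e⟩ := (Nat.dvd_prime_pow Nat.prime_three).1 (orderOf_dvd_of_pow_eq_one hn')
      rw [e] at h12 ⊢
      have h12' : 3 ^ i ∣ 3 * 4 := h12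
      exact (Nat.Coprime.pow_left i (by norm_num)).dvd_of_dvd_mul_right h12'
    exact hgS (mem_subgroupOf.2 (hgc ▸ h.mem_S.2 ⟨c, u, sylow_model.2.2.2.2.1 _ h3 hux, rfl⟩))
  obtain ⟨R, hR⟩ := hP.exists_le_sylow
  obtain ⟨k, hk⟩ := MulAction.exists_smul_eq G R Q
  refine ⟨k, fun y hy => ?_⟩
  rw [← hQS, ← hk, Sylow.coe_subgroup_smul]
  exact ⟨y, hR hy, rfl⟩

/-- A nontrivial normal subgroup of odd order ends the proof. -/
theorem finish (H : Subgroup G) (hH : H.Normal) (hne : H ≠ ⊥) (hodd : Odd (Nat.card H)) : h.J.Normal := by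
  classical
  haveI : Fact (Nat.Prime 3) := ⟨Nat.prime_three⟩
  haveI := hH
  -- an abelian normal subgroup
  haveI hsol : Group.IsSolvable H := S0205.result hodd
  obtain ⟨A0, hA0n, hA0ne, hA0c⟩ : ∃ A0 : Subgroup G, A0.Normal ∧ A0 ≠ ⊥ ∧ ∀ a ∈ A0, ∀ b ∈ A0, a * b = b * a := by
    have hex : ∃ n, derivedSeries H n = ⊥ := (isSolvable_def H).1 hsol
    have hspec := Nat.find_spec hex
    have h0 : Nat.find hex ≠ 0 := fun e => by
      rw [e, derivedSeries_zero] at hspec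
      exact hne (by rw [← range_subtype H, MonoidHom.range_eq_map, hspec, Subgroup.map_bot])
    obtain ⟨n, hn⟩ := Nat.exists_eq_succ_of_ne_zero h0
    have hmin : derivedSeries H n ≠ ⊥ := Nat.find_min hex (by omega)
    refine ⟨(derivedSeries H n).map H.subtype, ConjAct.normal_of_characteristic_of_normal, fun e => hmin
      ((map_eq_bot_iff_of_injective _ H.subtype_injective).1 e), ?_⟩
    rintro _ ⟨a, ha, rfl⟩ _ ⟨b, hb, rfl⟩
    rw [← map_mul, ← map_mul]
    congr 1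
    rw [hn, derivedSeries_succ, commutator_eq_bot_iff_le_centralizer] at hspec
    exact (mem_centralizer_iff.1 (hspec hb) a ha)
  -- a normal elementary abelian three-subgroup
  let el : ℕ → Subgroup G := fun p =>
    { carrier := {a | a ∈ A0 ∧ a ^ p = 1}
      one_mem' := ⟨one_mem _, one_pow _⟩
      mul_mem' := fun {a b} ha hb => ⟨mul_mem ha.1 hb.1, by
        rw [(show Commute a b from hA0c a ha.1 b hb.1).mul_pow, ha.2, hb.2, one_mul]⟩
      inv_mem' := fun {a} ha => ⟨inv_mem ha.1, by rw [inv_pow, ha.2, inv_one]⟩ }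
  have hel : ∀ p, ∀ a, a ∈ el p ↔ a ∈ A0 ∧ a ^ p = 1 := fun p a => Iff.rfl
  have heln : ∀ p, (el p).Normal := fun p => ⟨fun a ha g => ⟨hA0n.conj_mem a ha.1 g, by
    rw [conj_pow, ha.2, mul_one, mul_inv_cancel]⟩⟩
  obtain ⟨p, hp, hpd⟩ := Nat.exists_prime_and_dvd
    (show Nat.card A0 ≠ 1 from fun e => hA0ne (eq_bot_of_card_eq A0 e))
  haveI : Fact p.Prime := ⟨hp⟩
  obtain ⟨⟨a0, ha0⟩, ho⟩ := exists_prime_orderOf_dvd_card' (G := A0) p hpd
  rw [orderOf_mk] at ho
  have hel0 : el p ≠ ⊥ := fun e => by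
    have hm : a0 ∈ el p := ⟨ha0, by rw [← ho, pow_orderOf_eq_one]⟩
    rw [e, mem_bot] at hm
    rw [hm, orderOf_one] at ho
    exact hp.one_lt.ne' ho.symm
  have hpg : IsPGroup p (el p) := fun ⟨a, ha⟩ => ⟨1, Subtype.ext (by rw [pow_one]; exact ha.2)⟩
  have hp3 : p = 3 := by
    by_contra hp3
    refine hel0 (h.sig _ ?_ fun a => ?_)
    · obtain ⟨n, hn⟩ := IsPGroup.iff_card.1 hpg
      rw [hn]
      exact ((Nat.coprime_primes hp Nat.prime_three).2 hp3).pow_left n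
    · refine eq_of_le_of_card_ge ?_ (by rw [card_map_of_injective (MulAut.conj _).injective])
      rintro _ ⟨y, hy, rfl⟩
      exact (heln p).conj_mem y hy _
  subst hp3
  set W0 := el 3 with hW0
  have hW0S : W0 ≤ h.S := by
    obtain ⟨g, hg⟩ := h.sylow W0 hpg
    intro a ha
    have := hg _ ((heln 3).conj_mem a ha g⁻¹)
    simpa [mul_assoc] using this
  -- it contains the centre of the Sylow subgroup
  have hxW : h.x ∈ W0 := by
    letI : MulAction h.S W0 :=
      { smul := fun s w => ⟨(s : G) * w * (s : G)⁻¹, (heln 3).conj_mem _ w.2 _⟩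
        one_smul := fun w => Subtype.ext (by
          show ((1 : h.S) : G) * w * ((1 : h.S) : G)⁻¹ = w
          simp)
        mul_smul := fun s t w => Subtype.ext (by
          show ((s * t : h.S) : G) * w * ((s * t : h.S) : G)⁻¹ = (s : G) * ((t : G) * w * (t : G)⁻¹) * (s : G)⁻¹
          rw [Subgroup.coe_mul]; group) }
    have hd : 3 ∣ Nat.card W0 := by
      obtain ⟨n, hn⟩ := IsPGroup.iff_card.1 hpg
      rw [hn]
      refine dvd_pow_self 3 fun e => hel0 (eq_bot_of_card_eq W0 ?_)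
      rw [hn, e, pow_zero]
    obtain ⟨w, hwfix, hw1⟩ := h.S_isPGroup.exists_fixed_point_of_prime_dvd_card_of_fixed_point W0 hd
      (a := 1) (fun s => Subtype.ext (by
        show (s : G) * ((1 : W0) : G) * (s : G)⁻¹ = ((1 : W0) : G)
        simp))
    have hwx := h.S_center w (hW0S w.2) fun t ht => by
      have e : t * (w : G) * t⁻¹ = w := congrArg Subtype.val (hwfix ⟨t, ht⟩)
      exact (mul_inv_eq_iff_eq_mul.1 e).symm
    rcases A9ThreeLocal.zpowers_three_cases (h.J_cube _ (h.j_mem xA)) hwx with e | e | e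
    · exact absurd (Subtype.ext e).symm hw1
    · show h.j xA ∈ W0; rw [← e]; exact w.2
    · have := inv_mem w.2
      rwa [e, inv_inv] at this
  have hW0J : W0 ≤ h.J := by
    intro w hw
    obtain ⟨c, u, hu, hwc⟩ := h.mem_S.1 (hW0S hw)
    have hu1 : (u : W) = 1 := no_unipotent _ fun a => by
      have hconj : ∀ b, w * h.j b * w⁻¹ = h.j (act u b) := fun b => by
        rw [hwc]
        calc h.j c * h.q u * h.j b * (h.j c * h.q u)⁻¹ = h.j c * (h.q u * h.j b * (h.q u)⁻¹) * (h.j c)⁻¹ := by group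
          _ = _ := by rw [h.conj_j, h.j_comm, mul_inv_cancel_right]
      have hd : h.j (act u a * a⁻¹) ∈ W0 := by
        rw [map_mul, map_inv, ← hconj, show w * h.j a * w⁻¹ * (h.j a)⁻¹ = w * (h.j a * w⁻¹ * (h.j a)⁻¹) by group]
        exact mul_mem hw ((heln 3).conj_mem _ (inv_mem hw) _)
      refine h.j_inj ?_
      rw [← hconj, show w * h.j (act u a * a⁻¹) = h.j (act u a * a⁻¹) * w from hA0c _ hw.1 _ hd.1,
        mul_inv_cancel_right]
    rw [hwc, show u = 1 from Subtype.ext hu1, map_one, mul_one]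
    exact h.j_mem c
  have htop : h.N = ⊤ := eq_top_iff.2 fun g _ => by
    obtain ⟨v, hv⟩ := hW0J ((heln 3).conj_mem _ hxW g)
    obtain ⟨u, hu, hux⟩ := h.ctrl xA_ne hv.symm
    have hm : (h.q ⟨u, hu⟩)⁻¹ * g ∈ h.N := h.mem_N_of_line (Or.inl (by
      calc (h.q ⟨u, hu⟩)⁻¹ * g * h.x * ((h.q ⟨u, hu⟩)⁻¹ * g)⁻¹
          = (h.q ⟨u, hu⟩)⁻¹ * (g * h.x * g⁻¹) * h.q ⟨u, hu⟩ := by group
        _ = (h.q ⟨u, hu⟩)⁻¹ * (h.q ⟨u, hu⟩ * h.x * (h.q ⟨u, hu⟩)⁻¹) * h.q ⟨u, hu⟩ := by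
          rw [← hv, h.conj_j, hux]
        _ = h.x := by group))
    simpa using mul_mem (h.q_mem_N ⟨u, hu⟩) hm
  rw [h.N_eq] at htop
  exact normalizer_eq_top_iff.1 htop

/-- The large case. -/
theorem big (hk : h.k = .eight) (hb : ¬ centralizer ({h.j e1} : Set G) ≤ h.N) :
    ∃ π : centralizer ({h.j e1} : Set G) →* Equiv.Perm (Fin 6), Function.Surjective π ∧
      ∀ y, π y = 1 ↔ (y : G) ∈ zpowers (h.j e1) := by
  classical
  haveI : Fact (Nat.Prime 3) := ⟨Nat.prime_three⟩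
  obtain ⟨hx, hcard, ht2, hw2, hte, hwe, h4, h2, he1⟩ := big_model
  have hfix : ∀ u : KG h.k, act u e1 = e1 → h.q u ∈ centralizer ({h.j e1} : Set G) := fun u hu =>
    mem_centralizer_singleton_iff.2 (mul_inv_eq_iff_eq_mul.1 ((h.conj_j u e1).trans (congrArg h.j hu)))
  set C := centralizer ({h.j e1} : Set G) with hC
  set Z : Subgroup C := (zpowers (h.j e1)).subgroupOf C with hZ
  haveI hZn : Z.Normal := ⟨fun y hy d => by
    rw [hZ, mem_subgroupOf] at hy ⊢
    obtain ⟨i, hi⟩ := mem_zpowers_iff.1 hy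
    have hd : Commute (d : G) (h.j e1) := mem_centralizer_singleton_iff.1 d.2
    show (d : G) * y * (d : G)⁻¹ ∈ zpowers (h.j e1)
    rw [← hi, (hd.zpow_right i).eq, mul_inv_cancel_right]
    exact zpow_mem (mem_zpowers _) i⟩
  set π : C →* C ⧸ Z := QuotientGroup.mk' Z with hπdef
  have hπ : ∀ d : C, π d = 1 ↔ (d : G) ∈ zpowers (h.j e1) := fun d => by
    rw [hπdef, QuotientGroup.mk'_apply, QuotientGroup.eq_one_iff, hZ, mem_subgroupOf]
  obtain ⟨T, hnine, hmem, hnorm, hN⟩ :=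
    h.exists_nine he1 (hk ▸ hx) π (QuotientGroup.mk'_surjective Z) hπ
  have hin : ∀ u : W, inK h.k u := fun u => hk ▸ trivial
  let St : Subgroup W :=
    { carrier := {u | act u e1 = e1}
      one_mem' := act_one e1
      mul_mem' := fun {a b} ha hb => (act_mul a b e1).trans (by rw [hb, ha])
      inv_mem' := fun {a} ha => by
        show act a⁻¹ e1 = e1
        nth_rewrite 1 [← show act a e1 = e1 from ha]
        rw [← act_mul, inv_mul_cancel, act_one] }
  let ρ : St →* C :=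
    { toFun := fun u => ⟨h.q ⟨u, hin _⟩, hfix _ u.2⟩
      map_one' := Subtype.ext h.q.map_one
      map_mul' := fun u v => Subtype.ext (h.q.map_mul ⟨u, hin _⟩ ⟨v, hin _⟩) }
  obtain ⟨ψ, hψ⟩ : ∃ ψ : St →* C ⧸ Z, ψ = π.comp ρ := ⟨_, rfl⟩
  have key : ∀ u : St, ψ u = 1 ↔ (u : W) = 1 := fun u => by
    refine ⟨fun e => ?_, fun e => by rw [show u = 1 from Subtype.ext e, map_one]⟩
    rw [hψ, MonoidHom.comp_apply, hπ] at e
    obtain ⟨i, hi⟩ := mem_zpowers_iff.1 e
    rw [← map_zpow] at hi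
    have e2 : inlA h.k (e1 ^ i) = inrK h.k ⟨u, hin _⟩ := h.inj hi
    exact (congrArg SemidirectProduct.right (congrArg Subtype.val e2)).symm
  obtain ⟨st, hst⟩ : ∃ st : St, (st : W) = wt := ⟨⟨wt, hte⟩, rfl⟩
  obtain ⟨sw, hsw⟩ : ∃ sw : St, (sw : W) = wq 0 1 0 (.r 0) := ⟨⟨_, hwe⟩, rfl⟩
  have hNψ : ∀ u : St, ψ u ∈ normalizer ((T : Subgroup (C ⧸ Z)) : Set (C ⧸ Z)) := fun u => by
    rw [hψ, MonoidHom.comp_apply, hnorm]
    exact h.q_mem_N _
  have hgens : ThreeWreath.Gens T (ψ st) (ψ sw) := by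
    refine ⟨hnine.comm, hnine.cube, hnine.card, hnine.cent, hnine.loc, ?_, hNψ st, hNψ sw, ?_, ?_, ?_, ?_⟩
    · rw [hN, hk, hcard]
    · rw [← map_mul, key, Subgroup.coe_mul, hst]; exact ht2
    · rw [← map_mul, key, Subgroup.coe_mul, hsw]; exact hw2
    · rw [← map_mul, ← map_mul, ← map_mul, key]
      simp only [Subgroup.coe_mul, hst, hsw]
      exact h4
    · rw [← map_mul, ← map_mul, Ne, key]
      simp only [Subgroup.coe_mul, hst, hsw]
      exact h2
  rcases ThreeTINine.Wreath.main hgens with htop | ⟨⟨e⟩⟩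
  · exact absurd (fun d hd => (hnorm ⟨d, hd⟩).1 (htop ▸ mem_top _)) hb
  · exact ⟨e.toMonoidHom.comp π, e.surjective.comp (QuotientGroup.mk'_surjective Z), fun y =>
      (map_eq_one_iff e e.injective).trans (hπ y)⟩

/-- The facts hold in every configuration. -/
theorem facts : h.Facts where
  pair _ _ hv hw := h.pair hv hw
  loc _ hv he := h.loc hv he
  tau_le := h.tau_le
  S_card := h.S_card
  S_center := h.S_center
  sylow := h.sylow
  finish := h.finish
  big := h.big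

end Conf

end Cfsg.Agent.Sym9ThreeLocal
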