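import Mathlib.Data.List.Basic
import Mathlib.Data.List.Range
import Mathlib.Data.Nat.Basic

/-!
# A certificate for the automisers of an elementary group of order twenty-seven

Vectors are coded by numbers below twenty-seven and linear maps by the codes of the images of the
three coordinate vectors.
-/

set_option autoImplicit false

namespace Cfsg.Agent.Sym9ThreeLocal.AutTable

/-- A coded linear map. -/
abbrev T3 : Type := ℕ × ℕ × ℕ

/-- The sum of two coded vectors. -/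
def addN (a b : ℕ) : ℕ := (a % 3 + b % 3) % 3 + 3 * ((a / 3 + b / 3) % 3) + 9 * ((a / 9 + b / 9) % 3)

/-- A multiple of a coded vector. -/
def smulN (k a : ℕ) : ℕ := k * a % 3 + 3 * (k * (a / 3) % 3) + 9 * (k * (a / 9) % 3)

/-- The image of a coded vector. -/
def linN (T : T3) (v : ℕ) : ℕ :=
  addN (addN (smulN (v % 3) T.1) (smulN (v / 3 % 3) T.2.1)) (smulN (v / 9 % 3) T.2.2)

/-- A composite. -/
def mulN (T U : T3) : T3 := (linN T U.1, linN T U.2.1, linN T U.2.2)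

/-- The permutations of the coordinates. -/
def pN : Fin 6 → T3
  | 0 => (1, 3, 9)
  | 1 => (1, 9, 3)
  | 2 => (3, 1, 9)
  | 3 => (3, 9, 1)
  | 4 => (9, 1, 3)
  | 5 => (9, 3, 1)

/-- The changes of coordinates commuting with all permutations of them. -/
def cN : Fin 3 → T3
  | 0 => (1, 3, 9)
  | 1 => (14, 16, 22)
  | 2 => (24, 20, 8)

/-- The weight of a code, used to choose representatives. -/
def wtN (T : T3) : ℕ := T.1 * 729 + T.2.1 * 27 + T.2.2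

/-- Representatives of the lines. -/
def lineReps : List ℕ := [1, 3, 9, 4, 7, 10, 19, 12, 21, 13, 16, 22, 25]

/-- Injectivity. -/
def indepN (T : T3) : Bool := lineReps.all fun v => linN T v != 0

/-- Being monomial. -/
def monoN (T : T3) : Bool :=
  [1, 2, 3, 6, 9, 18].contains T.1 && [1, 2, 3, 6, 9, 18].contains T.2.1 &&
    [1, 2, 3, 6, 9, 18].contains T.2.2 && indepN T

/-- Being monomial after one of the changes of coordinates. -/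
def goodN (T : T3) : Bool :=
  (List.finRange 3).any fun c => monoN (mulN (cN c) (mulN T (cN (-c))))

/-- A permutation of the coordinates of a vector. -/
def rowN (i : Fin 6) (v : ℕ) : ℕ :=
  v % 3 * (pN i).1 + v / 3 % 3 * (pN i).2.1 + v / 9 % 3 * (pN i).2.2

/-- The permutations of the three images. -/
def cols (a b c : ℕ) : List T3 := [(a, b, c), (a, c, b), (b, a, c), (b, c, a), (c, a, b), (c, b, a)]

/-- Being least in its double coset. -/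
def minN (T : T3) : Bool :=
  (List.finRange 6).all fun i =>
    (cols (rowN i T.1) (rowN i T.2.1) (rowN i T.2.2)).all fun U => Nat.ble (wtN T) (wtN U)

/-- Fixing the diagonal vector without being a permutation. -/
def badStab (T : T3) : Bool :=
  linN T 13 == 13 && (List.finRange 6).all fun i => T != pN i

/-- The value of a word. -/
def word (T : T3) (w : List (Fin 6)) : T3 := w.foldl (fun h i => mulN (mulN h (pN i)) T) T

/-- The maps which need a certificate. -/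
def cands : List T3 :=
  (List.range 27).flatMap fun a => (List.range' (a + 1) (26 - a)).flatMap fun b =>
    (List.range' (b + 1) (26 - b)).flatMap fun c =>
      if minN (a, b, c) && indepN (a, b, c) && !goodN (a, b, c) then [(a, b, c)] else []

/-- The certificates. -/
def tbl : List (List (Fin 6)) := [
  [0, 1],
  [0, 1],
  [1, 1, 0],
  [1, 4],
  [0, 1, 1],
  [5],
  [2, 3],
  [1],
  [1],
  [2, 2, 0],
  [],
  [0, 2],
  [1, 4],
  [0, 5],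
  [2, 0],
  [0, 2],
  [0, 5],
  [1, 2],
  [1, 0, 1],
  [0, 3],
  [0],
  [0],
  [0],
  [1, 3],
  [1, 4],
  [3, 1],
  [0, 2, 2],
  [1, 4],
  [0, 5],
  [0, 2],
  [0, 2],
  [0, 5],
  [5, 0],
  [2, 1],
  [1, 0, 1],
  [4, 0],
  [0],
  [0],
  [0],
  [1, 4],
  [2, 5],
  [1, 3],
  [5],
  [0, 2, 2],
  [2, 2, 0],
  [],
  [0, 0],
  [0, 0],
  [1],
  [1],
  [1, 0],
  [2, 2, 4],
  [2, 2, 0],
  [0, 1],
  [1, 4, 2],
  [0, 2, 2],
  [2, 1, 3],
  [2],
  [4, 1, 2],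
  [0, 0],
  [0, 0],
  [],
  [1],
  [4, 2],
  [4, 1, 0],
  [1, 0],
  [0, 1],
  [2, 3],
  [0, 1, 3],
  [2, 0],
  [0, 2],
  [1, 3],
  [0, 0],
  [],
  [0, 0],
  [2],
  [0, 2, 2],
  [2],
  [0, 0, 2],
  [2],
  [0, 2, 2],
  [0, 0, 2],
  [0, 2, 3],
  [0, 2, 2],
  [1, 0, 1],
  [1, 0, 1],
  [1, 0, 1],
  [0, 3, 0],
  [5, 0],
  [3],
  [1, 2],
  [0, 1, 2],
  [0, 5],
  [1, 0, 1],
  [4],
  [0, 2, 1],
  [1, 0, 1],
  [0, 1, 5],
  [1, 0, 1],
  [0, 5],
  [],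
  [1],
  [2],
  [0, 0, 2],
  [0, 2, 2],
  [0, 2, 2],
  [0, 0, 2],
  [2],
  [2, 3],
  [1, 0, 1],
  [1, 0, 1],
  [3, 0, 0, 2],
  [0, 2, 0, 4],
  [1],
  [1, 1],
  [1, 1],
  [1, 1],
  [2, 4],
  [0, 0],
  [3, 2],
  [2, 4],
  [1, 5],
  [0, 0],
  [2],
  [1, 0, 1],
  [1, 0, 1],
  [2, 4],
  [1],
  [3, 2],
  [2, 1, 3],
  [4, 1, 2],
  [2],
  [5],
  [],
  [0, 3, 4],
  [3, 4, 0],
  [0, 1, 1],
  [0, 5],
  [1, 1, 0],
  [4, 1],
  [4, 2, 1],
  [1, 3],
  [0],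
  [],
  [0],
  [0, 2, 2],
  [0],
  [1, 0],
  [0, 5],
  [0, 2, 1, 0],
  [0, 1],
  [2, 3],
  [4, 3, 0],
  [0, 2],
  [1, 3],
  [1, 2, 3],
  [],
  [0],
  [0],
  [2, 2, 0],
  [0, 5],
  [1, 0],
  [0, 4, 3],
  [0, 1, 2, 0],
  [5, 0],
  [0, 1],
  [0, 1, 5],
  [0, 1, 2],
  [3],
  [2, 3],
  [0, 4],
  [1, 2],
  [0, 4],
  [1, 0, 1],
  [0, 4, 1],
  [0, 4, 4],
  [3, 0],
  [1, 0, 1],
  [2, 1],
  [3, 0],
  [0, 4, 0],
  [0, 5, 3],
  [4],
  [4, 2],
  [0, 2, 2],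
  [2, 2, 0],
  [2, 1, 3],
  [0, 2, 2],
  [0, 4, 0],
  [2, 0],
  [],
  [2, 0],
  [0, 2, 1],
  [0],
  [3, 5],
  [0, 4],
  [4, 2],
  [0, 3],
  [2, 2, 0],
  [0, 2, 2],
  [0],
  [4, 0, 2],
  [2, 1],
  [5],
  [4, 0, 0],
  [0, 0, 2],
  [1, 2],
  [0],
  [0, 0, 3],
  [3, 0, 2],
  [2, 4],
  [0, 1],
  [0, 1, 2],
  [4, 5],
  [4],
  [1, 3],
  [0, 0, 5],
  [1, 2],
  [2],
  [0, 0, 1],
  [1, 0],
  [0, 5],
  [0, 2, 0, 2],
  [0, 4],
  [0, 0, 2],
  [0, 2, 3],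
  [3, 4],
  [0, 3, 1],
  [0],
  [],
  [3, 0, 0],
  [2, 4],
  [0, 1, 4, 1],
  [0, 5],
  [1, 0, 1],
  [2, 1, 3],
  [3, 0, 0],
  [1, 2],
  [4, 0],
  [],
  [1, 1, 0],
  [2, 2, 0],
  [0, 2, 2],
  [0, 2, 2],
  [0, 2, 5],
  [1, 0, 1],
  [0, 2],
  [3, 0],
  [2, 2, 0],
  [2, 3],
  [0, 1],
  [0, 3, 0],
  [0, 2, 2],
  [0],
  [4, 5],
  [0, 0, 2],
  [4, 2],
  [4, 4, 3],
  [0, 0, 4],
  [0, 0, 4],
  [1, 3, 3],
  [0, 1, 0, 1],
  [0, 0],
  [0, 0, 2, 0],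
  [2],
  [1, 1, 0],
  [0],
  [0, 2, 2, 0],
  [1, 0, 0],
  [0, 1, 4],
  [3, 1],
  [4, 0],
  [0, 0, 4],
  [0, 1, 1, 0],
  [0, 0, 2],
  [0, 2, 2],
  [0, 3, 1],
  [0, 1],
  [0, 2],
  [1, 0],
  [2, 4],
  [0],
  [5, 0],
  [1, 2, 0],
  [0, 4, 3],
  [1, 4, 2],
  [0, 2],
  [1, 0, 1],
  [0, 5],
  [1, 0, 3],
  [1],
  [0, 1, 2],
  [0, 5],
  [2, 5],
  [0, 0, 2],
  [0, 2, 0],
  [0, 0, 1],
  [],
  [1, 2],
  [],
  [0, 3, 2],
  [0, 2, 1],
  [4, 3, 2, 1],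
  [1, 4],
  [0, 0],
  [0, 4, 4],
  [0, 0, 1],
  [0],
  [2, 0, 2],
  [4],
  [1, 1],
  [5],
  [1],
  [4, 3, 2, 1],
  [0, 2],
  [],
  [4, 0, 2],
  [0, 4],
  [0, 1, 0],
  [0, 2],
  [3, 0, 0],
  [1, 0],
  [2, 2, 0],
  [1, 1, 0],
  [],
  [1, 3, 0],
  [2, 4, 0],
  [0, 1],
  [0],
  [4, 0, 2]]

theorem tbl_ok :
    (cands.length == tbl.length && (cands.zip tbl).all fun p => badStab (word p.1 p.2)) = true := by
  decide +kernel

/-- Every map needing a certificate has one. -/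
theorem exists_word {T : T3} (hT : T ∈ cands) : ∃ w, badStab (word T w) = true := by
  have h := tbl_ok
  rw [Bool.and_eq_true, beq_iff_eq, List.all_eq_true] at h
  obtain ⟨i, hi, rfl⟩ := List.mem_iff_getElem.1 hT
  refine ⟨tbl[i]'(h.1 ▸ hi), h.2 (cands[i], tbl[i]'(h.1 ▸ hi)) ?_⟩
  exact List.mem_iff_getElem.2 ⟨i, by simp [List.length_zip, ← h.1, hi], by simp⟩

/-- Membership among the maps needing a certificate. -/
theorem mem_cands {a b c : ℕ} (ha : a < 27) (hb : b < 27) (hc : c < 27) (h1 : a < b) (h2 : b < c)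
    (hi : indepN (a, b, c) = true) (hm : minN (a, b, c) = true) (hg : goodN (a, b, c) = false) :
    (a, b, c) ∈ cands := by
  simp only [cands, List.mem_flatMap, List.mem_range, List.mem_range'_1]
  refine ⟨a, ha, b, ⟨h1, by omega⟩, c, ⟨h2, by omega⟩, ?_⟩
  rw [hi, hm, hg]
  exact List.mem_singleton_self _

end Cfsg.Agent.Sym9ThreeLocal.AutTable
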