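import Cfsg.Agent.Sym9ThreeLocal.Model
import Cfsg.Agent.Sym9ThreeLocal.Table

/-!
# The possible automisers are monomial
-/

set_option autoImplicit false
set_option synthInstance.maxSize 4000
set_option synthInstance.maxHeartbeats 400000

namespace Cfsg.Agent.Sym9ThreeLocal

open AutTable

/-- The code of a vector. -/
def enc (a : A) : ℕ := a.toAdd.1.val + 3 * a.toAdd.2.1.val + 9 * a.toAdd.2.2.val

theorem enc_inj : ∀ a b : A, enc a = enc b → a = b := by decide +kernel

theorem enc_lt : ∀ a : A, enc a < 27 := by decide +kernel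

theorem addN_enc : ∀ a b : A, addN (enc a) (enc b) = enc (a * b) := by decide +kernel

theorem smulN_enc : ∀ a : A, ∀ k : Fin 3, smulN k (enc a) = enc (a ^ (k : ℕ)) := by decide +kernel

theorem enc_basis : enc 1 = 0 ∧ enc e1 = 1 ∧ enc e2 = 3 ∧ enc e3 = 9 ∧ enc xA = 13 := by decide +kernel

theorem coords : ∀ v : A, e1 ^ (enc v % 3) * e2 ^ (enc v / 3 % 3) * e3 ^ (enc v / 9 % 3) = v := by
  decide +kernel

theorem rowN_lin : ∀ i : Fin 6, ∀ v : A, rowN i (enc v) = linN (pN i) (enc v) := by decide +kernel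

theorem row_id : ∀ v : A, rowN 0 (enc v) = enc v := by decide +kernel

theorem lineReps_ne : ∀ v ∈ lineReps, ∃ a : A, a ≠ 1 ∧ enc a = v := by decide +kernel

/-- The code of an endomorphism. -/
def codeT (f : A →* A) : T3 := (enc (f e1), enc (f e2), enc (f e3))

theorem lin_enc (f : A →* A) (v : A) : linN (codeT f) (enc v) = enc (f v) := by
  have h : ∀ (a : A) (n : ℕ), smulN (n % 3) (enc a) = enc (a ^ (n % 3)) := fun a n =>
    smulN_enc a ⟨n % 3, Nat.mod_lt _ (by norm_num)⟩
  conv_rhs => rw [← coords v]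
  simp only [linN, codeT, h, addN_enc, map_mul, map_pow]

theorem code_comp (f g : A →* A) : mulN (codeT f) (codeT g) = codeT (f.comp g) := by
  simp only [mulN]
  simp only [show (codeT g).1 = enc (g e1) from rfl, show (codeT g).2.1 = enc (g e2) from rfl,
    show (codeT g).2.2 = enc (g e3) from rfl, lin_enc]
  rfl

theorem code_inj {f g : A →* A} (e : codeT f = codeT g) : f = g :=
  MonoidHom.ext fun v => enc_inj _ _ (by rw [← lin_enc, ← lin_enc, e])

/-- The action as an endomorphism. -/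
def actH (w : W) : A →* A :=
  { toFun := act w
    map_one' := (theta w).map_one
    map_mul' := act_hom w }

@[simp] theorem actH_apply (w : W) (a : A) : actH w a = act w a := rfl

theorem actH_mul (v w : W) : actH (v * w) = (actH v).comp (actH w) := MonoidHom.ext fun a => act_mul v w a

theorem actH_one : actH 1 = MonoidHom.id A := MonoidHom.ext act_one

/-- The weight. -/
def sumA (a : A) : ℕ := (a.toAdd.1 + a.toAdd.2.1 + a.toAdd.2.2).val

theorem shift_hom : ∀ c : Fin 3, ∀ a b : A,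
    a * b * xA ^ ((c : ℕ) * sumA (a * b)) = a * xA ^ ((c : ℕ) * sumA a) * (b * xA ^ ((c : ℕ) * sumA b)) := by
  decide +kernel

/-- A change of coordinates commuting with the permutations of them. -/
def Pf (c : Fin 3) : A →* A :=
  MonoidHom.mk' (fun a => a * xA ^ ((c : ℕ) * sumA a)) (shift_hom c)

theorem Pf_code : ∀ c : Fin 3, codeT (Pf c) = cN c := by decide +kernel

theorem Pf_xA : ∀ c : Fin 3, Pf c xA = xA := by decide +kernel

theorem Pf_inv' : ∀ c : Fin 3, ∀ a : A, Pf c (Pf (-c) a) = a ∧ Pf (-c) (Pf c a) = a := by decide +kernel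

theorem Pf_perm : ∀ c : Fin 3, ∀ w : W, (w.left = 1 ∨ w.left = wi.left) → ∀ a : A,
    Pf c (act w a) = act w (Pf c a) := by decide +kernel

theorem Pf_inv (c : Fin 3) : (Pf c).comp (Pf (-c)) = MonoidHom.id A ∧ (Pf (-c)).comp (Pf c) = MonoidHom.id A :=
  ⟨MonoidHom.ext fun a => (Pf_inv' c a).1, MonoidHom.ext fun a => (Pf_inv' c a).2⟩

theorem Pf_comm (c : Fin 3) {w : W} (hw : w.left = 1 ∨ w.left = wi.left) :
    (Pf c).comp (actH w) = (actH w).comp (Pf c) := MonoidHom.ext fun a => Pf_perm c w hw a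

theorem pN_act : ∀ i : Fin 6, ∃ w : W, w.left = 1 ∧ codeT (actH w) = pN i := by decide +kernel

theorem act_pN : ∀ w : W, w.left = 1 → ∃ i : Fin 6, codeT (actH w) = pN i := by decide +kernel

theorem mono_act : ∀ w : W, monoN (codeT (actH w)) = true := by decide +kernel

theorem mono_units : ∀ a ∈ [1, 2, 3, 6, 9, 18], ∀ b ∈ [1, 2, 3, 6, 9, 18], ∀ c ∈ [1, 2, 3, 6, 9, 18],
    indepN (a, b, c) = true → ∃ w : W, codeT (actH w) = (a, b, c) := by
  decide +kernel

theorem exists_of_monoN {f : A →* A} (h : monoN (codeT f) = true) : ∃ w, f = actH w := by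
  simp only [monoN, Bool.and_eq_true, List.contains_iff_mem] at h
  obtain ⟨⟨⟨ha, hb⟩, hc⟩, hi⟩ := h
  obtain ⟨w, hw⟩ := mono_units _ ha _ hb _ hc hi
  exact ⟨w, code_inj hw.symm⟩

theorem indep_of_injective {f : A →* A} (hf : Function.Injective f) : indepN (codeT f) = true := by
  rw [indepN, List.all_eq_true]
  intro v hv
  obtain ⟨a, ha, rfl⟩ := lineReps_ne v hv
  rw [lin_enc, bne_iff_ne, ← enc_basis.1]
  exact fun e => ha (hf ((enc_inj _ _ e).trans (map_one f).symm))

/-- An endomorphism becomes monomial after the change of coordinates. -/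
def Good (c : Fin 3) (f : A →* A) : Prop := ∃ w, (Pf c).comp (f.comp (Pf (-c))) = actH w

theorem goodN_iff (f : A →* A) : goodN (codeT f) = true ↔ ∃ c, Good c f := by
  simp only [goodN, List.any_eq_true, List.mem_finRange, true_and, ← Pf_code, code_comp, Good]
  exact ⟨fun ⟨c, h⟩ => ⟨c, exists_of_monoN h⟩, fun ⟨c, w, h⟩ => ⟨c, by rw [h]; exact mono_act w⟩⟩

theorem Good.of_perm {c : Fin 3} {f : A →* A} {p q : W} (hp : p.left = 1) (hq : q.left = 1)
    (h : Good c ((actH p).comp (f.comp (actH q)))) : Good c f := by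
  obtain ⟨w, hw⟩ := h
  refine ⟨p⁻¹ * w * q⁻¹, MonoidHom.ext fun a => ?_⟩
  have e := DFunLike.congr_fun hw (act q⁻¹ a)
  simp only [MonoidHom.comp_apply, actH_apply] at e ⊢
  have hq' : (q⁻¹).left = 1 := by simp [SemidirectProduct.inv_left, hq]
  rw [Pf_perm (-c) q⁻¹ (Or.inl hq'), ← act_mul q q⁻¹, mul_inv_cancel, act_one, Pf_perm c p (Or.inl hp)] at e
  rw [act_mul, act_mul, ← e, ← act_mul, inv_mul_cancel, act_one]

/-- The hypotheses on a set of endomorphisms. -/
structure AutSet (Γ : Set (A →* A)) : Prop where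
  /-- They are closed under composition. -/
  comp : ∀ f ∈ Γ, ∀ g ∈ Γ, f.comp g ∈ Γ
  /-- The permutations of the coordinates belong to them. -/
  perm : ∀ w : W, w.left = 1 → actH w ∈ Γ
  /-- They are injective. -/
  inj : ∀ f ∈ Γ, Function.Injective f
  /-- Those fixing the diagonal vector are permutations. -/
  stab : ∀ f ∈ Γ, f xA = xA → ∃ w : W, w.left = 1 ∧ f = actH w

namespace AutSet

variable {Γ : Set (A →* A)}

theorem word_mem (h : AutSet Γ) {f : A →* A} (hf : f ∈ Γ) :
    ∀ (w : List (Fin 6)) (g : A →* A), g ∈ Γ →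
      ∃ g' ∈ Γ, codeT g' = w.foldl (fun t i => mulN (mulN t (pN i)) (codeT f)) (codeT g)
  | [], g, hg => ⟨g, hg, rfl⟩
  | i :: w, g, hg => by
    obtain ⟨p, hp, hpi⟩ := pN_act i
    obtain ⟨g', hg', e⟩ := word_mem h hf w _ (h.comp _ (h.comp _ hg _ (h.perm p hp)) _ hf)
    refine ⟨g', hg', ?_⟩
    rw [List.foldl_cons, ← hpi, code_comp, code_comp, e]

theorem exists_good (h : AutSet Γ) (n : ℕ) : ∀ f ∈ Γ, wtN (codeT f) = n → ∃ c, Good c f := by
  induction n using Nat.strong_induction_on with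
  | _ n ih =>
    intro f hf hn
    by_cases hm : minN (codeT f) = true
    · rw [← goodN_iff]
      by_contra hg
      rw [Bool.not_eq_true] at hg
      have hinj := h.inj f hf
      have hne : ∀ u v : A, u ≠ v → enc (f u) ≠ enc (f v) := fun u v huv e => huv (hinj (enc_inj _ _ e))
      have h12 := hne e1 e2 (by decide)
      have h23 := hne e2 e3 (by decide)
      have hm' := hm
      rw [minN, List.all_eq_true] at hm'
      have h0 := hm' 0 (List.mem_finRange 0)
      simp only [codeT, row_id, cols, List.all_cons, List.all_nil, Bool.and_eq_true, Nat.ble_eq,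
        wtN] at h0
      have l1 := enc_lt (f e1)
      have l2 := enc_lt (f e2)
      have l3 := enc_lt (f e3)
      have hmem : codeT f ∈ cands :=
        mem_cands l1 l2 l3 (by omega) (by omega) (indep_of_injective hinj) hm hg
      obtain ⟨w, hw⟩ := exists_word hmem
      obtain ⟨g, hgΓ, e⟩ := h.word_mem hf w f hf
      rw [word, ← e, badStab, Bool.and_eq_true, beq_iff_eq, List.all_eq_true, ← enc_basis.2.2.2.2,
        lin_enc] at hw
      obtain ⟨p, hp, rfl⟩ := h.stab g hgΓ (enc_inj _ _ hw.1)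
      obtain ⟨i, hi⟩ := act_pN p hp
      exact absurd hi (bne_iff_ne.1 (hw.2 i (List.mem_finRange i)))
    · rw [minN, List.all_eq_true] at hm
      push Not at hm
      obtain ⟨i, -, hi⟩ := hm
      simp only [ne_eq, List.all_eq_true, not_forall] at hi
      obtain ⟨U, hU, hlt⟩ := hi
      rw [Nat.ble_eq, not_le] at hlt
      have hj : ∃ j, U = mulN (mulN (pN i) (codeT f)) (pN j) := by
        obtain ⟨p, -, hpi⟩ := pN_act i
        have e : mulN (pN i) (codeT f) = codeT ((actH p).comp f) := by rw [← code_comp, hpi]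
        have key : ∀ a b, linN (mulN (pN i) (codeT f)) (enc a) = b →
            b = enc (((actH p).comp f) a) := fun a b hab => by rw [← hab, e, lin_enc]
        simp only [show (codeT f).1 = enc (f e1) from rfl, show (codeT f).2.1 = enc (f e2) from rfl,
          show (codeT f).2.2 = enc (f e3) from rfl, rowN_lin, ← hpi, lin_enc, cols, List.mem_cons,
          List.not_mem_nil, or_false] at hU
        rw [e]
        obtain ⟨-, b1, b2, b3, -⟩ := enc_basis
        rcases hU with rfl | rfl | rfl | rfl | rfl | rfl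
        exacts [⟨0, by simp only [mulN, pN, ← b1, ← b2, ← b3, lin_enc, MonoidHom.comp_apply]⟩,
          ⟨1, by simp only [mulN, pN, ← b1, ← b2, ← b3, lin_enc, MonoidHom.comp_apply]⟩,
          ⟨2, by simp only [mulN, pN, ← b1, ← b2, ← b3, lin_enc, MonoidHom.comp_apply]⟩,
          ⟨3, by simp only [mulN, pN, ← b1, ← b2, ← b3, lin_enc, MonoidHom.comp_apply]⟩,
          ⟨4, by simp only [mulN, pN, ← b1, ← b2, ← b3, lin_enc, MonoidHom.comp_apply]⟩,
          ⟨5, by simp only [mulN, pN, ← b1, ← b2, ← b3, lin_enc, MonoidHom.comp_apply]⟩]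
      obtain ⟨j, rfl⟩ := hj
      obtain ⟨p, hp, hpi⟩ := pN_act i
      obtain ⟨q, hq, hqj⟩ := pN_act j
      rw [← hpi, ← hqj, code_comp, code_comp, hn] at hlt
      obtain ⟨c, hc⟩ := ih _ hlt _ (h.comp _ (h.comp _ (h.perm p hp) _ hf) _ (h.perm q hq)) rfl
      exact ⟨c, Good.of_perm hp hq (MonoidHom.comp_assoc (actH q) f (actH p) ▸ hc)⟩

end AutSet

/-- A sign change in changed coordinates. -/
def signN (c : Fin 3) (s : V8) : T3 :=
  mulN (cN (-c)) (mulN (codeT (actH (SemidirectProduct.inl s))) (cN c))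

theorem pair_bad : ∀ c d : Fin 3, c ≠ d → ∀ s t : V8, s ≠ 1 → s ≠ wi.left → t ≠ 1 → t ≠ wi.left →
    goodN (mulN (signN c s) (signN d t)) = false ∨ goodN (mulN (signN d t) (signN c s)) = false := by
  decide +kernel

theorem signN_code (c : Fin 3) (s : V8) :
    signN c s = codeT ((Pf (-c)).comp ((actH (SemidirectProduct.inl s)).comp (Pf c))) := by
  simp only [signN, ← Pf_code, code_comp]

/-- One change of coordinates makes all of them monomial. -/
theorem AutSet.exists_coords {Γ : Set (A →* A)} (h : AutSet Γ) :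
    ∃ c : Fin 3, ∀ f ∈ Γ, ∃ w : W, ∀ a, f (Pf (-c) a) = Pf (-c) (act w a) := by
  classical
  have base : ∀ f ∈ Γ, ∃ c : Fin 3, ∃ w : W, ∀ a, f (Pf (-c) a) = Pf (-c) (act w a) := fun f hf => by
    obtain ⟨c, w, hw⟩ := h.exists_good _ f hf rfl
    refine ⟨c, w, fun a => ?_⟩
    have e : Pf c (f (Pf (-c) a)) = act w a := DFunLike.congr_fun hw a
    rw [← e, (Pf_inv' c _).2]
  have hsign : ∀ f ∈ Γ, ∀ c : Fin 3, ∀ w : W, (∀ a, f (Pf (-c) a) = Pf (-c) (act w a)) →
      (Pf (-c)).comp ((actH (SemidirectProduct.inl w.left)).comp (Pf c)) ∈ Γ := by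
    intro f hf c w hw
    have hd : ((SemidirectProduct.inr w.right : W)⁻¹).left = 1 := by simp [SemidirectProduct.inv_left]
    have := h.comp f hf _ (h.perm _ hd)
    convert this using 1
    refine MonoidHom.ext fun a => ?_
    simp only [MonoidHom.comp_apply, actH_apply]
    rw [show act (SemidirectProduct.inr w.right : W)⁻¹ a =
        Pf (-c) (act (SemidirectProduct.inr w.right : W)⁻¹ (Pf c a)) by
      rw [Pf_perm (-c) _ (Or.inl hd), (Pf_inv' c a).2], hw, ← act_mul w]
    congr 2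
    exact eq_mul_inv_iff_mul_eq.2 (SemidirectProduct.inl_left_mul_inr_right w)
  have scalar : ∀ f : A →* A, ∀ c : Fin 3, ∀ w : W, (w.left = 1 ∨ w.left = wi.left) →
      (∀ a, f (Pf (-c) a) = Pf (-c) (act w a)) →
      ∀ d : Fin 3, ∀ a, f (Pf (-d) a) = Pf (-d) (act w a) := by
    intro f c w hw e d a
    have e2 : ∀ b, f b = act w b := fun b => by
      have := e (Pf c b)
      rw [(Pf_inv' c b).2, Pf_perm (-c) w hw, (Pf_inv' c b).2] at this
      exact this
    rw [e2, Pf_perm (-d) w hw]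
  by_cases hall : ∀ f ∈ Γ, ∀ c : Fin 3, ∀ w : W, (∀ a, f (Pf (-c) a) = Pf (-c) (act w a)) →
      w.left = 1 ∨ w.left = wi.left
  · refine ⟨0, fun f hf => ?_⟩
    obtain ⟨c, w, hw⟩ := base f hf
    exact ⟨w, scalar f c w (hall f hf c w hw) hw 0⟩
  push Not at hall
  obtain ⟨f, hf, c, w, hw, hw1, hw2⟩ := hall
  refine ⟨c, fun g hg => ?_⟩
  obtain ⟨d, v, hv⟩ := base g hg
  by_cases hv' : v.left = 1 ∨ v.left = wi.left
  · exact ⟨v, scalar g d v hv' hv c⟩
  push Not at hv'
  by_cases hcd : c = d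
  · subst hcd; exact ⟨v, hv⟩
  exfalso
  have hs := hsign f hf c w hw
  have ht := hsign g hg d v hv
  rcases pair_bad c d hcd w.left v.left hw1 hw2 hv'.1 hv'.2 with e | e <;>
    rw [signN_code, signN_code, code_comp] at e
  · exact absurd ((goodN_iff _).2 (h.exists_good _ _ (h.comp _ hs _ ht) rfl)) (by simp [e])
  · exact absurd ((goodN_iff _).2 (h.exists_good _ _ (h.comp _ ht _ hs) rfl)) (by simp [e])

end Cfsg.Agent.Sym9ThreeLocal
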