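import Cfsg.Agent.Sym9ThreeLocal.Model
import Mathlib.Data.Fintype.Perm
import Mathlib.GroupTheory.Perm.Basic

/-!
# The model as permutations of nine points
-/

set_option autoImplicit false
set_option synthInstance.maxSize 4000
set_option synthInstance.maxHeartbeats 400000

namespace Cfsg.Agent.Sym9ThreeLocal

open Equiv

/-- The block of a point. -/
def bkP (p : Fin 9) : Fin 3 := ⟨p.val / 3, by omega⟩

/-- The coordinate of a point in its block. -/
def crdP (p : Fin 9) : ZMod 3 := ((p.val % 3 : ℕ) : ZMod 3)

/-- The point with a given block and coordinate. -/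
def mkP (b : Fin 3) (y : ZMod 3) : Fin 9 := ⟨3 * b.val + y.val % 3, by omega⟩

/-- A translation of the coordinates. -/
def transFun (a : A) (p : Fin 9) : Fin 9 := mkP (bkP p) (crdP p + get a.toAdd (bkP p))

/-- A sign change of the coordinates. -/
def signFun (v : V8) (p : Fin 9) : Fin 9 := mkP (bkP p) (neg2 (get v.toAdd (bkP p)) (crdP p))

/-- A permutation of the blocks. -/
def blockFun (d : DihedralGroup 3) (p : Fin 9) : Fin 9 := mkP (blkInv d⁻¹ (bkP p)) (crdP p)

theorem transFun_one : ∀ p, transFun 1 p = p := by decide +kernel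

theorem transFun_mul : ∀ a b p, transFun (a * b) p = transFun a (transFun b p) := by decide +kernel

theorem signFun_one : ∀ p, signFun 1 p = p := by decide +kernel

theorem signFun_mul : ∀ a b p, signFun (a * b) p = signFun a (signFun b p) := by decide +kernel

theorem blockFun_one : ∀ p, blockFun 1 p = p := by decide +kernel

theorem blockFun_mul : ∀ a b p, blockFun (a * b) p = blockFun a (blockFun b p) := by decide +kernel

/-- An action as a homomorphism into the permutations. -/
def permOf {H : Type} [Group H] (f : H → Fin 9 → Fin 9) (h1 : ∀ p, f 1 p = p)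
    (hm : ∀ a b p, f (a * b) p = f a (f b p)) : H →* Perm (Fin 9) where
  toFun a :=
    { toFun := f a
      invFun := f a⁻¹
      left_inv := fun p => by rw [← hm, inv_mul_cancel, h1]
      right_inv := fun p => by rw [← hm, mul_inv_cancel, h1] }
  map_one' := Equiv.ext h1
  map_mul' a b := Equiv.ext (hm a b)

theorem sign_block : ∀ d : DihedralGroup 3, ∀ v : V8, ∀ p : Fin 9,
    signFun (psiFun d v) p = blockFun d (signFun v (blockFun d⁻¹ p)) := by decide +kernel

/-- The monomial group as permutations. -/
def permW : W →* Perm (Fin 9) :=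
  SemidirectProduct.lift (permOf signFun signFun_one signFun_mul) (permOf blockFun blockFun_one blockFun_mul)
    fun d => MonoidHom.ext fun v => Equiv.ext fun p => sign_block d v p

theorem trans_conj : ∀ q : W, ∀ a : A, ∀ p : Fin 9,
    transFun (act q a) p = permW q (transFun a ((permW q⁻¹) p)) := by decide +kernel

theorem trans_conj' (q : W) (a : A) (p : Fin 9) :
    transFun (act q a) p = permW q (transFun a ((permW q)⁻¹ p)) := by
  rw [← map_inv]; exact trans_conj q a p

/-- The model as permutations. -/
def permM : Mf →* Perm (Fin 9) :=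
  SemidirectProduct.lift (permOf transFun transFun_one transFun_mul) permW
    fun q => MonoidHom.ext fun a => Equiv.ext fun p => trans_conj' q a p

/-- The element whose centraliser is given. -/
def sigma : Perm (Fin 9) :=
  swap (0 : Fin 9) 1 * swap 1 2 * swap 3 4 * swap 4 5 * swap 6 7 * swap 7 8

theorem sigma_apply : ∀ p : Fin 9, sigma p = transFun xA p := by decide +kernel

theorem perm_xA : permM (SemidirectProduct.inl xA) = sigma := by
  rw [permM, SemidirectProduct.lift_inl]
  exact Equiv.ext fun p => (sigma_apply p).symm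

theorem permM_inj : ∀ m : Mf, (∀ p, permM m p = p) → m = 1 := by decide +kernel

theorem central_xA : ∀ m : Mf, inK .one m.right →
    m * SemidirectProduct.inl xA = SemidirectProduct.inl xA * m := by decide +kernel

theorem card_Mk_one : (Finset.univ.filter fun m : Mf => inK .one m.right).card = 162 := by decide +kernel

theorem reach : ∀ p : Fin 9, ∃ q : Fin 3, ∃ i : Fin 3, (sigma^[(i : ℕ)]) (mkP q 0) = p := by decide +kernel

theorem same_block : ∀ p q : Fin 9, bkP p = bkP q → ∃ i : Fin 3, (sigma^[(i : ℕ)]) p = q := by decide +kernel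

theorem orbit_base : ∀ q q' : Fin 3, ∀ i : Fin 3, (sigma^[(i : ℕ)]) (mkP q 0) = mkP q' 0 → q = q' := by
  decide +kernel

theorem count_base : (Finset.univ.filter fun t : Fin 9 × Fin 9 × Fin 9 =>
    bkP t.1 ≠ bkP t.2.1 ∧ bkP t.1 ≠ bkP t.2.2 ∧ bkP t.2.1 ≠ bkP t.2.2).card = 162 := by decide +kernel

/-- The permutations commuting with the given one. -/
def cS : Subgroup (Perm (Fin 9)) := Subgroup.centralizer {sigma}

/-- The automiser of the smallest kind, inside the centraliser. -/
def permC : Mk .one →* cS :=
  (permM.comp (Mk .one).subtype).codRestrict cS fun m => Subgroup.mem_centralizer_singleton_iff.2 (by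
    show permM m.1 * sigma = sigma * permM m.1
    rw [← perm_xA, ← map_mul, ← map_mul]
    exact congrArg permM (central_xA m.1 m.2))

theorem permC_bijective : Function.Bijective permC := by
  have hinj : Function.Injective permC := by
    refine (injective_iff_map_eq_one permC).2 fun m hm => Subtype.ext (permM_inj m.1 fun p => ?_)
    exact Equiv.congr_fun (congrArg Subtype.val hm) p
  refine (Function.Injective.bijective_of_nat_card_le hinj ?_)
  have h162 : Nat.card (Mk .one) = 162 := by
    rw [← card_Mk_one, ← Fintype.card_subtype, ← Nat.card_eq_fintype_card]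
    exact Nat.card_congr (Equiv.subtypeEquivRight fun _ => Iff.rfl)
  have key : ∀ (τ : cS) (n : ℕ) (p : Fin 9), (τ : Perm (Fin 9)) ((sigma^[n]) p) = (sigma^[n]) ((τ : Perm (Fin 9)) p) := by
    intro τ n p
    induction n with
    | zero => rfl
    | succ n ih =>
      rw [Function.iterate_succ_apply', Function.iterate_succ_apply', ← ih]
      exact Equiv.congr_fun (Subgroup.mem_centralizer_singleton_iff.1 τ.2) _
  have hd : ∀ τ : cS, ∀ q q' : Fin 3, bkP ((τ : Perm (Fin 9)) (mkP q 0)) = bkP ((τ : Perm (Fin 9)) (mkP q' 0)) →
      q = q' := fun τ q q' e => by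
    obtain ⟨i, hi⟩ := same_block _ _ e
    rw [← key] at hi
    exact orbit_base q q' i ((τ : Perm (Fin 9)).injective hi)
  rw [h162, ← count_base, ← Fintype.card_subtype, ← Nat.card_eq_fintype_card]
  refine Nat.card_le_card_of_injective (fun τ : cS => ⟨((τ : Perm (Fin 9)) (mkP 0 0), (τ : Perm (Fin 9)) (mkP 1 0),
    (τ : Perm (Fin 9)) (mkP 2 0)), fun e => absurd (hd τ _ _ e) (by decide),
    fun e => absurd (hd τ _ _ e) (by decide), fun e => absurd (hd τ _ _ e) (by decide)⟩) ?_
  intro τ υ e
  simp only [Subtype.mk.injEq, Prod.mk.injEq] at e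
  refine Subtype.ext (Equiv.ext fun p => ?_)
  obtain ⟨q, i, rfl⟩ := reach p
  rw [key, key]
  congr 1
  fin_cases q
  exacts [e.1, e.2.1, e.2.2]

end Cfsg.Agent.Sym9ThreeLocal
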