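import Cfsg.Agent.Sym9ThreeLocal.Basic
import Cfsg.Agent.Sym9ThreeLocal.Classify
import Cfsg.Agent.Sym9ThreeLocal.PermModel
import Cfsg.Agent.Core.Gaschutz

/-!
# Every group satisfying the hypotheses has a configuration
-/

set_option autoImplicit false
set_option synthInstance.maxSize 4000
set_option synthInstance.maxHeartbeats 400000

namespace Cfsg.Agent.Sym9ThreeLocal

open Subgroup

universe u

theorem central_cube : ∀ m : Mf, inK .one m.right → m ^ 3 = 1 → m ≠ 1 →
    (m * SemidirectProduct.inl (vec 1 0 0) = SemidirectProduct.inl (vec 1 0 0) * m) →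
    (m * SemidirectProduct.inr wc = SemidirectProduct.inr wc * m) →
    m = SemidirectProduct.inl xA ∨ m = (SemidirectProduct.inl xA)⁻¹ := by
  decide +kernel

/-- The weight of a sign change. -/
def wgt (v : V8) : Fin 4 :=
  ⟨v.toAdd.1.val % 2 + v.toAdd.2.1.val % 2 + v.toAdd.2.2.val % 2, by omega⟩

theorem psi_reach : ∀ v u : V8, wgt v = wgt u → ∃ d : DihedralGroup 3, psiFun d v = u := by decide +kernel

theorem kind_of_weights : ∀ b1 b2 b3 : Bool,
    (∀ v u : V8, (wgt v = 0 ∨ wgt v = 1 ∧ b1 = true ∨ wgt v = 2 ∧ b2 = true ∨ wgt v = 3 ∧ b3 = true) →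
      (wgt u = 0 ∨ wgt u = 1 ∧ b1 = true ∨ wgt u = 2 ∧ b2 = true ∨ wgt u = 3 ∧ b3 = true) →
      (wgt (v * u) = 0 ∨ wgt (v * u) = 1 ∧ b1 = true ∨ wgt (v * u) = 2 ∧ b2 = true ∨
        wgt (v * u) = 3 ∧ b3 = true)) →
    ∃ k : Kind, ∀ w : W, inK k w ↔
      (wgt w.left = 0 ∨ wgt w.left = 1 ∧ b1 = true ∨ wgt w.left = 2 ∧ b2 = true ∨ wgt w.left = 3 ∧ b3 = true) := by
  decide +kernel

theorem weight_zero : ∀ v : V8, wgt v = 0 → v = 1 := by decide +kernel

theorem kind_index : ∀ k, Nat.Coprime 27 ((Finset.univ.filter fun q : W => inK k q).card / 6) ∧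
    (Finset.univ.filter fun q : W => inK k q).card =
      6 * ((Finset.univ.filter fun q : W => inK k q).card / 6) := by decide +kernel

/-- A subgroup of the monomial group containing the permutations is one of the four. -/
theorem exists_kind (K : Subgroup W) (hK : ∀ w : W, w.left = 1 → w ∈ K) :
    ∃ k : Kind, ∀ w : W, inK k w ↔ w ∈ K := by
  classical
  let L : V8 → Prop := fun v => (SemidirectProduct.inl v : W) ∈ K
  have hr : ∀ d : DihedralGroup 3, (SemidirectProduct.inr d : W) ∈ K := fun d => hK _ rfl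
  have hL : ∀ w : W, w ∈ K ↔ L w.left := fun w => by
    conv_lhs => rw [← SemidirectProduct.inl_left_mul_inr_right w]
    exact K.mul_mem_cancel_right (hr _)
  have hinv : ∀ v u : V8, wgt v = wgt u → (L v ↔ L u) := by
    have key : ∀ (d : DihedralGroup 3) (v : V8), L v → L (psiFun d v) := fun d v hv => by
      show (SemidirectProduct.inl (psi d v) : W) ∈ K
      rw [SemidirectProduct.inl_aut]
      exact K.mul_mem (K.mul_mem (hr d) hv) (hr d⁻¹)
    intro v u e
    constructor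
    · intro hv
      obtain ⟨d, rfl⟩ := psi_reach v u e
      exact key d v hv
    · intro hu
      obtain ⟨d, rfl⟩ := psi_reach u v e.symm
      exact key d u hu
  let r1 : V8 := Multiplicative.ofAdd (1, 0, 0)
  let r2 : V8 := Multiplicative.ofAdd (1, 1, 0)
  let r3 : V8 := Multiplicative.ofAdd (1, 1, 1)
  have hw1 : wgt r1 = 1 := by decide
  have hw2 : wgt r2 = 2 := by decide
  have hw3 : wgt r3 = 3 := by decide
  have hiff : ∀ v : V8, L v ↔ (wgt v = 0 ∨ wgt v = 1 ∧ decide (L r1) = true ∨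
      wgt v = 2 ∧ decide (L r2) = true ∨ wgt v = 3 ∧ decide (L r3) = true) := by
    intro v
    simp only [decide_eq_true_eq]
    constructor
    · intro hv
      obtain e | e | e | e : wgt v = 0 ∨ wgt v = 1 ∨ wgt v = 2 ∨ wgt v = 3 := by
        generalize wgt v = x; fin_cases x <;> decide
      · exact Or.inl e
      · exact Or.inr (Or.inl ⟨e, (hinv v r1 (by rw [e, hw1])).1 hv⟩)
      · exact Or.inr (Or.inr (Or.inl ⟨e, (hinv v r2 (by rw [e, hw2])).1 hv⟩))
      · exact Or.inr (Or.inr (Or.inr ⟨e, (hinv v r3 (by rw [e, hw3])).1 hv⟩))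
    · rintro (e | ⟨e, h⟩ | ⟨e, h⟩ | ⟨e, h⟩)
      · rw [weight_zero v e]; show (SemidirectProduct.inl (1 : V8) : W) ∈ K; rw [map_one]; exact K.one_mem
      · exact (hinv v r1 (by rw [e, hw1])).2 h
      · exact (hinv v r2 (by rw [e, hw2])).2 h
      · exact (hinv v r3 (by rw [e, hw3])).2 h
  obtain ⟨k, hk⟩ := kind_of_weights (decide (L r1)) (decide (L r2)) (decide (L r3)) fun v u hv hu => by
    rw [← hiff] at hv hu ⊢
    show (SemidirectProduct.inl (v * u) : W) ∈ K
    rw [map_mul]; exact K.mul_mem hv hu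
  exact ⟨k, fun w => (hk w).trans ((hiff _).symm.trans (hL w).symm)⟩

/-- The changed coordinates. -/
def PfE (c : Fin 3) : MulAut A :=
  { toFun := Pf c
    invFun := Pf (-c)
    left_inv := fun a => (Pf_inv' c a).2
    right_inv := fun a => (Pf_inv' c a).1
    map_mul' := map_mul (Pf c) }

variable {G : Type u} [Group G] [Finite G]

theorem exists_coordinates (x : G) (hx : orderOf x = 3)
    (eC : centralizer ({x} : Set G) ≃* cS) (J : Subgroup G) (hJC : J ≤ centralizer ({x} : Set G))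
    (hJcomm : ∀ a ∈ J, ∀ b ∈ J, a * b = b * a) (hJexp : ∀ a ∈ J, a ^ 3 = 1) (hJcard : Nat.card J = 27) :
    ∃ ψ : Mk .one →* G, Function.Injective ψ ∧ ψ.range = centralizer ({x} : Set G) ∧
      centralizer ({ψ (inlA .one xA)} : Set G) = centralizer ({x} : Set G) ∧
      (ψ.comp (inlA .one)).range = J := by
  classical
  let e : Mk .one ≃* centralizer ({x} : Set G) :=
    (MulEquiv.ofBijective permC permC_bijective).trans eC.symm
  let ψ : Mk .one →* G := (centralizer ({x} : Set G)).subtype.comp e.toMonoidHom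
  have hinj : Function.Injective ψ := fun a b hab => e.injective (Subtype.ext hab)
  have hrange : ψ.range = centralizer ({x} : Set G) := by
    ext g
    constructor
    · rintro ⟨m, rfl⟩; exact (e m).2
    · exact fun hg => ⟨e.symm ⟨g, hg⟩, by show ((e (e.symm ⟨g, hg⟩)) : G) = g; rw [e.apply_symm_apply]⟩
  have hxC : x ∈ centralizer ({x} : Set G) := mem_centralizer_singleton_iff.2 rfl
  obtain ⟨m, hm⟩ : x ∈ ψ.range := hrange ▸ hxC
  have hcent : ∀ n : Mk .one, m * n = n * m := fun n => hinj (by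
    rw [map_mul, map_mul, hm]
    exact (mem_centralizer_singleton_iff.1 (e n).2).symm)
  have hx1 : x ≠ 1 := fun e1 => by rw [e1, orderOf_one] at hx; omega
  have hm3 : m.1 ^ 3 = 1 := by
    have : m ^ 3 = 1 := hinj (by rw [map_pow, hm, map_one, ← hx, pow_orderOf_eq_one])
    exact congrArg Subtype.val this
  have hwc : inK .one wc := rfl
  have hcen : centralizer ({ψ (inlA .one xA)} : Set G) = centralizer ({x} : Set G) := by
    have hm' := central_cube m.1 m.2 hm3 (fun e1 => hx1 (by rw [← hm, show m = 1 from Subtype.ext e1, map_one]))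
      (congrArg Subtype.val (hcent (inlA .one (vec 1 0 0))))
      (congrArg Subtype.val (hcent ⟨SemidirectProduct.inr wc, hwc⟩))
    rcases hm' with hm' | hm'
    · rw [show inlA .one xA = m from Subtype.ext hm'.symm, hm]
    · rw [show inlA .one xA = m⁻¹ from Subtype.ext (by
        show SemidirectProduct.inl xA = (m.1)⁻¹
        rw [hm', inv_inv]), map_inv, hm, A9ThreeLocal.centralizer_inv]
  refine ⟨ψ, hinj, hrange, hcen, ?_⟩
  have hJle : J ≤ (ψ.comp (inlA .one)).range := by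
    intro y hy
    obtain ⟨m, rfl⟩ : y ∈ ψ.range := hrange ▸ hJC hy
    by_cases hr : m.1.right = 1
    · exact ⟨m.1.left, congrArg ψ (Subtype.ext (SemidirectProduct.ext rfl hr.symm))⟩
    exfalso
    have h27 : m.1 ^ 27 = 1 := by
      have : m ^ 27 = 1 := hinj (by
        rw [map_pow, map_one, show (27 : ℕ) = 3 * 9 from rfl, pow_mul, hJexp _ hy, one_pow])
      exact congrArg Subtype.val this
    have hlt := abelian_small m.1 m.2 hr h27
    have hex : ∀ t : J, ∃ n : Mk .one, ψ n = t := fun t => by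
      obtain ⟨n, hn⟩ : (t : G) ∈ ψ.range := hrange ▸ hJC t.2
      exact ⟨n, hn⟩
    choose f hf using hex
    have hle : Nat.card J ≤ (Finset.univ.filter fun n : Mf => n.right.left = 1 ∧ n * m.1 = m.1 * n).card := by
      rw [← Fintype.card_subtype, ← Nat.card_eq_fintype_card]
      refine Nat.card_le_card_of_injective (fun t : J => ⟨(f t).1, (f t).2, ?_⟩) fun s t h => ?_
      · exact congrArg Subtype.val (show f t * m = m * f t from
          hinj (by rw [map_mul, map_mul, hf]; exact hJcomm _ t.2 _ hy))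
      · have h' : f s = f t := Subtype.ext (congrArg Subtype.val h :)
        exact Subtype.ext (by rw [← hf s, ← hf t, h'])
    omega
  refine (eq_of_le_of_card_ge hJle ?_).symm
  rw [hJcard, ← card_A]
  exact (Nat.card_le_card_of_surjective _ (ψ.comp (inlA .one)).rangeRestrict_surjective)

theorem inlA_range_one (n : Mk .one) (a : A) :
    n * inlA .one a * n⁻¹ = inlA .one (act n.1.right a) := by
  rw [mul_inv_eq_iff_eq_mul]
  refine Subtype.ext (SemidirectProduct.ext ?_ ?_)
  · show n.1.left * act n.1.right a = act n.1.right a * act 1 n.1.left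
    rw [act_one, mul_comm]
  · show n.1.right * 1 = 1 * n.1.right
    rw [mul_one, one_mul]

/-- The hypotheses give a configuration. -/
theorem exists_conf (x : G) (hx : orderOf x = 3)
    (eC : centralizer ({x} : Set G) ≃*
      centralizer ({Equiv.swap (0 : Fin 9) 1 * Equiv.swap 1 2 * Equiv.swap 3 4 * Equiv.swap 4 5 *
        Equiv.swap 6 7 * Equiv.swap 7 8} : Set (Equiv.Perm (Fin 9))))
    (J : Subgroup G) (hJC : J ≤ centralizer ({x} : Set G)) (hJcomm : IsMulCommutative J)
    (hJexp : ∀ j ∈ J, j ^ 3 = 1) (hJcard : Nat.card J = 27)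
    (hJsig : ∀ K : Subgroup G, (Nat.card K).Coprime 3 →
      (∀ j ∈ J, K.map (MulAut.conj j).toMonoidHom = K) → K = ⊥) :
    ∃ h : Conf G, h.J = J := by
  classical
  have hcomm : ∀ a ∈ J, ∀ b ∈ J, a * b = b * a := fun a ha b hb => by
    have := hJcomm.is_comm.comm ⟨a, ha⟩ ⟨b, hb⟩
    exact congrArg Subtype.val this
  obtain ⟨ψ, hψ, hψr, hψc, hψJ⟩ := exists_coordinates x hx eC J hJC hcomm hJexp hJcard
  set j₀ : A →* G := ψ.comp (inlA .one) with hj₀
  have hj₀inj : Function.Injective j₀ := hψ.comp fun a b e =>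
    SemidirectProduct.inl_injective (congrArg Subtype.val e)
  set N : Subgroup G := normalizer (J : Set G) with hN
  -- the elements acting on `J`
  have hact : ∀ g ∈ N, ∃ f : A →* A, ∀ a, g * j₀ a * g⁻¹ = j₀ (f a) := by
    intro g hg
    have hex : ∀ a, ∃ b, g * j₀ a * g⁻¹ = j₀ b := fun a => by
      have := (mem_normalizer_iff.1 hg (j₀ a)).1 (hψJ ▸ ⟨a, rfl⟩)
      rw [← hψJ] at this
      obtain ⟨b, hb⟩ := this
      exact ⟨b, hb.symm⟩
    choose f hf using hex
    refine ⟨MonoidHom.mk' f fun a b => hj₀inj ?_, hf⟩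
    rw [map_mul, ← hf, ← hf, ← hf, map_mul]; group
  have hCN : centralizer ({x} : Set G) ≤ N := by
    intro g hg
    obtain ⟨n, rfl⟩ : g ∈ ψ.range := hψr ▸ hg
    refine mem_normalizer_fintype fun y hy => ?_
    rw [SetLike.mem_coe, ← hψJ] at hy ⊢
    obtain ⟨a, rfl⟩ := hy
    exact ⟨act n.1.right a, by
      show ψ (inlA .one (act n.1.right a)) = ψ n * ψ (inlA .one a) * (ψ n)⁻¹
      rw [← inlA_range_one n a, map_mul, map_mul, map_inv]⟩
  have hψact : ∀ n : Mk .one, ∀ a, ψ n * j₀ a * (ψ n)⁻¹ = j₀ (act n.1.right a) := fun n a => by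
    show ψ n * ψ (inlA .one a) * (ψ n)⁻¹ = ψ (inlA .one (act n.1.right a))
    rw [← inlA_range_one n a, map_mul, map_mul, map_inv]
  have hxfix : ∀ g : G, g * j₀ xA * g⁻¹ = j₀ xA → g ∈ centralizer ({x} : Set G) := fun g hg => by
    rw [← hψc]; exact mem_centralizer_singleton_iff.2 (mul_inv_eq_iff_eq_mul.1 hg)
  let Γ : Set (A →* A) := {f | ∃ g ∈ N, ∀ a, g * j₀ a * g⁻¹ = j₀ (f a)}
  have hΓ : AutSet Γ := by
    refine ⟨?_, ?_, ?_, ?_⟩
    · rintro f ⟨g, hg, e⟩ f' ⟨g', hg', e'⟩
      refine ⟨g * g', N.mul_mem hg hg', fun a => ?_⟩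
      show g * g' * j₀ a * (g * g')⁻¹ = j₀ (f (f' a))
      rw [← e, ← e']; group
    · intro w hw
      refine ⟨ψ ⟨SemidirectProduct.inr w, hw⟩, hCN (hψr ▸ ⟨_, rfl⟩), fun a => ?_⟩
      rw [hψact]; rfl
    · rintro f ⟨g, -, e⟩ a b hab
      refine hj₀inj ?_
      have := (e a).trans ((congrArg j₀ hab).trans (e b).symm)
      simpa using this
    · rintro f ⟨g, -, e⟩ hfx
      obtain ⟨n, rfl⟩ : g ∈ ψ.range := hψr ▸ hxfix g (by rw [e, hfx])
      exact ⟨n.1.right, n.2, MonoidHom.ext fun a => hj₀inj (by rw [← e, hψact]; rfl)⟩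
  obtain ⟨c, hc⟩ := hΓ.exists_coords
  -- new coordinates
  set j : A →* G := j₀.comp (Pf (-c)) with hj
  have hjinj : Function.Injective j := hj₀inj.comp (PfE c).symm.injective
  have hjJ : j.range = J := by
    rw [← hψJ]
    ext y
    constructor
    · rintro ⟨a, rfl⟩; exact ⟨_, rfl⟩
    · rintro ⟨a, rfl⟩
      exact ⟨Pf c a, by show j₀ (Pf (-c) (Pf c a)) = j₀ a; rw [(Pf_inv' c a).2]⟩
  have hjmem : ∀ a, j a ∈ J := fun a => hjJ ▸ ⟨a, rfl⟩
  have hjx : j xA = j₀ xA := by show j₀ (Pf (-c) xA) = j₀ xA; rw [Pf_xA]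
  have hjact : ∀ g ∈ N, ∃ w : W, ∀ a, g * j a * g⁻¹ = j (act w a) := by
    intro g hg
    obtain ⟨f, hf⟩ := hact g hg
    obtain ⟨w, hw⟩ := hc f ⟨g, hg, hf⟩
    exact ⟨w, fun a => by show g * j₀ (Pf (-c) a) * g⁻¹ = _; rw [hf, hw]; rfl⟩
  have huni : ∀ (g : G) (v w : W), (∀ a, g * j a * g⁻¹ = j (act v a)) →
      (∀ a, g * j a * g⁻¹ = j (act w a)) → v = w := by
    intro g v w hv hw
    have : w⁻¹ * v = 1 := act_inj _ fun a => by
      rw [act_mul, hjinj ((hv a).symm.trans (hw a)), ← act_mul, inv_mul_cancel, act_one]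
    exact (eq_of_inv_mul_eq_one this).symm
  let K : Subgroup W :=
    { carrier := {w | ∃ g ∈ N, ∀ a, g * j a * g⁻¹ = j (act w a)}
      one_mem' := ⟨1, N.one_mem, fun a => by rw [act_one]; group⟩
      mul_mem' := by
        rintro v w ⟨g, hg, e⟩ ⟨g', hg', e'⟩
        exact ⟨g * g', N.mul_mem hg hg', fun a => by rw [act_mul, ← e, ← e']; group⟩
      inv_mem' := by
        rintro v ⟨g, hg, e⟩
        refine ⟨g⁻¹, N.inv_mem hg, fun a => ?_⟩
        have h1 := e (act v⁻¹ a)
        rw [← act_mul, mul_inv_cancel, act_one] at h1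
        rw [← h1]; group }
  have hperm : ∀ n : Mk .one, ∀ a, ψ n * j a * (ψ n)⁻¹ = j (act n.1.right a) := fun n a => by
    show ψ n * j₀ (Pf (-c) a) * (ψ n)⁻¹ = j₀ (Pf (-c) (act n.1.right a))
    rw [hψact, Pf_perm (-c) n.1.right (Or.inl (show n.1.right.left = 1 from n.2))]
  obtain ⟨k, hk⟩ := exists_kind K fun w hw =>
    ⟨ψ ⟨SemidirectProduct.inr w, hw⟩, hCN (hψr ▸ ⟨_, rfl⟩), fun a => hperm _ a⟩
  have hlift : ∀ w : KG k, ∃ g : G, g ∈ N ∧ ∀ a, g * j a * g⁻¹ = j (act w a) := fun w => by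
    obtain ⟨g, hg, e⟩ := (hk w).1 w.2
    exact ⟨g, hg, e⟩
  choose lft hlftN hlft using hlift
  have hkJ : ∀ g : G, (∀ a, g * j a * g⁻¹ = j a) → g ∈ J := by
    intro g hg
    obtain ⟨n, rfl⟩ : g ∈ ψ.range := hψr ▸ hxfix g (by rw [← hjx]; exact hg xA)
    have h1 : n.1.right = 1 := act_inj _ fun a => hjinj ((hperm n a).symm.trans (hg a))
    rw [← hψJ]
    exact ⟨n.1.left, congrArg ψ (Subtype.ext (SemidirectProduct.ext rfl h1.symm))⟩
  -- a complement
  have hJN : J ≤ N := Subgroup.le_normalizer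
  set K' : Subgroup N := J.subgroupOf N with hK'
  haveI : K'.Normal := (Subgroup.normal_subgroupOf_iff_le_normalizer hJN).2 le_rfl
  haveI : IsMulCommutative K' :=
    ⟨⟨fun a b => Subtype.ext (Subtype.ext (hcomm _ (mem_subgroupOf.1 a.2) _ (mem_subgroupOf.1 b.2)))⟩⟩
  set U : Subgroup N := (centralizer ({x} : Set G)).subgroupOf N with hU
  have hψN : ∀ n, ψ n ∈ N := fun n => hCN (hψr ▸ ⟨n, rfl⟩)
  let P : Subgroup N := ((inrK .one).range.map ψ).subgroupOf N
  have hcardN : Nat.card N = 27 * Nat.card (KG k) := by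
    rw [← card_A, ← Nat.card_prod]
    refine (Nat.card_congr (Equiv.ofBijective
      (fun p : A × KG k => (⟨j p.1 * lft p.2, N.mul_mem (hJN (hjmem _)) (hlftN _)⟩ : N))
      ⟨?_, ?_⟩)).symm
    · rintro ⟨a, v⟩ ⟨b, w⟩ h
      have h' : j a * lft v = j b * lft w := congrArg Subtype.val h
      have hvw : v = w := Subtype.ext (huni (j a * lft v) v w
        (fun t => by
          rw [show j a * lft v * j t * (j a * lft v)⁻¹ = j a * (lft v * j t * (lft v)⁻¹) * (j a)⁻¹ by group,
            hlft, ← map_mul, ← map_inv, ← map_mul, mul_comm a, mul_inv_cancel_right])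
        (fun t => by
          rw [h', show j b * lft w * j t * (j b * lft w)⁻¹ = j b * (lft w * j t * (lft w)⁻¹) * (j b)⁻¹ by group,
            hlft, ← map_mul, ← map_inv, ← map_mul, mul_comm b, mul_inv_cancel_right]))
      subst hvw
      exact Prod.ext (hjinj (mul_right_cancel h')) rfl
    · rintro ⟨g, hg⟩
      obtain ⟨w, hw⟩ := hjact g hg
      let v : KG k := ⟨w, (hk w).2 ⟨g, hg, hw⟩⟩
      have : g * (lft v)⁻¹ ∈ J := hkJ _ fun a => by
        have h1 := hlft v (act (w : W)⁻¹ a)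
        rw [show ((v : W)) = w from rfl, ← act_mul, mul_inv_cancel, act_one] at h1
        have h2 := hw (act (w : W)⁻¹ a)
        rw [← act_mul, mul_inv_cancel, act_one] at h2
        conv_lhs => rw [← h1]
        conv_rhs => rw [← h2]
        group
      rw [← hjJ] at this
      obtain ⟨a, ha⟩ := this
      exact ⟨(a, v), Subtype.ext (by show j a * lft v = g; rw [ha]; group)⟩
  have hKU : K' ≤ U := fun g hg => mem_subgroupOf.2 (hJC (mem_subgroupOf.1 hg))
  have hcardU : Nat.card U = 162 := by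
    rw [hU, Nat.card_congr (subgroupOfEquivOfLe hCN).toEquiv, ← hψr,
      ← Nat.card_congr (MonoidHom.ofInjective hψ).toEquiv, ← card_Mk_one, ← Fintype.card_subtype,
      ← Nat.card_eq_fintype_card]
    exact Nat.card_congr (Equiv.subtypeEquivRight fun _ => Iff.rfl)
  have hcop : (Nat.card K').Coprime U.index := by
    rw [hK', Nat.card_congr (subgroupOfEquivOfLe hJN).toEquiv, hJcard]
    have h1 := U.card_mul_index
    rw [hcardU, hcardN] at h1
    have h2 : Nat.card (KG k) = (Finset.univ.filter fun q : W => inK k q).card := by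
      rw [← Fintype.card_subtype, ← Nat.card_eq_fintype_card]
      exact Nat.card_congr (Equiv.subtypeEquivRight fun _ => Iff.rfl)
    obtain ⟨hc1, hc2⟩ := kind_index k
    rw [h2, hc2] at h1
    rwa [show U.index = (Finset.univ.filter fun q : W => inK k q).card / 6 by omega]
  have hPU : P ≤ U := fun g hg => mem_subgroupOf.2 (by
    obtain ⟨n, -, e⟩ := mem_subgroupOf.1 hg
    rw [← e, ← hψr]; exact ⟨n, rfl⟩)
  have hPK : P ⊓ K' = ⊥ := by
    rw [eq_bot_iff]
    rintro g ⟨hP, hK⟩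
    obtain ⟨_, ⟨w, rfl⟩, e⟩ := mem_subgroupOf.1 hP
    replace hK : (g : G) ∈ J := hK
    rw [← hψJ] at hK
    obtain ⟨a, ha⟩ := hK
    have h1 : inrK .one w = inlA .one a := hψ (e.trans ha.symm)
    have h2 : (w : W) = 1 := congrArg (fun m : Mk .one => m.1.right) h1
    refine mem_bot.2 (Subtype.ext ?_)
    rw [← e, show w = 1 from Subtype.ext h2, map_one, map_one]; rfl
  have hKP : K' ⊔ P = U := by
    refine le_antisymm (sup_le hKU hPU) fun g hg => ?_
    obtain ⟨n, hn⟩ : (g : G) ∈ ψ.range := hψr ▸ mem_subgroupOf.1 hg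
    have hJmem : ψ (inlA .one n.1.left) ∈ J := hψJ ▸ ⟨_, rfl⟩
    have e : g = (⟨ψ (inlA .one n.1.left), hψN _⟩ : N) * ⟨ψ (inrK .one ⟨n.1.right, n.2⟩), hψN _⟩ :=
      Subtype.ext (by
        show (g : G) = ψ _ * ψ _
        rw [← map_mul, ← Mk_split, hn])
    rw [e]
    exact mul_mem (mem_sup_left (mem_subgroupOf.2 hJmem))
      (mem_sup_right (mem_subgroupOf.2 ⟨_, ⟨_, rfl⟩, rfl⟩))
  obtain ⟨H, hH⟩ := Core.gaschutz_exists hKU hcop hPU hPK hKP
  have hsec : ∀ w : KG k, ∃! h : H, ∀ a, ((h : N) : G) * j a * ((h : N) : G)⁻¹ = j (act w a) := by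
    intro w
    obtain ⟨⟨⟨t, ht⟩, s⟩, e⟩ := hH.2 ⟨lft w, hlftN w⟩
    have e' : (t : G) * ((s : N) : G) = lft w := congrArg Subtype.val e
    replace ht : (t : G) ∈ J := ht
    refine ⟨s, fun a => ?_, fun s' hs' => ?_⟩
    · have h1 := hlft w a
      rw [← e'] at h1
      calc ((s : N) : G) * j a * ((s : N) : G)⁻¹ =
          (t : G)⁻¹ * ((t : G) * ((s : N) : G) * j a * ((t : G) * ((s : N) : G))⁻¹) * t := by group
        _ = (t : G)⁻¹ * j (act w a) * t := by rw [h1]
        _ = j (act w a) := by rw [mul_assoc, hcomm _ (hjmem _) _ ht, inv_mul_cancel_left]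
    · have h2 : ∀ a, ((s : N) : G) * j a * ((s : N) : G)⁻¹ = j (act w a) := fun a => by
        have h1 := hlft w a
        rw [← e'] at h1
        calc ((s : N) : G) * j a * ((s : N) : G)⁻¹ =
            (t : G)⁻¹ * ((t : G) * ((s : N) : G) * j a * ((t : G) * ((s : N) : G))⁻¹) * t := by group
          _ = (t : G)⁻¹ * j (act w a) * t := by rw [h1]
          _ = j (act w a) := by rw [mul_assoc, hcomm _ (hjmem _) _ ht, inv_mul_cancel_left]
      have hmem : ((s : N) : G)⁻¹ * ((s' : N) : G) ∈ J := hkJ _ fun a => by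
        rw [show ((s : N) : G)⁻¹ * ((s' : N) : G) * j a * (((s : N) : G)⁻¹ * ((s' : N) : G))⁻¹ =
          ((s : N) : G)⁻¹ * (((s' : N) : G) * j a * ((s' : N) : G)⁻¹) * ((s : N) : G) by group, hs', ← h2]
        group
      have h3 : (s : N)⁻¹ * (s' : N) ∈ K' ⊓ H := ⟨mem_subgroupOf.2 hmem, H.mul_mem (H.inv_mem s.2) s'.2⟩
      rw [disjoint_iff.1 hH.disjoint, mem_bot, inv_mul_eq_one] at h3
      exact Subtype.ext h3.symm
  choose sct hsct hsuni using hsec
  let q : KG k →* G := MonoidHom.mk' (fun w => ((sct w : N) : G)) fun v w => by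
    have : sct v * sct w = sct (v * w) := hsuni _ _ fun a => by
      show ((sct v : N) : G) * ((sct w : N) : G) * j a * (((sct v : N) : G) * ((sct w : N) : G))⁻¹ = _
      rw [show ((sct v : N) : G) * ((sct w : N) : G) * j a * (((sct v : N) : G) * ((sct w : N) : G))⁻¹ =
        ((sct v : N) : G) * (((sct w : N) : G) * j a * ((sct w : N) : G)⁻¹) * ((sct v : N) : G)⁻¹ by group,
        hsct, hsct, ← act_mul]
      rfl
    rw [← this]; rfl
  have hq : ∀ (w : KG k) (a : A), q w * j a * (q w)⁻¹ = j (act w a) := fun w a => hsct w a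
  let φ : Mk k →* G := MonoidHom.mk' (fun m => j m.1.left * q ⟨m.1.right, m.2⟩) fun m n => by
    show j (m.1.left * act m.1.right n.1.left) * q (⟨m.1.right, m.2⟩ * ⟨n.1.right, n.2⟩) = _
    rw [map_mul, map_mul, ← hq ⟨m.1.right, m.2⟩]
    group
  have hφl : ∀ a, φ (inlA k a) = j a := fun a => by
    show j a * q 1 = j a
    rw [map_one, mul_one]
  have hrangeN : φ.range = N := by
    refine le_antisymm ?_ fun g hg => ?_
    · rintro _ ⟨m, rfl⟩
      exact N.mul_mem (hJN (hjmem _)) (sct ⟨m.1.right, m.2⟩).1.2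
    · obtain ⟨w, hw⟩ := hjact g hg
      let v : KG k := ⟨w, (hk w).2 ⟨g, hg, hw⟩⟩
      have : g * (q v)⁻¹ ∈ J := hkJ _ fun a => by
        have h1 := hq v (act (w : W)⁻¹ a)
        rw [show ((v : W)) = w from rfl, ← act_mul, mul_inv_cancel, act_one] at h1
        have h2 := hw (act (w : W)⁻¹ a)
        rw [← act_mul, mul_inv_cancel, act_one] at h2
        conv_lhs => rw [← h1]
        conv_rhs => rw [← h2]
        group
      rw [← hjJ] at this
      obtain ⟨a, ha⟩ := this
      exact ⟨inlA k a * inrK k v, by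
        rw [map_mul, hφl, show φ (inrK k v) = q v by show j 1 * q v = q v; rw [map_one, one_mul], ha]
        group⟩
  have hinj : Function.Injective φ := by
    refine (injective_iff_map_eq_one φ).2 fun m hm => ?_
    have hq1 : q ⟨m.1.right, m.2⟩ = j (m.1.left)⁻¹ := by
      rw [map_inv]; exact eq_inv_of_mul_eq_one_right hm
    have hr : m.1.right = 1 := huni (q ⟨m.1.right, m.2⟩) _ _ (fun a => hq ⟨m.1.right, m.2⟩ a) fun a => by
      rw [hq1, ← map_mul, ← map_inv, ← map_mul, mul_comm _ a, mul_inv_cancel_right, act_one]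
    have h1 : j m.1.left = 1 := by
      have e : φ m = 1 := hm
      rwa [show φ m = j m.1.left * q 1 from congrArg (fun w => j m.1.left * q w) (Subtype.ext hr),
        map_one, mul_one] at e
    exact Subtype.ext (SemidirectProduct.ext (hjinj (h1.trans (map_one j).symm)) hr)
  refine ⟨{ k := k, φ := φ, inj := hinj, norm := ?_, centX := ?_, sig := ?_ }, ?_⟩
  · intro g hg
    rw [hrangeN]
    refine mem_normalizer_fintype fun y hy => ?_
    rw [SetLike.mem_coe, ← hjJ] at hy ⊢
    obtain ⟨a, rfl⟩ := hy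
    obtain ⟨b, hb⟩ := hg a
    rw [hφl, hφl] at hb
    exact ⟨b, hb.symm⟩
  · rw [hφl, hjx, show j₀ xA = ψ (inlA .one xA) from rfl, hψc, hrangeN]
    exact hCN
  · intro L hL hconj
    refine hJsig L hL fun y hy => ?_
    rw [← hjJ] at hy
    obtain ⟨a, rfl⟩ := hy
    rw [← hφl]
    exact hconj a
  · refine SetLike.ext fun y => ⟨?_, fun hy => ?_⟩
    · rintro ⟨a, rfl⟩
      exact (hφl a).symm ▸ hjmem a
    · obtain ⟨a, rfl⟩ : y ∈ j.range := hjJ.symm ▸ hy
      exact ⟨a, hφl a⟩

end Cfsg.Agent.Sym9ThreeLocal
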