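import Cfsg.Agent.Sym9ThreeLocal.Tau
import Cfsg.Agent.A9ThreeLocal.Final
import Cfsg.Agent.A9ThreeLocal.LocalTop
import Cfsg.Agent.S2119

/-!
# From a subgroup of index two to the symmetric group of degree nine
-/

set_option autoImplicit false
set_option synthInstance.maxSize 4000
set_option synthInstance.maxHeartbeats 400000

namespace Cfsg.Agent.Sym9ThreeLocal

open Cfsg Cfsg.Agent Subgroup

universe u

/-- The complement of the model of the alternating group inside the monomial group. -/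
def iotaQFun (q : ThreeFullWreath.Q) : W :=
  match q.right with
  | .r i => wq q.left.toAdd.1 q.left.toAdd.2 (q.left.toAdd.1 + q.left.toAdd.2) (.r i)
  | .sr i => wq (q.left.toAdd.1 + 1) (q.left.toAdd.2 + 1) (q.left.toAdd.1 + q.left.toAdd.2 + 1) (.sr i)

/-- The sum of the signs. -/
def sumOf (u : W) : ZMod 2 := u.left.toAdd.1 + u.left.toAdd.2.1 + u.left.toAdd.2.2

/-- The parity of the permutation of nine points. -/
def parityOf (u : W) : ZMod 2 := sumOf u + match u.right with
  | .r _ => 0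
  | .sr _ => 1

theorem iotaQ_facts : (∀ a b, iotaQFun (a * b) = iotaQFun a * iotaQFun b) ∧
    (∀ q, ∀ t : A, act (iotaQFun q) t = ThreeFullWreath.theta q t) ∧
    (∀ q, parityOf (iotaQFun q) = 0) ∧ (∀ u : W, parityOf u = 0 → ∃ q, iotaQFun q = u) ∧
    (∀ q, iotaQFun q = 1 → q = 1) := by
  decide +kernel

/-- The complement, embedded. -/
def iotaQ : ThreeFullWreath.Q →* W := MonoidHom.mk' iotaQFun iotaQ_facts.1

/-- The model of the alternating normaliser inside the larger model. -/
def iota : ThreeFullWreath.M →* Mf :=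
  SemidirectProduct.map (MonoidHom.id A) iotaQ fun q => MonoidHom.ext fun t => (iotaQ_facts.2.1 q t).symm

theorem iota_left (m : ThreeFullWreath.M) : (iota m).left = m.left := rfl

theorem iota_right (m : ThreeFullWreath.M) : (iota m).right = iotaQFun m.right := rfl

theorem iota_injective : Function.Injective iota := by
  intro a b e
  have hl := congrArg SemidirectProduct.left e
  have hr := congrArg SemidirectProduct.right e
  rw [iota_left, iota_left] at hl
  rw [iota_right, iota_right] at hr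
  refine SemidirectProduct.ext hl (eq_of_inv_mul_eq_one (iotaQ_facts.2.2.2.2 _ ?_))
  show iotaQ (a.right⁻¹ * b.right) = 1
  rw [map_mul, map_inv, inv_mul_eq_one]
  exact hr

theorem eight_all : ∀ u : W, inK .eight u := fun _ => trivial

theorem sum_facts : (∀ u v : W, sumOf (u * v) = sumOf u + sumOf v) ∧ sumOf 1 = 0 ∧
    (∀ u : W, inK .four u ↔ sumOf u = 0) ∧ (∀ u : W, sumOf u⁻¹ = sumOf u) ∧
    (∀ u v : W, parityOf (u * v) = parityOf u + parityOf v) ∧ parityOf 1 = 0 ∧
    (∀ u : W, parityOf u⁻¹ = parityOf u) ∧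
    sumOf wf = 1 ∧ sumOf wt = 0 ∧ sumOf wc = 0 ∧ parityOf wf = 1 ∧ parityOf wt = 1 ∧ parityOf wc = 0 ∧
    wc ^ 3 = 1 ∧ (∀ u : W, ∃ a b c : Fin 2, ∃ i : Fin 3, ∃ e : Fin 2,
      wf ^ (a : ℕ) * (wc * wf * wc⁻¹) ^ (b : ℕ) * (wc * wc * wf * (wc * wc)⁻¹) ^ (c : ℕ) *
        wc ^ (i : ℕ) * wt ^ (e : ℕ) = u) ∧
    (∀ a b : ZMod 2, ((a = 0) ↔ (b = 0)) ↔ a + b = 0) ∧
    (∀ a : A, ∀ m : ThreeFullWreath.M, m.right = 1 → m.left = a → iota m = SemidirectProduct.inl a) ∧
    (Finset.univ.filter fun u : W => act u 1 = 1).card = 48 := by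
  refine ⟨by decide +kernel, by decide +kernel, by decide +kernel, by decide +kernel, by decide +kernel,
    by decide +kernel, by decide +kernel, by decide +kernel, by decide +kernel, by decide +kernel,
    by decide +kernel, by decide +kernel, by decide +kernel, by decide +kernel, by decide +kernel,
    by decide +kernel, fun a m hm hl => ?_, by decide +kernel⟩
  refine SemidirectProduct.ext (by rw [iota_left, hl, SemidirectProduct.left_inl]) ?_
  rw [iota_right, hm, SemidirectProduct.right_inl]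
  exact map_one iotaQ

theorem line_classes : ∀ m : ThreeFullWreath.M, m.right = 1 → m ≠ 1 →
    ThreeFullWreath.cls m = ThreeFullWreath.cls A9ThreeLocal.e1M ∨
    ThreeFullWreath.cls m = ThreeFullWreath.cls A9ThreeLocal.uM ∨
    ThreeFullWreath.cls m = ThreeFullWreath.cls A9ThreeLocal.aM := by
  decide +kernel

/-- The dichotomy for the normal subgroup. -/
theorem alt_dichotomy {G : Type u} [Group G] [Finite G] (hh : A9ThreeLocal.Hyp G) :
    hh.φ.range = ⊤ ∨ Nonempty (G ≃* alternatingGroup (Fin 9)) := by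
  classical
  haveI := Fintype.ofFinite G
  rcases hh.centre_big with hc | ⟨⟨B⟩⟩
  · left
    have hloc : A9ThreeLocal.AllLocal hh.φ :=
      { inj := hh.inj
        loc := fun m hm hm1 => by
          have key : ∀ x : ThreeFullWreath.M, Subgroup.centralizer ({hh.φ x} : Set G) ≤ hh.φ.range →
              ThreeFullWreath.cls m = ThreeFullWreath.cls x →
              Subgroup.centralizer ({hh.φ m} : Set G) ≤ hh.φ.range := fun x hx e => by
            obtain ⟨k, hk⟩ := isConj_iff.1 (ThreeFullWreath.isConj_iff_cls.2 e.symm)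
            rw [← hk, map_mul, map_mul, map_inv, A9ThreeLocal.centralizer_conj]
            rintro _ ⟨y, hy, rfl⟩
            obtain ⟨n, rfl⟩ := hx hy
            exact ⟨k * n * k⁻¹, by simp⟩
          rcases line_classes m hm hm1 with e | e | e
          · exact key _ hc e
          · exact key _ hh.cent_u e
          · refine key _ ?_ e
            rw [hh.cent_a]; exact hh.S_le_range
        ctrl := fun x m m' hm hm' e => hh.ctrl hm hm' e }
    exact hloc.range_eq_top
  · exact Or.inr B.nonempty_iso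

namespace Conf

variable {G : Type u} [Group G] [Finite G] (h : Conf G)

theorem mem_G0 {G0 : Subgroup G} (hi : G0.index = 2) (hk : h.k = .eight) (f : W → ZMod 2)
    (hmul : ∀ u v, f (u * v) = f u + f v) (h1 : f 1 = 0) (hinv : ∀ u, f u⁻¹ = f u) (hc : f wc = 0)
    (hf : f wf = 1) (hwf : ∀ hw : inK h.k wf, h.q ⟨wf, hw⟩ ∉ G0) (ht : h.tau ∈ G0 ↔ f wt = 0)
    (u : KG h.k) : h.q u ∈ G0 ↔ f u = 0 := by
  have hin : ∀ u : W, inK h.k u := fun u => hk ▸ trivial
  let D : Subgroup W :=
    { carrier := {u | h.q ⟨u, hin u⟩ ∈ G0 ↔ f u = 0}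
      one_mem' := iff_of_true (by
        rw [show (⟨1, hin 1⟩ : KG h.k) = 1 from rfl, map_one]; exact one_mem _) h1
      mul_mem' := fun {a b} ha hb => by
        show h.q ⟨a * b, hin _⟩ ∈ G0 ↔ f (a * b) = 0
        change h.q ⟨a, hin a⟩ ∈ G0 ↔ f a = 0 at ha
        change h.q ⟨b, hin b⟩ ∈ G0 ↔ f b = 0 at hb
        rw [show (⟨a * b, hin _⟩ : KG h.k) = ⟨a, hin a⟩ * ⟨b, hin b⟩ from rfl, map_mul,
          mul_mem_iff_of_index_two hi, ha, hb, hmul]
        exact sum_facts.2.2.2.2.2.2.2.2.2.2.2.2.2.2.2.1 _ _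
      inv_mem' := fun {a} ha => by
        show h.q ⟨a⁻¹, hin _⟩ ∈ G0 ↔ f a⁻¹ = 0
        change h.q ⟨a, hin a⟩ ∈ G0 ↔ f a = 0 at ha
        rw [show (⟨a⁻¹, hin _⟩ : KG h.k) = (⟨a, hin a⟩)⁻¹ from rfl, map_inv, inv_mem_iff, ha, hinv] }
  have dc : wc ∈ D := by
    refine iff_of_true ?_ hc
    have h3 : h.q ⟨wc, hin wc⟩ ^ 3 = 1 := by
      rw [← map_pow]
      exact (congrArg h.q (Subtype.ext sum_facts.2.2.2.2.2.2.2.2.2.2.2.2.2.1 :
        (⟨wc, hin wc⟩ : KG h.k) ^ 3 = 1)).trans h.q.map_one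
    have hsq := mul_self_mem_of_index_two hi (h.q ⟨wc, hin wc⟩)
    rw [pow_succ, pow_two] at h3
    rw [eq_inv_of_mul_eq_one_right h3]
    exact inv_mem hsq
  have df : wf ∈ D := iff_of_false (hwf _) (by rw [hf]; exact one_ne_zero)
  obtain ⟨a, b, c, i, e, hu⟩ := sum_facts.2.2.2.2.2.2.2.2.2.2.2.2.2.2.1 (u : W)
  have hm : (u : W) ∈ D := hu ▸ mul_mem (mul_mem (mul_mem (mul_mem (pow_mem df _)
    (pow_mem (mul_mem (mul_mem dc df) (inv_mem dc)) _))
      (pow_mem (mul_mem (mul_mem (mul_mem dc dc) df) (inv_mem (mul_mem dc dc))) _)) (pow_mem dc _)) (pow_mem ht _)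
  exact hm

theorem j_mem_G0 {G0 : Subgroup G} (hi : G0.index = 2) (a : A) : h.j a ∈ G0 := by
  have h3 : h.j a ^ 3 = 1 := h.J_cube _ (h.j_mem a)
  have hsq := mul_self_mem_of_index_two hi (h.j a)
  rw [pow_succ, pow_two] at h3
  rw [eq_inv_of_mul_eq_one_right h3]
  exact inv_mem hsq

theorem card_N_eight (hk : h.k = .eight) : Nat.card h.N = 1296 := by
  classical
  have := h.card_cent_inf 1
  rw [inf_eq_left.2 (fun g _ => mem_centralizer_singleton_iff.2 (by simp)), hk] at this
  rw [this, show (Finset.univ.filter fun q : W => inK .eight q ∧ act q 1 = 1) =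
    Finset.univ.filter fun q : W => act q 1 = 1 from Finset.filter_congr fun q _ => by simp [inK],
    sum_facts.2.2.2.2.2.2.2.2.2.2.2.2.2.2.2.2.2]

/-- A subgroup of index two contained in the normaliser makes the elementary subgroup normal. -/
theorem normal_of_card (hk : h.k = .eight) {G0 : Subgroup G} (hi : G0.index = 2) (hle : G0 ≤ h.N)
    {u : KG h.k} (hu : h.q u ∉ G0) : h.J.Normal := by
  have hlt : G0 < h.N := lt_of_le_of_ne hle fun e => hu (e ▸ h.q_mem_N u)
  have hd := index_dvd_of_le hle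
  rw [hi] at hd
  have hne : h.N.index ≠ 2 := fun e2 => by
    have h1 := card_mul_index h.N
    have h2 := card_mul_index G0
    rw [e2] at h1
    rw [hi] at h2
    exact hlt.ne (eq_of_le_of_card_ge hle (by omega))
  have htop : h.N = ⊤ := index_eq_one.1 (((Nat.dvd_prime Nat.prime_two).1 hd).resolve_right hne)
  rw [h.N_eq] at htop
  exact normalizer_eq_top_iff.1 htop

/-- The subgroup meets the normaliser in the part of kind four. -/
theorem of_sum {G0 : Subgroup G} (hi : G0.index = 2) (hk : h.k = .eight)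
    (hG0 : ∀ u : KG h.k, h.q u ∈ G0 ↔ sumOf u = 0) (hwf : inK h.k wf)
    (hnormal : ∀ h4 : Conf G0, h4.k = .four → h4.J.Normal) : h.J.Normal := by
  have hin : ∀ u : W, inK h.k u := fun u => hk ▸ trivial
  let incl : Mk .four →* Mk h.k := (Mk .four).subtype.codRestrict (Mk h.k) fun m => hin _
  have hmem : ∀ m : Mk .four, h.φ (incl m) ∈ G0 := fun m => by
    rw [Mk_split (incl m), map_mul]
    exact mul_mem (h.j_mem_G0 hi _) ((hG0 _).2 ((sum_facts.2.2.1 _).1 m.2))
  let φ4 : Mk .four →* G0 := (h.φ.comp incl).codRestrict G0 hmem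
  have hA : ∀ a : A, ((φ4 (inlA .four a) : G0) : G) = h.j a := fun a => rfl
  have hrange : ∀ g : G0, (g : G) ∈ h.N → g ∈ φ4.range := by
    rintro ⟨g, hg⟩ hgN
    obtain ⟨c, w, rfl⟩ := h.exists_split hgN
    have hw : sumOf w = 0 := (hG0 w).1 ((mul_mem_cancel_left (h.j_mem_G0 hi c)).1 hg)
    refine ⟨inlA .four c * inrK .four ⟨w, (sum_facts.2.2.1 _).2 hw⟩, Subtype.ext ?_⟩
    show h.φ (incl _) = h.j c * h.q w
    rw [map_mul, map_mul]; rfl
  let h4 : Conf G0 :=
    { k := .four
      φ := φ4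
      inj := fun a b e => Subtype.ext (congrArg (fun x : Mk h.k => (x : Mf)) (h.inj (congrArg Subtype.val e)))
      norm := fun g hg => hrange g (h.mem_N_iff.2 fun a => by
        obtain ⟨b, hb⟩ := hg a
        exact ⟨b, by rw [← hA a, ← hA b, ← hb]; rfl⟩)
      centX := fun g hg => hrange g (h.centX (mem_centralizer_singleton_iff.2 (by
        have e := congrArg Subtype.val (mem_centralizer_singleton_iff.1 hg)
        exact e)))
      sig := fun K hK hinv => by
        have hb := h.sig (K.map G0.subtype) (by rwa [card_map_of_injective G0.subtype_injective]) fun a => by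
          conv_rhs => rw [← hinv a, Subgroup.map_map]
          rw [Subgroup.map_map]
          rfl
        rwa [map_eq_bot_iff_of_injective _ G0.subtype_injective] at hb }
  have hn := hnormal h4 rfl
  refine h.normal_of_card hk hi (fun g hg => ?_) (u := ⟨wf, hwf⟩) (fun e => by
    have := (hG0 ⟨wf, hwf⟩).1 e
    rw [sum_facts.2.2.2.2.2.2.2.1] at this
    exact one_ne_zero this)
  refine h.mem_N_iff.2 fun a => ?_
  obtain ⟨b, hb⟩ := hn.conj_mem _ (h4.j_mem a) ⟨g, hg⟩
  exact ⟨b, (congrArg Subtype.val hb).symm⟩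

/-- The subgroup meets the normaliser in its even part. -/
theorem of_parity {G0 : Subgroup G} (hi : G0.index = 2) (hk : h.k = .eight)
    (hG0 : ∀ u : KG h.k, h.q u ∈ G0 ↔ parityOf u = 0) (hwf : inK h.k wf)
    (hfinish : ∀ K : Subgroup G, K.Normal → K ≠ ⊥ → Odd (Nat.card K) → h.J.Normal) :
    h.J.Normal ∨ Nonempty (G ≃* Equiv.Perm (Fin 9)) := by
  classical
  have hin : ∀ u : W, inK h.k u := fun u => hk ▸ trivial
  let incl : ThreeFullWreath.M →* Mk h.k := iota.codRestrict (Mk h.k) fun m => hin _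
  have hinl : ∀ m : ThreeFullWreath.M, m.right = 1 → h.φ (incl m) = h.j m.left := fun m hm => by
    refine congrArg h.φ (Subtype.ext ?_)
    exact sum_facts.2.2.2.2.2.2.2.2.2.2.2.2.2.2.2.2.1 _ m hm rfl
  have hmem : ∀ m, h.φ (incl m) ∈ G0 := fun m => by
    rw [Mk_split (incl m), map_mul]
    exact mul_mem (h.j_mem_G0 hi _) ((hG0 _).2 (iotaQ_facts.2.2.1 _))
  let φ0 : ThreeFullWreath.M →* G0 := (h.φ.comp incl).codRestrict G0 hmem
  have hval : ∀ m, ((φ0 m : G0) : G) = h.φ (incl m) := fun m => rfl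
  have hj : ∀ a : A, ((φ0 ⟨a, 1⟩ : G0) : G) = h.j a := fun a => (hval _).trans (hinl ⟨a, 1⟩ rfl)
  let hh : A9ThreeLocal.Hyp G0 :=
    { φ := φ0
      inj := fun a b e => iota_injective (congrArg (fun x : Mk h.k => (x : Mf))
        (h.inj (congrArg Subtype.val e)))
      norm := fun g hg => by
        have hgN : (g : G) ∈ h.N := h.mem_N_iff.2 fun a => by
          obtain ⟨m', hm', e⟩ := hg ⟨a, 1⟩ rfl
          refine ⟨m'.left, ?_⟩
          rw [← hj a, ← hinl m' hm', ← hval m', ← e]; rfl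
        obtain ⟨c, w, hcw⟩ := h.exists_split hgN
        have hw : parityOf w = 0 := (hG0 w).1 ((mul_mem_cancel_left (h.j_mem_G0 hi c)).1 (hcw ▸ g.2))
        obtain ⟨q, hq⟩ := iotaQ_facts.2.2.2.1 _ hw
        refine ⟨⟨c, q⟩, Subtype.ext ?_⟩
        rw [hval, hcw, Mk_split (incl ⟨c, q⟩), map_mul]
        show h.j c * h.q _ = h.j c * h.q w
        congr 2
        exact Subtype.ext hq
      core := fun m hm hm1 K hK hKn hK3 => by
        have hb := h.sig (K.map G0.subtype) (by
          rw [card_map_of_injective G0.subtype_injective]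
          exact (Nat.prime_three.coprime_iff_not_dvd.2 hK3).symm) fun a => by
          refine eq_of_le_of_card_ge ?_ (card_map_of_injective (f := (MulAut.conj (h.j a)).toMonoidHom) (MulAut.conj (h.j a)).injective).ge
          rintro _ ⟨_, ⟨k, hk', rfl⟩, rfl⟩
          refine ⟨φ0 ⟨a, 1⟩ * k * (φ0 ⟨a, 1⟩)⁻¹, hKn _ (mem_centralizer_singleton_iff.2 ?_) k hk', ?_⟩
          · rw [← map_mul, ← map_mul, A9ThreeLocal.trans_comm (rfl : (⟨a, 1⟩ : ThreeFullWreath.M).right = 1) hm]
          · simp only [Subgroup.coe_subtype, Subgroup.coe_mul, Subgroup.coe_inv, hj]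
            rfl
        rwa [map_eq_bot_iff_of_injective _ G0.subtype_injective] at hb }
  rcases alt_dichotomy hh with htop | ⟨⟨e⟩⟩
  · left
    refine h.normal_of_card hk hi (fun g hg => ?_) (u := ⟨wf, hwf⟩) (fun e => by
      have := (hG0 ⟨wf, hwf⟩).1 e
      rw [sum_facts.2.2.2.2.2.2.2.2.2.2.1] at this
      exact one_ne_zero this)
    obtain ⟨m, hm⟩ : (⟨g, hg⟩ : G0) ∈ hh.φ.range := htop ▸ mem_top _
    rw [show g = h.φ (incl m) from (congrArg Subtype.val hm).symm]
    exact ⟨_, rfl⟩
  · haveI hn : G0.Normal := normal_of_index_eq_two hi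
    let c : G →* MulAut G0 := MulAut.conjNormal
    by_cases hker : c.ker = ⊥
    · right
      let E : G →* MulAut (alternatingGroup (Fin 9)) := (MulAut.congr e).toMonoidHom.comp c
      have hE : Function.Injective E := (MulAut.congr e).injective.comp ((MonoidHom.ker_eq_bot_iff c).1 hker)
      let P : Equiv.Perm (Fin 9) ≃* MulAut (alternatingGroup (Fin 9)) :=
        MulEquiv.ofBijective MulAut.conjNormal (S2119.result 9 (by norm_num) (by norm_num))
      have hcard : Nat.card G = Nat.card (Equiv.Perm (Fin 9)) := by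
        rw [← card_mul_index G0, hi, Nat.card_congr e.toEquiv, mul_comm, two_mul_nat_card_alternatingGroup]
      have hinj : Function.Injective (P.symm.toMonoidHom.comp E) := P.symm.injective.comp hE
      exact ⟨MulEquiv.ofBijective _ (hinj.bijective_of_nat_card_le hcard.ge)⟩
    · left
      refine hfinish c.ker inferInstance hker ?_
      have hle : c.ker ≤ h.J := fun g hg => h.cent_J fun a => by
        have h1 : c g ⟨h.j a, h.j_mem_G0 hi a⟩ = ⟨h.j a, h.j_mem_G0 hi a⟩ := by
          rw [MonoidHom.mem_ker.1 hg]; rfl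
        exact mul_inv_eq_iff_eq_mul.1 (congrArg Subtype.val h1)
      have hd := card_dvd_of_le hle
      rw [h.J_card] at hd
      exact Odd.of_dvd_nat (by decide) hd

end Conf

end Cfsg.Agent.Sym9ThreeLocal
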