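import Cfsg.Agent.S3331
import Cfsg.Agent.A9ThreeLocal.Klein
import Cfsg.Agent.SelfCentThree.Small

/-!
# Groups with a self-centralising element of order three and an acting three-group
-/

set_option autoImplicit false

namespace Cfsg.Agent.Sym9ThreeLocal

open Subgroup Equiv Equiv.Perm

universe u

variable {Y : Type u} [Group Y] [Finite Y]

/-- A three-group of automorphisms fixes a nontrivial subgroup of prime power order. -/
theorem exists_invariant {H E : Subgroup Y} (hE : IsPGroup 3 E) (hEH : E ≤ normalizer (H : Set Y))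
    {ℓ : ℕ} [Fact ℓ.Prime] (hℓ : ℓ ≠ 3) (hd : ℓ ∣ Nat.card H) (hn : ¬ 3 ∣ Nat.card (Sylow ℓ H)) :
    ∃ V : Subgroup Y, V ≤ H ∧ ¬ 3 ∣ Nat.card V ∧ E ≤ normalizer (V : Set Y) ∧ V ≠ ⊥ := by
  classical
  haveI : Fact (Nat.Prime 3) := ⟨Nat.prime_three⟩
  let ρ : E →* MulAut H := H.normalizerMonoidHom.comp (inclusion hEH)
  letI : MulDistribMulAction E H := MulDistribMulAction.compHom H ρ
  obtain ⟨P, hP⟩ := hE.nonempty_fixed_point_of_prime_not_dvd_card (Sylow ℓ H) hn
  refine ⟨(P : Subgroup H).map H.subtype, map_subtype_le _, ?_, fun s hs => ?_, fun e => ?_⟩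
  · rw [card_map_of_injective H.subtype_injective]
    obtain ⟨n, hn'⟩ := IsPGroup.iff_card.1 P.2
    rw [hn']
    exact fun h => hℓ ((Nat.prime_dvd_prime_iff_eq Nat.prime_three Fact.out).1
      (Nat.prime_three.dvd_of_dvd_pow h)).symm
  · refine mem_normalizer_fintype fun y hy => ?_
    obtain ⟨p, hp, rfl⟩ := hy
    have h1 : (⟨s, hs⟩ : E) • p ∈ ((⟨s, hs⟩ : E) • P : Sylow ℓ H) :=
      Subgroup.smul_mem_pointwise_smul p _ (P : Subgroup H) hp
    rw [hP ⟨s, hs⟩] at h1
    exact ⟨_, h1, rfl⟩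
  · rw [map_eq_bot_iff_of_injective _ H.subtype_injective] at e
    have := P.dvd_card_of_dvd_card hd
    rw [e, card_bot] at this
    exact (Fact.out : ℓ.Prime).one_lt.ne' (Nat.dvd_one.1 this)

/-- A four-group of the alternating group of degree five. -/
def InV5 (s : alternatingGroup (Fin 5)) : Prop :=
  (s : Perm (Fin 5)) = 1 ∨ (s : Perm (Fin 5)) = swap 0 1 * swap 2 3 ∨
    (s : Perm (Fin 5)) = swap 0 2 * swap 1 3 ∨ (s : Perm (Fin 5)) = swap 0 3 * swap 1 2

instance : DecidablePred InV5 := fun s => by unfold InV5; infer_instance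

theorem InV5_facts : (∀ a b, InV5 a → InV5 b → InV5 (a * b)) ∧ (∀ a, InV5 a → InV5 a⁻¹) ∧
    (Finset.univ.filter InV5).card = 4 ∧ (∃ c : alternatingGroup (Fin 5), c ^ 3 = 1 ∧ c ≠ 1 ∧
      ∀ a, InV5 a → InV5 (c * a * c⁻¹)) := by
  decide +kernel

/-- The number of four-groups of the alternating group of degree five. -/
theorem alt_five_sylow_two {Q : Type u} [Group Q] [Finite Q] (e : Q ≃* alternatingGroup (Fin 5)) :
    ¬ 3 ∣ Nat.card (Sylow 2 Q) := by
  haveI : Fact (Nat.Prime 2) := ⟨Nat.prime_two⟩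
  haveI : Fact (Nat.Prime 3) := ⟨Nat.prime_three⟩
  have hQ : Nat.card Q = 60 := by
    rw [Nat.card_congr e.toEquiv, nat_card_alternatingGroup, Nat.card_eq_fintype_card, Fintype.card_fin]
    decide
  have hfacts := InV5_facts
  let V : Subgroup (alternatingGroup (Fin 5)) :=
    { carrier := {s | InV5 s}
      one_mem' := Or.inl rfl
      mul_mem' := fun {a b} => hfacts.1 a b
      inv_mem' := fun {a} => hfacts.2.1 a }
  have hV : Nat.card V = 4 := by
    rw [← hfacts.2.2.1, ← Fintype.card_subtype, ← Nat.card_eq_fintype_card]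
    rfl
  obtain ⟨c, hc3, hc1, hcV⟩ := hfacts.2.2.2
  set U : Subgroup Q := V.map e.symm.toMonoidHom with hU
  have hUc : Nat.card U = 4 := by rw [hU, card_map_of_injective e.symm.injective, hV]
  let P : Sylow 2 Q := Sylow.ofCard U (by
    rw [hUc, hQ, show (60 : ℕ) = 2 ^ 2 * 15 by norm_num,
      Nat.factorization_mul (by norm_num) (by norm_num), Nat.factorization_pow]
    simp [Nat.prime_two.factorization_self, Nat.factorization_eq_zero_of_not_dvd])
  rw [Sylow.card_eq_index_normalizer P]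
  have hcN : e.symm c ∈ normalizer (U : Set Q) := by
    refine mem_normalizer_fintype fun y hy => ?_
    obtain ⟨a, ha, rfl⟩ := hy
    exact ⟨c * a * c⁻¹, hcV a ha, by simp⟩
  have h3 : 3 ∣ Nat.card (normalizer (U : Set Q)) := by
    have := _root_.orderOf_dvd_natCard (⟨e.symm c, hcN⟩ : normalizer (U : Set Q))
    rwa [orderOf_mk, MulEquiv.orderOf_eq, orderOf_eq_prime hc3 hc1] at this
  intro h
  have := mul_dvd_mul h3 h
  change 3 * 3 ∣ Nat.card (normalizer (U : Set Q)) * (normalizer (U : Set Q)).index at this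
  rw [card_mul_index, hQ] at this
  omega

theorem sylow_seven_count {Q : Type u} [Group Q] [Finite Q] (hQ : Nat.card Q = 168) :
    ¬ 3 ∣ Nat.card (Sylow 7 Q) := by
  haveI : Fact (Nat.Prime 7) := ⟨by norm_num⟩
  have h1 := card_sylow_modEq_one 7 Q
  obtain ⟨P⟩ : Nonempty (Sylow 7 Q) := inferInstance
  have h2 : Nat.card (Sylow 7 Q) ∣ 168 := hQ ▸ (P.card_dvd_index.trans (index_dvd_card _))
  have key : ∀ n ∈ Nat.divisors 168, n % 7 = 1 → ¬ 3 ∣ n := by decide +kernel
  exact key _ (Nat.mem_divisors.2 ⟨h2, by norm_num⟩) h1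

/-- A group with a self-centralising element of order three and no nontrivial invariant subgroup of order
prime to three has order at most six. -/
theorem card_le_six {H E : Subgroup Y} {b : Y} (hb : b ∈ H) (hb3 : b ^ 3 = 1) (hb1 : b ≠ 1)
    (hC : ∀ g ∈ H, g * b = b * g → g ∈ zpowers b) (hE : IsPGroup 3 E) (hEH : E ≤ normalizer (H : Set Y))
    (hfree : ∀ V : Subgroup Y, V ≤ H → ¬ 3 ∣ Nat.card V → E ≤ normalizer (V : Set Y) → V = ⊥) :
    Nat.card H ≤ 6 := by
  classical
  haveI : Fact (Nat.Prime 3) := ⟨Nat.prime_three⟩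
  set X : Subgroup H := zpowers ⟨b, hb⟩ with hX
  have hX3 : Nat.card X = 3 := by
    rw [hX, Nat.card_zpowers, orderOf_mk]; exact orderOf_eq_prime hb3 hb1
  have hXC : centralizer (X : Set H) = X := by
    refine le_antisymm (fun g hg => ?_) fun g hg => mem_centralizer_iff.2 fun r hr => ?_
    · obtain ⟨i, hi⟩ := mem_zpowers_iff.1 (hC g g.2
        (congrArg Subtype.val (mem_centralizer_iff.1 hg _ (mem_zpowers _))).symm)
      exact mem_zpowers_iff.2 ⟨i, Subtype.ext hi⟩
    · obtain ⟨n, rfl⟩ := mem_zpowers_iff.1 hg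
      obtain ⟨m, rfl⟩ := mem_zpowers_iff.1 hr
      rw [← zpow_add, ← zpow_add, add_comm]
  have small : ∀ (N : Subgroup H) [N.Normal] {Q : Type} [Group Q] [Finite Q] (e : H ⧸ N ≃* Q),
      (∀ K : Subgroup Q, K.Normal → ¬ 3 ∣ Nat.card K → K = ⊥) → ¬ 3 ∣ Nat.card N → N = ⊥ := by
    intro N _ Q _ _ e hQ h3
    have hker : (e.toMonoidHom.comp (QuotientGroup.mk' N)).ker = N := by
      ext y
      simp [MonoidHom.mem_ker]
    have hinv : ∀ s ∈ normalizer (H : Set Y), ∀ r ∈ N.map H.subtype, s * r * s⁻¹ ∈ N.map H.subtype := by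
      intro s hs
      have := A9ThreeLocal.ker_invariant (e.toMonoidHom.comp (QuotientGroup.mk' N))
        (e.surjective.comp (QuotientGroup.mk'_surjective N)) hQ (by rwa [hker]) hs
      rwa [hker] at this
    have := hfree (N.map H.subtype) (map_subtype_le _) (by rwa [card_map_of_injective H.subtype_injective])
      fun s hs => mem_normalizer_fintype (hinv s (hEH hs))
    rwa [map_eq_bot_iff_of_injective _ H.subtype_injective] at this
  have iso : ∀ (N : Subgroup H) [N.Normal], N = ⊥ → Nat.card (H ⧸ N) = Nat.card H := by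
    rintro N _ rfl
    exact Nat.card_congr QuotientGroup.quotientBot.toEquiv
  rcases S3331.result X hX3 hXC with ⟨N, hN, -, hNc, hQ⟩ | ⟨N, hN, -, hN2, ⟨eQ⟩⟩ | ⟨⟨eQ⟩⟩
  · have h3 := Nat.prime_three.coprime_iff_not_dvd.1 hNc.symm
    rcases hQ with e | ⟨⟨e⟩⟩
    · have hbot : N = ⊥ := small N (Q := Multiplicative (ZMod 3))
        (mulEquivOfPrimeCardEq (p := 3) e (by simp)) (fun K _ hK => A9ThreeLocal.cover_three (by simp) K hK) h3
      rw [← iso N hbot, e]; norm_num
    · have hbot := small N e (fun K hK hK3 => by haveI := hK; exact A9ThreeLocal.cover_perm K hK3) h3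
      rw [← iso N hbot, Nat.card_congr e.toEquiv, Nat.card_perm, Nat.card_fin]
      decide
  · exfalso
    have h3 : ¬ 3 ∣ Nat.card N := fun hd => by
      obtain ⟨⟨n, hn⟩, ho⟩ := exists_prime_orderOf_dvd_card' (G := N) 3 hd
      rw [orderOf_mk] at ho
      have := orderOf_dvd_of_pow_eq_one (hN2 n hn)
      rw [ho] at this
      omega
    have hbot := small N eQ (fun K hK hK3 => by haveI := hK; exact A9ThreeLocal.cover_alt K hK3) h3
    subst hbot
    haveI : Fact (Nat.Prime 2) := ⟨Nat.prime_two⟩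
    have eH := QuotientGroup.quotientBot.symm.trans eQ
    obtain ⟨V, hV, hV3, hVE, hV1⟩ := exists_invariant hE hEH (ℓ := 2) (by norm_num) (by
      rw [Nat.card_congr eH.toEquiv, nat_card_alternatingGroup, Nat.card_eq_fintype_card, Fintype.card_fin]
      decide) (alt_five_sylow_two eH)
    exact hV1 (hfree V hV hV3 hVE)
  · exfalso
    haveI : Fact (Nat.Prime 7) := ⟨by norm_num⟩
    have h168 : Nat.card H = 168 := by rw [Nat.card_congr eQ.toEquiv, SelfCentThree.psl_seven.2]
    obtain ⟨V, hV, hV3, hVE, hV1⟩ := exists_invariant hE hEH (ℓ := 7) (by norm_num) (by rw [h168]; norm_num)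
      (sylow_seven_count h168)
    exact hV1 (hfree V hV hV3 hVE)

end Cfsg.Agent.Sym9ThreeLocal
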