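import Cfsg.Agent.Sym9ThreeLocal.BigLink
import Cfsg.Agent.Sym9ThreeLocal.SmallQuot
import Cfsg.Agent.A9ThreeLocal.KleinCases

/-!
# The centraliser of three commuting flips in the large case
-/

set_option autoImplicit false
set_option synthInstance.maxSize 4000
set_option synthInstance.maxHeartbeats 400000

namespace Cfsg.Agent.Sym9ThreeLocal

open Equiv Subgroup

universe u

/-- Commuting with the three transpositions. -/
def InE (x : P6) : Prop := x * p0 = p0 * x ∧ x * p1 = p1 * x ∧ x * p3 = p3 * x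

instance : DecidablePred InE := fun x => by unfold InE; infer_instance

theorem inE_form : ∀ x : P6, InE x → ∃ a b c : Fin 2, x = p0 ^ (a : ℕ) * p1 ^ (b : ℕ) * p3 ^ (c : ℕ) := by
  decide +kernel

theorem inE_facts : (∀ x : P6, InE x → x * x = 1) ∧ InE p0 ∧ InE p1 ∧ InE p3 ∧
    (pd * p0 * pd⁻¹ = p1 ∧ pd * p1 * pd⁻¹ = p3 ∧ pd * p3 * pd⁻¹ = p0) ∧ pd ^ 3 = 1 ∧
    pd = pg * (pa * pb) * pg⁻¹ := by
  decide +kernel

theorem skew_model : (∀ i : Fin 3, e3 ^ (i : ℕ) * (e1 * e2) ≠ 1 ∧ ¬ EType .eight (e3 ^ (i : ℕ) * (e1 * e2))) ∧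
    (∀ x y : ZMod 3, InE (pg * (pa ^ x.val * pb ^ y.val) * pg⁻¹) → x = 0 ∧ y = 0) ∧
    (∀ a : A, a = e1 ^ a.toAdd.1.val * e2 ^ a.toAdd.2.1.val * e3 ^ a.toAdd.2.2.val) ∧
    (e3 ≠ 1 ∧ mw wf3 * ma e3 * mw wf3 = (ma e3)⁻¹ ∧ mw wf3 * mw wf3 = 1) ∧
    (∀ x : ZMod 3, x = 0 ∨ x.val = 1 ∨ x.val = 2) := by
  decide +kernel

namespace Conf.Six

variable {G : Type u} [Group G] {h : Conf G} {hk : h.k = .eight} (S : h.Six hk)

/-- The centraliser of the three commuting flips. -/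
def Q : Subgroup G := centralizer ({S.ψ p0, S.ψ p1, S.ψ p3} : Set G)

/-- The group generated by the three flips. -/
def Z8 : Subgroup G := S.ψ.range ⊓ S.Q

theorem mem_Q {g : G} : g ∈ S.Q ↔
    g * S.ψ p0 = S.ψ p0 * g ∧ g * S.ψ p1 = S.ψ p1 * g ∧ g * S.ψ p3 = S.ψ p3 * g := by
  simp only [Q, mem_centralizer_iff, Set.mem_insert_iff, Set.mem_singleton_iff, forall_eq_or_imp, forall_eq,
    eq_comm]

theorem psi_mem_Q {x : P6} : S.ψ x ∈ S.Q ↔ InE x := by
  simp only [S.mem_Q, InE, ← map_mul, S.inj.eq_iff]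

theorem mem_Z8 {g : G} : g ∈ S.Z8 ↔ ∃ x, InE x ∧ S.ψ x = g := by
  constructor
  · rintro ⟨⟨x, rfl⟩, hQ⟩
    exact ⟨x, S.psi_mem_Q.1 hQ, rfl⟩
  · rintro ⟨x, hx, rfl⟩
    exact ⟨⟨x, rfl⟩, S.psi_mem_Q.2 hx⟩

theorem Z8_central {g z : G} (hg : g ∈ S.Q) (hz : z ∈ S.Z8) : g * z = z * g := by
  obtain ⟨x, hx, rfl⟩ := S.mem_Z8.1 hz
  obtain ⟨a, b, c, rfl⟩ := inE_form x hx
  obtain ⟨h0, h1, h3⟩ := S.mem_Q.1 hg
  simp only [map_mul, map_pow]
  exact (((show Commute g _ from h0).pow_right _).mul_right ((show Commute g _ from h1).pow_right _)).mul_right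
    ((show Commute g _ from h3).pow_right _)

theorem Z8_sq {z : G} (hz : z ∈ S.Z8) : z * z = 1 := by
  obtain ⟨x, hx, rfl⟩ := S.mem_Z8.1 hz
  rw [← map_mul, inE_facts.1 x hx, map_one]

theorem Z8_cube {z : G} (hz : z ∈ S.Z8) (h3 : z ^ 3 = 1) : z = 1 := by
  rwa [pow_three, S.Z8_sq hz, mul_one] at h3

theorem e3_mem_Q : h.j e3 ∈ S.Q :=
  S.mem_Q.2 ⟨(S.comm_e _).eq, (S.comm_e _).eq, (S.comm_e _).eq⟩

theorem f_mem_Q : h.emb hk (mw wf3) ∈ S.Q :=
  S.mem_Q.2 ⟨(S.comm_f _).eq, (S.comm_f _).eq, (S.comm_f _).eq⟩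

/-- The part of the centraliser fixing the third line. -/
theorem cent_e {r : G} (hr : r ∈ S.Q) (hc : r * h.j e3 = h.j e3 * r) :
    ∃ k : Fin 3, ∃ x, InE x ∧ r = h.j e3 ^ (k : ℕ) * S.ψ x := by
  obtain ⟨k, x, rfl⟩ := S.dec r hc
  refine ⟨k, x, S.psi_mem_Q.1 ?_, rfl⟩
  have := mul_mem (inv_mem (pow_mem S.e3_mem_Q (k : ℕ))) hr
  rwa [inv_mul_cancel_left] at this

variable [Finite G]

theorem psi_d_cube : S.ψ pd ^ 3 = 1 := by rw [← map_pow, inE_facts.2.2.2.2.2.1, map_one]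

include S in
omit [Finite G] in
theorem e3_cube : h.j e3 ^ 3 = 1 := h.J_cube _ (h.j_mem _)

/-- An element of the centraliser centralising a skew element normalises the third line. -/
theorem skew_line (F : h.Facts) {r : G} (hr : r ∈ S.Q) {n : ℕ} (hc : Commute r (h.j e3 ^ n * S.ψ pd)) :
    r * h.j e3 * r⁻¹ = h.j e3 ∨ r * h.j e3 * r⁻¹ = (h.j e3)⁻¹ := by
  obtain ⟨k1, k2, k3, ⟨k4, -, -⟩, k5⟩ := skew_model
  obtain ⟨-, -, -, -, -, -, hd⟩ := inE_facts
  set c := S.ψ pg with hcdef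
  have hcomm : ∀ m : ℕ, Commute (h.j e3 ^ m) c := fun m => (S.comm_e pg).pow_left m
  have hsk : h.j e3 ^ n * S.ψ pd = c * h.j (e3 ^ (n % 3) * (e1 * e2)) * c⁻¹ := by
    rw [hd, map_mul S.ψ, map_mul S.ψ, map_inv, map_mul S.ψ, S.map_a, S.map_b, map_mul h.j, map_pow,
      map_mul h.j, ← hcdef, pow_eq_pow_mod n S.e3_cube, ← mul_assoc c (h.j e3 ^ (n % 3)), ← (hcomm (n % 3)).eq]
    group
  set m : Fin 3 := ⟨n % 3, Nat.mod_lt _ (by norm_num)⟩
  have hmem : c⁻¹ * r * c ∈ centralizer ({h.j (e3 ^ (m : ℕ) * (e1 * e2))} : Set G) := by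
    refine mem_centralizer_singleton_iff.2 ?_
    rw [hsk] at hc
    calc c⁻¹ * r * c * h.j (e3 ^ (n % 3) * (e1 * e2))
        = c⁻¹ * (r * (c * h.j (e3 ^ (n % 3) * (e1 * e2)) * c⁻¹)) * c := by group
      _ = h.j (e3 ^ (n % 3) * (e1 * e2)) * (c⁻¹ * r * c) := by rw [hc.eq]; group
  have hN := F.loc _ (k1 m).1 (by rw [hk]; exact (k1 m).2) hmem
  obtain ⟨w, hw, -⟩ := h.exists_act hN
  set b := act w e3
  have h1 : r * h.j e3 * r⁻¹ = c * h.j b * c⁻¹ := by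
    have := hw e3
    rw [← this]
    have e : c * h.j e3 * c⁻¹ = h.j e3 := by rw [← (S.comm_e pg).eq, mul_inv_cancel_right]
    calc r * h.j e3 * r⁻¹ = r * (c * h.j e3 * c⁻¹) * r⁻¹ := by rw [e]
      _ = _ := by group
  have hb' := k3 b
  set x := b.toAdd.1
  set y := b.toAdd.2.1
  set z := b.toAdd.2.2
  have h2 : r * h.j e3 * r⁻¹ = S.ψ (pg * (pa ^ x.val * pb ^ y.val) * pg⁻¹) * h.j e3 ^ z.val := by
    rw [h1, hb', map_mul h.j, map_mul h.j, map_pow, map_pow, map_pow, map_mul S.ψ, map_mul S.ψ, map_inv,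
      map_mul S.ψ, map_pow, map_pow, S.map_a, S.map_b, ← hcdef]
    conv_rhs => rw [mul_assoc, ← (hcomm z.val).inv_right.eq]
    group
  have h3 : InE (pg * (pa ^ x.val * pb ^ y.val) * pg⁻¹) := by
    refine S.psi_mem_Q.1 ?_
    have := mul_mem (mul_mem (mul_mem hr S.e3_mem_Q) (inv_mem hr)) (inv_mem (pow_mem S.e3_mem_Q z.val))
    rwa [h2, mul_inv_cancel_right] at this
  obtain ⟨hx, hy⟩ := k2 x y h3
  rw [hx, hy, ZMod.val_zero, pow_zero, pow_zero, mul_one, mul_one, mul_inv_cancel, map_one, one_mul] at h2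
  rcases k5 z with e | e | e
  · rw [e, ZMod.val_zero, pow_zero, conj_eq_one_iff] at h2
    exact absurd h2 (h.j_ne k4)
  · exact Or.inl (by rw [h2, e, pow_one])
  · refine Or.inr ?_
    rw [h2, e]
    exact eq_inv_of_mul_eq_one_left (by rw [← pow_succ]; exact S.e3_cube)

/-- The subgroups of order prime to three normalised by both lines are generated by flips. -/
theorem free (F : h.Facts) {R : Subgroup G} (hR : R ≤ S.Q) (h3 : ¬ 3 ∣ Nat.card R)
    (ha : h.j e3 ∈ normalizer (R : Set G)) (hb : S.ψ pd ∈ normalizer (R : Set G)) : R ≤ S.Z8 := by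
  classical
  haveI : Fact (Nat.Prime 3) := ⟨Nat.prime_three⟩
  have h3' : Nat.Coprime 3 (Nat.card R) := Nat.prime_three.coprime_iff_not_dvd.2 h3
  have small : ∀ z : G, z ∈ R → z ^ 3 = 1 → z = 1 := fun z hz hz3 => by
    by_contra hne
    refine h3 ?_
    have := _root_.orderOf_dvd_natCard (⟨z, hz⟩ : R)
    rwa [orderOf_mk, orderOf_eq_prime hz3 hne] at this
  have hA : ∀ g ∈ R, g * h.j e3 = h.j e3 * g → g ∈ S.Z8 := by
    intro g hg hc
    obtain ⟨k, x, hx, e⟩ := S.cent_e (hR hg) hc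
    have hcx : Commute (h.j e3 ^ (k : ℕ)) (S.ψ x) := (S.comm_e x).pow_left _
    have e3k : (h.j e3 ^ (k : ℕ)) ^ 3 = 1 := by rw [← pow_mul, mul_comm, pow_mul, S.e3_cube, one_pow]
    have h2 : (h.j e3 ^ (k : ℕ)) ^ 2 ∈ R := by
      have := pow_mem hg 2
      rwa [e, hcx.mul_pow, pow_two (S.ψ x), S.Z8_sq (S.mem_Z8.2 ⟨x, hx, rfl⟩), mul_one] at this
    have h0 := small _ h2 (by rw [pow_right_comm, e3k, one_pow])
    rw [e, show h.j e3 ^ (k : ℕ) = 1 by rwa [pow_succ, h0, one_mul] at e3k, one_mul]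
    exact S.mem_Z8.2 ⟨x, hx, rfl⟩
  refine Coprime.le_of_centralizers_le (S.comm_e pd) ha hb Nat.prime_three ?_ ?_ h3' ?_ ?_ ?_
  · rw [S.e3_cube]; exact one_mem _
  · rw [S.psi_d_cube]; exact one_mem _
  · have hP : IsPGroup 3 (closure ({h.j e3, S.ψ pd} : Set G)) := fun s => by
      refine ⟨1, Subtype.ext ?_⟩
      rw [pow_one, SubmonoidClass.coe_pow, OneMemClass.coe_one]
      have hs : (s : G) ∈ zpowers (h.j e3) ⊔ zpowers (S.ψ pd) := by
        refine (closure_le _).2 ?_ s.2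
        rintro y (rfl | rfl)
        · exact mem_sup_left (mem_zpowers _)
        · exact mem_sup_right (mem_zpowers _)
      obtain ⟨c, d, e⟩ := A9ThreeLocal.pair_form (S.comm_e pd) S.e3_cube S.psi_d_cube hs
      rw [e, ((S.comm_e pd).pow_pow _ _).mul_pow, ← pow_mul, ← pow_mul, mul_comm (c : ℕ), mul_comm (d : ℕ),
        pow_mul, pow_mul, S.e3_cube, S.psi_d_cube, one_pow, one_pow, one_mul]
    obtain ⟨n, hn⟩ := IsPGroup.iff_card.1 hP
    rw [hn]
    exact h3'.pow_left n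
  · rintro g ⟨hg, hc⟩
    exact hA g hg (mem_centralizer_singleton_iff.1 hc)
  · rintro k g ⟨hg, hc⟩
    rcases S.skew_line F (hR hg) (mem_centralizer_singleton_iff.1 hc) with e | e
    · exact hA g hg (mul_inv_eq_iff_eq_mul.1 e)
    · exfalso
      have ht : g * (h.j e3 * g⁻¹ * (h.j e3)⁻¹) ∈ R :=
        mul_mem hg ((mem_normalizer_iff.1 ha _).1 (inv_mem hg))
      rw [← mul_assoc, ← mul_assoc, e, ← mul_inv_rev, ← pow_two] at ht
      have h2 : h.j e3 ^ 2 = 1 := small _ (inv_mem_iff.1 ht) (by rw [pow_right_comm, S.e3_cube, one_pow])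
      have h4 := S.e3_cube
      rw [pow_succ, h2, one_mul] at h4
      exact h.j_ne skew_model.2.2.2.1.1 h4

/-- The centraliser of the three flips normalises the third line. -/
theorem Q_line (F : h.Facts) {r : G} (hr : r ∈ S.Q) :
    r * h.j e3 * r⁻¹ = h.j e3 ∨ r * h.j e3 * r⁻¹ = (h.j e3)⁻¹ := by
  classical
  haveI : Fact (Nat.Prime 3) := ⟨Nat.prime_three⟩
  obtain ⟨-, h0', h1', h3', ⟨d0, d1, d3⟩, hd3, -⟩ := inE_facts
  set D := S.ψ pd with hD
  have hQM : S.Q ≤ normalizer (S.Z8 : Set G) := fun g hg =>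
    mem_normalizer_fintype fun z hz => by rw [S.Z8_central hg hz, mul_inv_cancel_right]; exact hz
  have hDQ : ∀ g ∈ S.Q, D * g * D⁻¹ ∈ S.Q := by
    intro g hg
    obtain ⟨g0, g1, g3⟩ := S.mem_Q.1 hg
    have step : ∀ {x y : P6}, pd * x * pd⁻¹ = y → Commute g (S.ψ x) →
        D * g * D⁻¹ * S.ψ y = S.ψ y * (D * g * D⁻¹) := by
      intro x y e hc
      rw [← e, map_mul, map_mul, map_inv]
      exact (hc.conj D).eq
    exact S.mem_Q.2 ⟨step d3 g3, step d0 g0, step d1 g1⟩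
  have hDM : D ∈ normalizer (S.Z8 : Set G) := mem_normalizer_fintype fun z hz => by
    obtain ⟨⟨x, rfl⟩, hzQ⟩ := hz
    exact ⟨⟨pd * x * pd⁻¹, by rw [map_mul, map_mul, map_inv]⟩, hDQ _ hzQ⟩
  set M := normalizer (S.Z8 : Set G) with hM
  set Z := S.Z8.subgroupOf M with hZ
  haveI : Z.Normal := normal_in_normalizer
  set π : M →* M ⧸ Z := QuotientGroup.mk' Z
  have hπ : Function.Surjective π := QuotientGroup.mk'_surjective Z
  have kerπ : ∀ m : M, π m = 1 ↔ (m : G) ∈ S.Z8 := fun m =>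
    (QuotientGroup.eq_one_iff m).trans mem_subgroupOf
  set H := (S.Q.subgroupOf M).map π with hH
  have memH : ∀ m : M, π m ∈ H → (m : G) ∈ S.Q := by
    rintro m ⟨q, hq, e⟩
    have h1 : (((q⁻¹ * m : M)) : G) ∈ S.Q := ((kerπ _).1 (by rw [map_mul, map_inv, e, inv_mul_cancel])).2
    have h2 := mul_mem (mem_subgroupOf.1 hq) h1
    rwa [← Subgroup.coe_mul, mul_inv_cancel_left] at h2
  set b0 : M := ⟨h.j e3, hQM S.e3_mem_Q⟩ with hb0
  set D0 : M := ⟨D, hDM⟩ with hD0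
  have hbD : Commute (π b0) (π D0) :=
    (show Commute b0 D0 from Subtype.ext (S.comm_e pd).eq).map π
  have hb3 : π b0 ^ 3 = 1 := by rw [← map_pow, show b0 ^ 3 = 1 from Subtype.ext S.e3_cube, map_one]
  have hD3 : π D0 ^ 3 = 1 := by rw [← map_pow, show D0 ^ 3 = 1 from Subtype.ext S.psi_d_cube, map_one]
  have he1 : h.j e3 ≠ 1 := h.j_ne skew_model.2.2.2.1.1
  have hb1 : π b0 ≠ 1 := fun e => he1 (S.Z8_cube ((kerπ _).1 e) S.e3_cube)
  set E := zpowers (π b0) ⊔ zpowers (π D0) with hE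
  have hE3 : IsPGroup 3 E := fun s => ⟨1, Subtype.ext (by
    obtain ⟨c, d, e⟩ := A9ThreeLocal.pair_form hbD hb3 hD3 s.2
    rw [pow_one, SubmonoidClass.coe_pow, OneMemClass.coe_one, e, (hbD.pow_pow _ _).mul_pow, ← pow_mul, ← pow_mul,
      mul_comm (c : ℕ), mul_comm (d : ℕ), pow_mul, pow_mul, hb3, hD3, one_pow, one_pow, one_mul])⟩
  have hbH : π b0 ∈ H := mem_map_of_mem π (mem_subgroupOf.2 S.e3_mem_Q)
  have hEH : E ≤ normalizer (H : Set (M ⧸ Z)) := by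
    refine sup_le (zpowers_le.2 (le_normalizer hbH)) (zpowers_le.2 (mem_normalizer_fintype ?_))
    rintro _ ⟨q, hq, rfl⟩
    exact ⟨D0 * q * D0⁻¹, mem_subgroupOf.2 (hDQ _ (mem_subgroupOf.1 hq)), by rw [map_mul, map_mul, map_inv]⟩
  have hfree : ∀ V : Subgroup (M ⧸ Z), V ≤ H → ¬ 3 ∣ Nat.card V → E ≤ normalizer (V : Set (M ⧸ Z)) → V = ⊥ := by
    intro V hV h3V hEV
    set R := (V.comap π).map M.subtype with hR
    have hRQ : R ≤ S.Q := by rintro _ ⟨m, hm, rfl⟩; exact memH m (hV hm)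
    have h3R : ¬ 3 ∣ Nat.card R := by
      rw [hR, card_map_of_injective M.subtype_injective]
      intro hdv
      obtain ⟨⟨m, hm⟩, ho⟩ := exists_prime_orderOf_dvd_card' (G := V.comap π) 3 hdv
      rw [orderOf_mk] at ho
      have hm3 : m ^ 3 = 1 := by rw [← ho]; exact pow_orderOf_eq_one m
      by_cases he : π m = 1
      · have := S.Z8_cube ((kerπ m).1 he) (congrArg Subtype.val hm3)
        rw [show m = 1 from Subtype.ext this, orderOf_one] at ho
        norm_num at ho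
      · refine h3V ?_
        have := _root_.orderOf_dvd_natCard (⟨π m, hm⟩ : V)
        rwa [← Subgroup.orderOf_coe, orderOf_eq_prime (by rw [← map_pow, hm3, map_one]) he] at this
    have hnorm : ∀ a : M, π a ∈ normalizer (V : Set (M ⧸ Z)) → (a : G) ∈ normalizer (R : Set G) := fun a ha =>
      mem_normalizer_fintype (by
        rintro _ ⟨m, hm, rfl⟩
        exact ⟨a * m * a⁻¹, by
          show π _ ∈ V
          rw [map_mul, map_mul, map_inv]; exact (mem_normalizer_iff.1 ha _).1 hm, rfl⟩)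
    have hle := S.free F hRQ h3R (hnorm b0 (hEV (mem_sup_left (mem_zpowers _))))
      (hnorm D0 (hEV (mem_sup_right (mem_zpowers _))))
    refine eq_bot_iff.2 fun v hv => mem_bot.2 ?_
    obtain ⟨m, rfl⟩ := hπ v
    exact (kerπ m).2 (hle ⟨m, hv, rfl⟩)
  have hC : ∀ g ∈ H, g * π b0 = π b0 * g → g ∈ zpowers (π b0) := by
    intro g hg hc
    obtain ⟨m, rfl⟩ := hπ g
    have hz : ((m * b0 * m⁻¹ * b0⁻¹ : M) : G) ∈ S.Z8 := (kerπ _).1 (by
      rw [map_mul, map_mul, map_mul, map_inv, map_inv, hc, mul_inv_cancel_right, mul_inv_cancel])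
    set z := ((m * b0 * m⁻¹ * b0⁻¹ : M) : G) with hzdef
    have e : (m : G) * h.j e3 * (m : G)⁻¹ = z * h.j e3 := by
      rw [hzdef]
      simp only [Subgroup.coe_mul, Subgroup.coe_inv, hb0]
      rw [inv_mul_cancel_right]
    have hz3 : z ^ 3 = 1 := by
      have := conj_pow (a := (m : G)) (b := h.j e3) (i := 3)
      rwa [e, (show Commute z (h.j e3) from (S.Z8_central S.e3_mem_Q hz).symm).mul_pow, S.e3_cube, mul_one,
        mul_one, mul_inv_cancel] at this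
    rw [S.Z8_cube hz hz3, one_mul] at e
    obtain ⟨k, x, hx, ex⟩ := S.cent_e (memH m hg) (mul_inv_eq_iff_eq_mul.1 e)
    have hm : π ((b0 ^ (k : ℕ))⁻¹ * m) = 1 := (kerπ _).2 (by
      rw [Subgroup.coe_mul, Subgroup.coe_inv, SubmonoidClass.coe_pow, ex]
      show (h.j e3 ^ (k : ℕ))⁻¹ * (h.j e3 ^ (k : ℕ) * S.ψ x) ∈ S.Z8
      rw [inv_mul_cancel_left]; exact S.mem_Z8.2 ⟨x, hx, rfl⟩)
    rw [map_mul, map_inv, inv_mul_eq_one, map_pow] at hm
    exact hm ▸ pow_mem (mem_zpowers _) _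
  have h6 := card_le_six hbH hb3 hb1 hC hE3 hEH hfree
  set X := (zpowers (π b0)).subgroupOf H with hX
  haveI hXn : X.Normal := by
    have hcard := X.card_mul_index
    rw [hX, Nat.card_congr (subgroupOfEquivOfLe (zpowers_le.2 hbH)).toEquiv, Nat.card_zpowers,
      orderOf_eq_prime hb3 hb1, ← hX] at hcard
    rcases (show X.index = 0 ∨ X.index = 1 ∨ X.index = 2 by omega) with e | e | e
    · exact absurd e Subgroup.index_ne_zero_of_finite
    · rw [index_eq_one.1 e]; infer_instance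
    · exact normal_of_index_eq_two e
  set r0 : M := ⟨r, hQM hr⟩ with hr0
  have hrH : π r0 ∈ H := mem_map_of_mem π (mem_subgroupOf.2 hr)
  have hmem : π r0 * π b0 * (π r0)⁻¹ ∈ zpowers (π b0) :=
    mem_subgroupOf.1 (hXn.conj_mem ⟨π b0, hbH⟩ (mem_subgroupOf.2 (mem_zpowers _)) ⟨π r0, hrH⟩)
  have hpow : ∀ i : ℕ, π r0 * π b0 * (π r0)⁻¹ = π b0 ^ i → r * h.j e3 * r⁻¹ = h.j e3 ^ i := by
    intro i e
    have hz : r * h.j e3 * r⁻¹ * (h.j e3 ^ i)⁻¹ ∈ S.Z8 :=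
      (kerπ (r0 * b0 * r0⁻¹ * (b0 ^ i)⁻¹)).1 (by
        rw [map_mul, map_mul, map_mul, map_inv, map_inv, map_pow, e, mul_inv_cancel])
    set z := r * h.j e3 * r⁻¹ * (h.j e3 ^ i)⁻¹ with hzdef
    have e' : r * h.j e3 * r⁻¹ = z * h.j e3 ^ i := by rw [hzdef, inv_mul_cancel_right]
    have hi3 : (h.j e3 ^ i) ^ 3 = 1 := by rw [← pow_mul, mul_comm, pow_mul, S.e3_cube, one_pow]
    have hz3 : z ^ 3 = 1 := by
      have := conj_pow (a := r) (b := h.j e3) (i := 3)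
      rwa [e', ((show Commute z (h.j e3) from (S.Z8_central S.e3_mem_Q hz).symm).pow_right i).mul_pow, S.e3_cube,
        hi3, mul_one, mul_one, mul_inv_cancel] at this
    rw [e', S.Z8_cube hz hz3, one_mul]
  rcases A9ThreeLocal.zpowers_three_cases hb3 hmem with e | e | e
  · have := hpow 0 (by rw [e, pow_zero])
    rw [pow_zero, conj_eq_one_iff] at this
    exact absurd this he1
  · exact Or.inl (by rw [hpow 1 (by rw [e, pow_one]), pow_one])
  · refine Or.inr ?_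
    rw [hpow 2 (by rw [e]; exact (eq_inv_of_mul_eq_one_left (by rw [← pow_succ]; exact hb3)).symm)]
    exact eq_inv_of_mul_eq_one_left (by rw [← pow_succ]; exact S.e3_cube)

/-- The elements commuting with the three flips and with the flip of the third block. -/
theorem cent_flips (F : h.Facts) {g : G} (hg : g ∈ S.Q) (hgf : g * h.emb hk (mw wf3) = h.emb hk (mw wf3) * g) :
    ∃ x, InE x ∧ (g = S.ψ x ∨ g = S.ψ x * h.emb hk (mw wf3)) := by
  obtain ⟨-, -, -, ⟨-, k5, k6⟩, -⟩ := skew_model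
  set f := h.emb hk (mw wf3) with hf
  have hff : f * f = 1 := by rw [hf, ← map_mul, k6, map_one]
  have hfe : f * h.j e3 * f = (h.j e3)⁻¹ := by
    rw [hf, ← h.emb_a hk, ← map_mul, ← map_mul, k5, map_inv]
  have key : ∀ r ∈ S.Q, r * h.j e3 = h.j e3 * r → r * f = f * r → ∃ x, InE x ∧ r = S.ψ x := by
    intro r hr hc hcf
    obtain ⟨k, x, hx, e⟩ := S.cent_e hr hc
    refine ⟨x, hx, ?_⟩
    have h1 : Commute (h.j e3 ^ (k : ℕ)) f := by
      have := (show Commute r f from hcf).mul_left (S.comm_f x).symm.inv_left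
      rwa [e, mul_inv_cancel_right] at this
    have h2 : (h.j e3 ^ (k : ℕ))⁻¹ = h.j e3 ^ (k : ℕ) := by
      have hfi : f⁻¹ = f := inv_eq_of_mul_eq_one_right hff
      have h3 := conj_pow (a := f) (b := h.j e3) (i := (k : ℕ))
      rw [hfi, hfe, inv_pow] at h3
      rw [h3, mul_assoc, h1.eq, ← mul_assoc, hff, one_mul]
    have h3 : (h.j e3 ^ (k : ℕ)) ^ 3 = 1 := by rw [← pow_mul, mul_comm, pow_mul, S.e3_cube, one_pow]
    rw [pow_three, show h.j e3 ^ (k : ℕ) * h.j e3 ^ (k : ℕ) = 1 from inv_eq_iff_mul_eq_one.1 h2, mul_one] at h3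
    rw [e, h3, one_mul]
  rcases S.Q_line F hg with e | e
  · obtain ⟨x, hx, e'⟩ := key g hg (mul_inv_eq_iff_eq_mul.1 e) hgf
    exact ⟨x, hx, Or.inl e'⟩
  · have hc1 : g * f * h.j e3 = h.j e3 * (g * f) := by
      refine mul_inv_eq_iff_eq_mul.1 ?_
      rw [mul_inv_rev, inv_eq_of_mul_eq_one_right hff,
        show g * f * h.j e3 * (f * g⁻¹) = g * (f * h.j e3 * f) * g⁻¹ by group, hfe, ← conj_inv, e, inv_inv]
    have hc2 : g * f * f = f * (g * f) := ((show Commute g f from hgf).mul_left (Commute.refl f)).eq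
    obtain ⟨x, hx, e'⟩ := key (g * f) (mul_mem hg S.f_mem_Q) hc1 hc2
    exact ⟨x, hx, Or.inr (by rw [← e', mul_assoc, hff, mul_one])⟩

end Conf.Six

end Cfsg.Agent.Sym9ThreeLocal
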