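import Cfsg.Agent.Sym9ThreeLocal.BigClass
import Cfsg.Agent.Sym9ThreeLocal.BigKlein
import Mathlib.Algebra.Group.Int.Units

/-!
# A subgroup of index two in the large case
-/

set_option autoImplicit false
set_option synthInstance.maxSize 4000
set_option synthInstance.maxHeartbeats 400000

namespace Cfsg.Agent.Sym9ThreeLocal

open Equiv Subgroup

universe u

/-- Commuting with the first transposition and with the product of the other two. -/
def InT (x : P6) : Prop := x * p0 = p0 * x ∧ x * pz = pz * x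

instance : DecidablePred InT := fun x => by unfold InT; infer_instance

theorem inT_perm : (Finset.univ.filter InT).card = 16 ∧
    (∀ x : P6, InT x → x * x = 1 → x.support.card = 2 → x = p0 ∨ x = p1 ∨ x = p3) := by
  decide +kernel

theorem inT_facts : InT p1 ∧ InT p3 ∧ InT pv ∧
    (pv * p0 * pv⁻¹ = p0 ∧ pv * p1 * pv⁻¹ = p3 ∧ pv * p3 * pv⁻¹ = p1) ∧
    (pv * p1 ≠ p1 * pv ∧ pv * p3 ≠ p3 * pv) ∧ (p1 ≠ p0 ∧ p3 ≠ p0 ∧ p1 ≠ p3) ∧
    (IsConj p0 p1 ∧ IsConj p0 p3) := by
  refine ⟨by decide +kernel, by decide +kernel, by decide +kernel, by decide +kernel, by decide +kernel,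
    by decide +kernel, ?_, ?_⟩
  · exact isConj_of_support (by decide +kernel) (by decide +kernel) (by decide +kernel) (by decide +kernel)
      (by decide +kernel)
  · exact isConj_of_support (by decide +kernel) (by decide +kernel) (by decide +kernel) (by decide +kernel)
      (by decide +kernel)

/-- The monomial elements preserving the first block. -/
def InP (q : W) : Prop := q.right = DihedralGroup.r 0 ∨ q.right = DihedralGroup.sr 0

instance : DecidablePred InP := fun q => by unfold InP; infer_instance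

theorem index_monomial :
    ((∃ q : W, q * (wf * wf2) * q⁻¹ = wf * wf3) ∧ (∃ q : W, q * (wf * wf2) * q⁻¹ = wf2 * wf3) ∧
      (∃ q : W, q * q = 1 ∧ q * wf * q⁻¹ = wf3) ∧ wf * wf2 * wf3 = wi ∧ ww * wf3 = wf3 * ww) ∧
    (InP wf ∧ InP wf2 ∧ InP wf3 ∧ InP wt ∧ (Finset.univ.filter InP).card = 16 ∧
      ∀ q, InP q → InP q⁻¹ ∧ q * wf = wf * q) ∧
    (wf * wf = 1 ∧ wf ≠ 1 ∧ wf3 * wf3 = 1 ∧ wf ≠ wf3) := by
  decide +kernel

theorem inP_mul : ∀ p q : W, InP p → InP q → InP (p * q) := by decide +kernel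

theorem fixed_model : ∀ m : Mf, m * mw wf = mw wf * m → m * mw wf2 = mw wf2 * m → m * mw wf3 = mw wf3 * m →
    m * mw wt = mw wt * m → m = 1 ∨ m = mw wf ∨ m = mw (wf2 * wf3) ∨ m = mw wi := by
  decide +kernel

theorem card_Mf : Nat.card Mf = 1296 := by rw [Nat.card_eq_fintype_card]; decide +kernel

namespace Conf.Six

variable {G : Type u} [Group G] {h : Conf G} {hk : h.k = .eight} (S : h.Six hk)

include S in
theorem f_sq : h.emb hk (mw wf3) * h.emb hk (mw wf3) = 1 := by
  rw [← map_mul, skew_model.2.2.2.1.2.2, map_one]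

/-- The candidate Sylow subgroup of the centraliser of the flip. -/
def T : Subgroup G where
  carrier := {g | ∃ x, InT x ∧ (g = S.ψ x ∨ g = S.ψ x * h.emb hk (mw wf3))}
  one_mem' := ⟨1, by simp [InT], Or.inl (map_one _).symm⟩
  mul_mem' := by
    rintro _ _ ⟨x, hx, e⟩ ⟨y, hy, e'⟩
    refine ⟨x * y, ⟨?_, ?_⟩, ?_⟩
    · exact ((show Commute x p0 from hx.1).mul_left hy.1).eq
    · exact ((show Commute x pz from hx.2).mul_left hy.2).eq
    have hc : h.emb hk (mw wf3) * S.ψ y = S.ψ y * h.emb hk (mw wf3) := (S.comm_f y).eq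
    rcases e with rfl | rfl <;> rcases e' with rfl | rfl
    · exact Or.inl (map_mul _ _ _).symm
    · exact Or.inr (by rw [map_mul, mul_assoc])
    · exact Or.inr (by rw [map_mul, mul_assoc, hc, mul_assoc])
    · refine Or.inl ?_
      rw [map_mul, mul_assoc, ← mul_assoc (h.emb hk _), hc, mul_assoc (S.ψ y), S.f_sq, mul_one]
  inv_mem' := by
    rintro _ ⟨x, hx, e⟩
    refine ⟨x⁻¹, ⟨?_, ?_⟩, ?_⟩
    · exact ((show Commute x p0 from hx.1).inv_left).eq
    · exact ((show Commute x pz from hx.2).inv_left).eq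
    rcases e with rfl | rfl
    · exact Or.inl (map_inv _ _).symm
    · refine Or.inr ?_
      rw [mul_inv_rev, inv_eq_of_mul_eq_one_right S.f_sq, map_inv, (S.comm_f x).inv_right.eq]

theorem mem_T {x : P6} (hx : InT x) : S.ψ x ∈ S.T := ⟨x, hx, Or.inl rfl⟩

theorem f_mem_T : h.emb hk (mw wf3) ∈ S.T := ⟨1, by simp [InT], Or.inr (by rw [map_one, one_mul])⟩

theorem f_comm_T {t : G} (ht : t ∈ S.T) : Commute (h.emb hk (mw wf3)) t := by
  obtain ⟨x, -, rfl | rfl⟩ := ht
  · exact S.comm_f x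
  · exact (S.comm_f x).mul_right (Commute.refl _)

theorem s_comm_T {t : G} (ht : t ∈ S.T) : Commute (h.emb hk (mw wf)) t := by
  obtain ⟨x, hx, e⟩ := ht
  have h1 : Commute (h.emb hk (mw wf)) (S.ψ x) := by
    rw [← S.map_0]; exact ((show Commute x p0 from hx.1).map S.ψ).symm
  rcases e with rfl | rfl
  · exact h1
  · refine h1.mul_right ?_
    rw [← S.map_0]; exact (S.comm_f p0).symm

variable [Finite G]

theorem f_ne (x : P6) : h.emb hk (mw wf3) ≠ S.ψ x := by
  intro e
  obtain ⟨-, -, -, ⟨k4, k5, k6⟩, -⟩ := skew_model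
  have hc : Commute (h.emb hk (mw wf3)) (h.j e3) := by rw [e]; exact (S.comm_e x).symm
  have hfe : h.emb hk (mw wf3) * h.j e3 * h.emb hk (mw wf3) = (h.j e3)⁻¹ := by
    rw [← h.emb_a hk, ← map_mul, ← map_mul, k5, map_inv]
  rw [hc.eq, mul_assoc, S.f_sq, mul_one] at hfe
  have h2 : h.j e3 * h.j e3 = 1 := mul_eq_one_iff_eq_inv.2 hfe
  have h3 := h.J_cube _ (h.j_mem e3)
  rw [pow_three, h2, mul_one] at h3
  exact h.j_ne k4 h3

theorem T_card : Nat.card S.T = 32 := by
  classical
  have h16 : Nat.card {x : P6 // InT x} = 16 := by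
    rw [Nat.card_eq_fintype_card, Fintype.card_subtype, inT_perm.1]
  rw [show 32 = Nat.card ({x : P6 // InT x} × Bool) by rw [Nat.card_prod, h16, Nat.card_eq_fintype_card]; rfl]
  refine (Nat.card_congr (Equiv.ofBijective (fun p : {x : P6 // InT x} × Bool =>
    (⟨S.ψ p.1 * (if p.2 then h.emb hk (mw wf3) else 1), mul_mem (S.mem_T p.1.2) (by
      split <;> [exact S.f_mem_T; exact one_mem _])⟩ : S.T)) ⟨?_, ?_⟩)).symm
  · rintro ⟨⟨x, hx⟩, a⟩ ⟨⟨y, hy⟩, b⟩ e
    have e' := congrArg Subtype.val e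
    cases a <;> cases b <;> simp only [if_true, if_false, Bool.false_eq_true, mul_one] at e'
    · rw [Prod.mk.injEq]; exact ⟨Subtype.ext (S.inj e'), rfl⟩
    · exfalso; exact S.f_ne (y⁻¹ * x) (by rw [map_mul, map_inv, e', inv_mul_cancel_left])
    · exfalso; exact S.f_ne (x⁻¹ * y) (by rw [map_mul, map_inv, ← e', inv_mul_cancel_left])
    · rw [Prod.mk.injEq]; exact ⟨Subtype.ext (S.inj (mul_right_cancel e')), rfl⟩
  · rintro ⟨_, x, hx, rfl | rfl⟩
    · exact ⟨(⟨x, hx⟩, false), Subtype.ext (by simp)⟩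
    · exact ⟨(⟨x, hx⟩, true), Subtype.ext (by simp)⟩

/-- The flips in the candidate subgroup. -/
theorem class_T (F : h.Facts) {t : G} (ht : t ∈ S.T) (hc : IsConj (h.emb hk (mw wf)) t) :
    t = h.emb hk (mw wf) ∨ t = h.emb hk (mw wf3) ∨ t = S.ψ p1 ∨ t = S.ψ p3 := by
  obtain ⟨⟨⟨q, hq⟩, -, -, hwi, hww⟩, -, ⟨hf2, hf1, -, -⟩⟩ := index_monomial
  obtain ⟨g, hg⟩ := isConj_iff.1 hc
  have hss : h.emb hk (mw wf) * h.emb hk (mw wf) = 1 := by
    rw [← map_mul, ← map_mul SemidirectProduct.inr, hf2, map_one, map_one]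
  have htt : t * t = 1 := by
    rw [← hg, show g * h.emb hk (mw wf) * g⁻¹ * (g * h.emb hk (mw wf) * g⁻¹) =
      g * (h.emb hk (mw wf) * h.emb hk (mw wf)) * g⁻¹ by group, hss]
    group
  have hs1 : h.emb hk (mw wf) ≠ 1 := fun e => hf1 (by
    have := congrArg SemidirectProduct.rightHom (h.emb_inj hk (e.trans (map_one _).symm))
    simpa using this)
  have hψ : ∀ {x y : P6}, IsConj x y → IsConj (S.ψ x) (S.ψ y) := fun e => S.ψ.map_isConj e
  obtain ⟨x, hx, e⟩ := ht
  rcases e with rfl | rfl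
  · have hx2 : x * x = 1 := S.inj (by rw [map_mul, htt, map_one])
    have hx1 : x ≠ 1 := fun e => hs1 (conj_eq_one_iff.1 (hg.trans (by rw [e, map_one])))
    rcases invol_cases hx2 hx1 with e | e | e
    · obtain ⟨σ, hσ⟩ := isConj_iff.1 e
      have h2 : x.support.card = 2 := by
        rw [← Perm.card_support_conj (σ := σ), hσ]; exact rep_facts.1.2.2
      rcases inT_perm.2 x hx hx2 h2 with rfl | rfl | rfl
      · exact Or.inl S.map_0
      · exact Or.inr (Or.inr (Or.inl rfl))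
      · exact Or.inr (Or.inr (Or.inr rfl))
    · exfalso
      refine S.not_flip_double F (hc.trans ?_)
      have := hψ e
      rwa [map_mul S.ψ p0 p1, S.map_0, S.map_1, ← map_mul (h.emb hk), ← map_mul SemidirectProduct.inr] at this
    · exfalso
      refine h.not_flip_swap hk F (hc.trans ?_)
      have := hψ e
      rwa [S.map_w] at this
  · have hx2 : x * x = 1 := S.inj (by
      rw [(S.comm_f x).mul_mul_mul_comm, S.f_sq, mul_one, ← map_mul] at htt
      rw [htt, map_one])
    by_cases hx1 : x = 1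
    · exact Or.inr (Or.inl (by rw [hx1, map_one, one_mul]))
    exfalso
    have hf : ∀ {y : P6}, IsConj x y → IsConj (S.ψ x * h.emb hk (mw wf3)) (S.ψ y * h.emb hk (mw wf3)) := by
      intro y e
      obtain ⟨σ, hσ⟩ := isConj_iff.1 e
      refine isConj_iff.2 ⟨S.ψ σ, ?_⟩
      rw [← hσ, map_mul, map_mul, map_inv]
      calc S.ψ σ * (S.ψ x * h.emb hk (mw wf3)) * (S.ψ σ)⁻¹
          = S.ψ σ * S.ψ x * (h.emb hk (mw wf3) * (S.ψ σ)⁻¹) := by group
        _ = _ := by rw [(S.comm_f σ).inv_right.eq, ← mul_assoc]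
    rcases invol_cases hx2 hx1 with e | e | e
    · refine S.not_flip_double F (hc.trans ((hf e).trans ?_))
      rw [S.map_0, ← map_mul (h.emb hk), ← map_mul SemidirectProduct.inr, ← hq]
      refine (h.emb hk).map_isConj ((SemidirectProduct.inr : W →* Mf).map_isConj ?_)
      exact (isConj_iff.2 ⟨q, rfl⟩).symm
    · refine h.not_flip_full hk F (hc.trans ?_)
      have := hf e
      rwa [map_mul S.ψ p0 p1, S.map_0, S.map_1, ← map_mul (h.emb hk), ← map_mul (h.emb hk),
        ← map_mul SemidirectProduct.inr, ← map_mul SemidirectProduct.inr, hwi] at this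
    · refine h.not_flip_four hk F (hc.trans ?_)
      have := hf e
      rwa [S.map_w, ← map_mul (h.emb hk), ← map_mul SemidirectProduct.inr, hww] at this

include S in
/-- The candidate subgroup is a Sylow subgroup of the centraliser of the flip. -/
theorem cent_two (F : h.Facts) :
    32 ∣ Nat.card (centralizer ({h.emb hk (mw wf)} : Set G)) ∧
      ¬ 64 ∣ Nat.card (centralizer ({h.emb hk (mw wf)} : Set G)) := by
  classical
  haveI : Fact (Nat.Prime 2) := ⟨Nat.prime_two⟩
  set s := h.emb hk (mw wf) with hs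
  set C := centralizer ({s} : Set G) with hC
  have hTC : S.T ≤ C := fun t ht => mem_centralizer_singleton_iff.2 (S.s_comm_T ht).symm.eq
  refine ⟨S.T_card ▸ card_dvd_of_le hTC, fun h64 => ?_⟩
  have hT2 : IsPGroup 2 S.T := IsPGroup.of_card (n := 5) (by rw [S.T_card]; norm_num)
  obtain ⟨P, hP⟩ := (hT2.comap_subtype (K := C)).exists_le_sylow
  set PG := (P : Subgroup C).map C.subtype with hPG
  have hPC : PG ≤ C := map_subtype_le _
  have hTP : S.T ≤ PG := fun g hg => ⟨⟨g, hTC hg⟩, hP hg, rfl⟩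
  have hd : 2 ^ 6 ∣ Nat.card PG := by
    rw [hPG, card_map_of_injective C.subtype_injective]
    exact P.pow_dvd_card_of_pow_dvd_card h64
  have hne : ¬ PG ≤ S.T := fun hle => by
    rw [le_antisymm hle hTP, S.T_card] at hd
    norm_num at hd
  have hPp : IsPGroup 2 PG := P.2.map _
  have hlt : S.T.subgroupOf PG < ⊤ := lt_top_iff_ne_top.2 fun e => hne (subgroupOf_eq_top.1 e)
  haveI : Group.IsNilpotent PG := hPp.isNilpotent
  obtain ⟨g, hgN, hgT⟩ := SetLike.exists_of_lt (Group.normalizerCondition_of_isNilpotent _ hlt)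
  have hnorm : ∀ z : G, z ∈ S.T → (g : G) * z * (g : G)⁻¹ ∈ S.T ∧ (g : G)⁻¹ * z * g ∈ S.T := fun z hz => by
    refine ⟨(mem_normalizer_iff.1 hgN ⟨z, hTP hz⟩).1 hz, ?_⟩
    have := (mem_normalizer_iff.1 (inv_mem hgN) ⟨z, hTP hz⟩).1 hz
    simpa [mem_subgroupOf, mul_assoc] using this
  have hgs : (g : G) * s = s * g := mem_centralizer_singleton_iff.1 (hPC g.2)
  obtain ⟨t1, t3, tv, ⟨v0, v1, v3⟩, ⟨n1, n3⟩, ⟨ne1, ne3, ne13⟩, ⟨c1, c3⟩⟩ := inT_facts
  obtain ⟨⟨-, -, ⟨n, -, hn⟩, -, -⟩, -⟩ := index_monomial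
  set f := h.emb hk (mw wf3) with hf
  set σ := MulAut.conj (g : G)
  have hσs : σ s = s := by show (g : G) * s * (g : G)⁻¹ = s; rw [hgs, mul_inv_cancel_right]
  have cls : ∀ y : G, y ∈ S.T → IsConj s y → y ≠ s →
      σ y = f ∨ σ y = S.ψ p1 ∨ σ y = S.ψ p3 := by
    intro y hy hc hys
    rcases S.class_T F (hnorm y hy).1 (hc.trans (isConj_iff.2 ⟨(g : G), rfl⟩)) with e | e | e | e
    · exact absurd (σ.injective (e.trans hσs.symm)) hys
    · exact Or.inl e
    · exact Or.inr (Or.inl e)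
    · exact Or.inr (Or.inr e)
  have hsψ : s = S.ψ p0 := S.map_0.symm
  have f_conj : IsConj s f := by
    refine (h.emb hk).map_isConj ((SemidirectProduct.inr : W →* Mf).map_isConj ?_)
    exact isConj_iff.2 ⟨n, hn⟩
  have ψconj : ∀ y, IsConj p0 y → IsConj s (S.ψ y) := fun y hy => by rw [hsψ]; exact S.ψ.map_isConj hy
  have hff : σ f = f := by
    have hcen : ∀ t ∈ S.T, Commute (σ f) t := fun t ht => by
      have := (S.f_comm_T (hnorm t ht).2).conj (g : G)
      rwa [show (g : G) * ((g : G)⁻¹ * t * g) * (g : G)⁻¹ = t by group] at this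
    have notc : ∀ y, pv * y ≠ y * pv → σ f ≠ S.ψ y := fun y hy e => by
      refine hy (S.inj ?_)
      rw [map_mul, map_mul, ← e]
      exact (hcen _ (S.mem_T tv)).eq.symm
    rcases cls f S.f_mem_T f_conj (fun e => S.f_ne p0 (e.trans hsψ)) with e | e | e
    · exact e
    · exact absurd e (notc _ n1)
    · exact absurd e (notc _ n3)
  have himg : ∀ y, InT y → IsConj p0 y → y ≠ p0 → σ (S.ψ y) = S.ψ p1 ∨ σ (S.ψ y) = S.ψ p3 := by
    intro y hy hc hy0
    rcases cls _ (S.mem_T hy) (ψconj y hc) (fun e => hy0 (S.inj (e.trans hsψ))) with e | e | e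
    · exact absurd (σ.injective (e.trans hff.symm)).symm (S.f_ne y)
    · exact Or.inl e
    · exact Or.inr e
  have hET : ∀ x, InE x → InT x := fun x hx =>
    ⟨hx.1, ((show Commute x p1 from hx.2.1).mul_right (show Commute x p3 from hx.2.2)).eq⟩
  have fin : ∀ r : G, Commute r (S.ψ p0) → Commute r (S.ψ p1) → Commute r (S.ψ p3) → Commute r f → r ∈ S.T := by
    intro r r0 r1 r3 rf
    obtain ⟨x, hx, e⟩ := S.cent_flips F (S.mem_Q.2 ⟨r0, r1, r3⟩) rf
    exact ⟨x, hET x hx, e⟩
  have tocomm : ∀ {r y : G}, r * y * r⁻¹ = y → Commute r y := fun e => mul_inv_eq_iff_eq_mul.1 e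
  have hne13 : σ (S.ψ p1) ≠ σ (S.ψ p3) := fun e => ne13 (S.inj (σ.injective e))
  refine hgT (mem_subgroupOf.2 ?_)
  rcases himg p1 t1 c1 ne1 with a | a <;> rcases himg p3 t3 c3 ne3 with b | b
  · exact absurd (a.trans b.symm) hne13
  · exact fin _ (tocomm (hsψ ▸ hσs)) (tocomm a) (tocomm b) (tocomm hff)
  · have hmem : S.ψ pv * (g : G) ∈ S.T := by
      have key : ∀ {y z w : G}, σ y = z → S.ψ pv * z * (S.ψ pv)⁻¹ = w →
          S.ψ pv * (g : G) * y * (S.ψ pv * (g : G))⁻¹ = w := by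
        intro y z w e e'
        rw [← e', ← e]
        show _ = S.ψ pv * ((g : G) * y * (g : G)⁻¹) * (S.ψ pv)⁻¹
        group
      refine fin _ (tocomm (key (hsψ ▸ hσs) ?_)) (tocomm (key a ?_)) (tocomm (key b ?_)) (tocomm (key hff ?_))
      · rw [← map_inv, ← map_mul, ← map_mul, v0]
      · rw [← map_inv, ← map_mul, ← map_mul, v3]
      · rw [← map_inv, ← map_mul, ← map_mul, v1]
      · rw [← (S.comm_f pv).eq, mul_inv_cancel_right]
    have := mul_mem (inv_mem (S.mem_T tv)) hmem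
    rwa [inv_mul_cancel_left] at this
  · exact absurd (a.trans b.symm) hne13

include S in
/-- The order of the group is divisible by sixty-four. -/
theorem dvd_card : 64 ∣ Nat.card G := by
  classical
  obtain ⟨⟨-, -, ⟨q, hq2, hq⟩, -, -⟩, -, ⟨-, -, -, hne⟩⟩ := index_monomial
  set s := h.emb hk (mw wf) with hs
  set f := h.emb hk (mw wf3) with hf
  set n := h.emb hk (mw q) with hn
  have hn2 : n * n = 1 := by rw [hn, ← map_mul, ← map_mul SemidirectProduct.inr, hq2, map_one, map_one]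
  have hni : n⁻¹ = n := inv_eq_of_mul_eq_one_right hn2
  have hns : n * s * n⁻¹ = f := by
    rw [hn, hs, hf, ← map_inv, ← map_mul, ← map_mul, ← map_inv SemidirectProduct.inr,
      ← map_mul SemidirectProduct.inr, ← map_mul SemidirectProduct.inr, hq]
  have hnf : n * f * n⁻¹ = s := by
    rw [← hns, hni, ← mul_assoc, ← mul_assoc, hn2, one_mul, mul_assoc, hn2, mul_one]
  have hsf : s ≠ f := fun e => hne (by
    have := congrArg SemidirectProduct.rightHom (h.emb_inj hk e)
    simpa using this)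
  let L : Subgroup G :=
    { carrier := {g | (g * s * g⁻¹ = s ∧ g * f * g⁻¹ = f) ∨ (g * s * g⁻¹ = f ∧ g * f * g⁻¹ = s)}
      one_mem' := Or.inl ⟨by group, by group⟩
      mul_mem' := by
        intro a b ha hb
        have e : ∀ y, a * b * y * (a * b)⁻¹ = a * (b * y * b⁻¹) * a⁻¹ := fun y => by group
        simp only [Set.mem_setOf_eq, e]
        rcases hb with ⟨b1, b2⟩ | ⟨b1, b2⟩ <;> rw [b1, b2] <;> rcases ha with ⟨a1, a2⟩ | ⟨a1, a2⟩
        · exact Or.inl ⟨a1, a2⟩
        · exact Or.inr ⟨a1, a2⟩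
        · exact Or.inr ⟨a2, a1⟩
        · exact Or.inl ⟨a2, a1⟩
      inv_mem' := by
        intro a ha
        simp only [Set.mem_setOf_eq, inv_inv]
        have e : ∀ {y z : G}, a * y * a⁻¹ = z → a⁻¹ * z * a = y := fun e => by rw [← e]; group
        rcases ha with ⟨a1, a2⟩ | ⟨a1, a2⟩
        · exact Or.inl ⟨e a1, e a2⟩
        · exact Or.inr ⟨e a2, e a1⟩ }
  set K := centralizer ({s, f} : Set G) with hK
  have memK : ∀ g, g ∈ K ↔ g * s * g⁻¹ = s ∧ g * f * g⁻¹ = f := fun g => by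
    rw [mul_inv_eq_iff_eq_mul, mul_inv_eq_iff_eq_mul]
    simp only [hK, mem_centralizer_iff, Set.mem_insert_iff, Set.mem_singleton_iff, forall_eq_or_imp, forall_eq,
      eq_comm]
  have hTK : S.T ≤ K := fun t ht => (memK t).2
    ⟨by rw [← (S.s_comm_T ht).eq, mul_inv_cancel_right], by rw [← (S.f_comm_T ht).eq, mul_inv_cancel_right]⟩
  have hKL : K ≤ L := fun g hg => Or.inl ((memK g).1 hg)
  have hnL : n ∈ L := Or.inr ⟨hns, hnf⟩
  have hL : Nat.card K * 2 = Nat.card L := by
    rw [show (2 : ℕ) = Nat.card Bool by simp, ← Nat.card_prod]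
    refine Nat.card_congr (Equiv.ofBijective (fun p : K × Bool =>
      (⟨(p.1 : G) * (if p.2 then n else 1), mul_mem (hKL p.1.2) (by
        split <;> [exact hnL; exact one_mem _])⟩ : L)) ⟨?_, ?_⟩)
    · have hnK : n ∉ K := fun e => hsf (((memK n).1 e).1.symm.trans hns)
      rintro ⟨⟨x, hx⟩, a⟩ ⟨⟨y, hy⟩, b⟩ e
      have e' := congrArg Subtype.val e
      cases a <;> cases b <;> simp only [if_true, if_false, Bool.false_eq_true, mul_one] at e'
      · rw [Prod.mk.injEq]; exact ⟨Subtype.ext e', rfl⟩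
      · exact absurd (show n ∈ K by
          rw [show n = y⁻¹ * x by rw [e', inv_mul_cancel_left]]; exact mul_mem (inv_mem hy) hx) hnK
      · exact absurd (show n ∈ K by
          rw [show n = x⁻¹ * y by rw [← e', inv_mul_cancel_left]]; exact mul_mem (inv_mem hx) hy) hnK
      · rw [Prod.mk.injEq]; exact ⟨Subtype.ext (mul_right_cancel e'), rfl⟩
    · rintro ⟨g, hg⟩
      rcases hg with hg | ⟨g1, g2⟩
      · exact ⟨(⟨g, (memK g).2 hg⟩, false), Subtype.ext (by simp)⟩
      · refine ⟨(⟨g * n, (memK _).2 ⟨?_, ?_⟩⟩, true), Subtype.ext (by simp [mul_assoc, hn2])⟩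
        · rw [show g * n * s * (g * n)⁻¹ = g * (n * s * n⁻¹) * g⁻¹ by group, hns, g2]
        · rw [show g * n * f * (g * n)⁻¹ = g * (n * f * n⁻¹) * g⁻¹ by group, hnf, g1]
  have h32 : 32 ∣ Nat.card K := S.T_card ▸ card_dvd_of_le hTK
  refine dvd_trans ?_ (card_subgroup_dvd_card L)
  rw [← hL]
  exact Nat.mul_dvd_mul_right h32 2

include S in
/-- The number of conjugates of the flip in the normaliser is odd. -/
theorem odd_flips (F : h.Facts) : Odd (Nat.card {x : G // x ∈ h.N ∧ IsConj (h.emb hk (mw wf)) x}) := by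
  classical
  haveI : Fact (Nat.Prime 2) := ⟨Nat.prime_two⟩
  obtain ⟨⟨-, ⟨q, hq⟩, -, -, -⟩, ⟨p1', p2', p3', p4', pcard, pall⟩, ⟨-, hf1, -, -⟩⟩ := index_monomial
  let PW : Subgroup W :=
    { carrier := {w | InP w}
      one_mem' := Or.inl rfl
      mul_mem' := fun {a b} => inP_mul a b
      inv_mem' := fun {a} ha => (pall a ha).1 }
  let e : W →* G := (h.emb hk).comp SemidirectProduct.inr
  set P := PW.map e with hPdef
  have heinj : Function.Injective e := (h.emb_inj hk).comp SemidirectProduct.inr_injective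
  have hP2 : IsPGroup 2 P := by
    refine IsPGroup.of_card (n := 4) ?_
    rw [hPdef, card_map_of_injective heinj]
    show Nat.card {w : W // InP w} = _
    rw [Nat.card_eq_fintype_card, Fintype.card_subtype, pcard]
    rfl
  set s := h.emb hk (mw wf) with hs
  have hPN : P ≤ h.N := by rintro _ ⟨w, -, rfl⟩; exact (h.mem_N_emb hk).2 ⟨_, rfl⟩
  letI : MulAction P {x : G // x ∈ h.N ∧ IsConj s x} :=
    { smul := fun p x => ⟨(p : G) * x * (p : G)⁻¹, mul_mem (mul_mem (hPN p.2) x.2.1) (inv_mem (hPN p.2)),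
        x.2.2.trans (isConj_iff.2 ⟨p, rfl⟩)⟩
      one_smul := fun x => Subtype.ext (by show ((1 : P) : G) * (x : G) * ((1 : P) : G)⁻¹ = x; simp)
      mul_smul := fun p r x => Subtype.ext (by
        show ((p * r : P) : G) * (x : G) * ((p * r : P) : G)⁻¹ =
          (p : G) * ((r : G) * (x : G) * (r : G)⁻¹) * (p : G)⁻¹
        rw [Subgroup.coe_mul]; group) }
  have hsN : s ∈ h.N := (h.mem_N_emb hk).2 ⟨_, rfl⟩
  set x0 : {x : G // x ∈ h.N ∧ IsConj s x} := ⟨s, hsN, IsConj.refl s⟩ with hx0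
  have hfix : MulAction.fixedPoints P {x : G // x ∈ h.N ∧ IsConj s x} = {x0} := by
    refine Set.eq_singleton_iff_unique_mem.2 ⟨fun p => Subtype.ext ?_, fun x hx => Subtype.ext ?_⟩
    · obtain ⟨w, hw, ew⟩ := p.2
      show (p : G) * s * (p : G)⁻¹ = s
      rw [← ew, show e w = h.emb hk (mw w) from rfl, hs, ← map_mul, ← map_mul SemidirectProduct.inr,
        (pall w hw).2, map_mul SemidirectProduct.inr, map_mul, mul_inv_cancel_right]
    · obtain ⟨m, hm⟩ := (h.mem_N_emb hk).1 x.2.1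
      have comm : ∀ w, InP w → m * mw w = mw w * m := fun w hw => h.emb_inj hk (by
        have e1 : e w * (x : G) * (e w)⁻¹ = x := congrArg Subtype.val (hx ⟨e w, w, hw, rfl⟩)
        rw [map_mul, map_mul, hm]
        exact (mul_inv_eq_iff_eq_mul.1 e1).symm)
      rcases fixed_model m (comm _ p1') (comm _ p2') (comm _ p3') (comm _ p4') with rfl | rfl | rfl | rfl
      · exfalso
        obtain ⟨g, hg⟩ := isConj_iff.1 x.2.2
        rw [← hm, map_one, conj_eq_one_iff] at hg
        refine hf1 ?_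
        have := congrArg SemidirectProduct.rightHom (h.emb_inj hk (hg.trans (map_one _).symm))
        simpa using this
      · exact hm.symm
      · refine absurd (x.2.2.trans ?_) (S.not_flip_double F)
        rw [← hm, ← hq]
        refine (h.emb hk).map_isConj ((SemidirectProduct.inr : W →* Mf).map_isConj ?_)
        exact (isConj_iff.2 ⟨q, rfl⟩).symm
      · refine absurd x.2.2 ?_
        rw [← hm]
        exact h.not_flip_full hk F
  have hmod := hP2.card_modEq_card_fixedPoints {x : G // x ∈ h.N ∧ IsConj s x}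
  rw [hfix, Nat.card_coe_set_eq, Set.ncard_singleton] at hmod
  exact Nat.odd_iff.2 hmod

include S in
/-- The flip acts as an odd permutation on the cosets of the normaliser. -/
theorem sign_flip (F : h.Facts) [Fintype (G ⧸ h.N)] [DecidableEq (G ⧸ h.N)] :
    Perm.sign (MulAction.toPermHom G (G ⧸ h.N) (h.emb hk (mw wf))) = -1 := by
  classical
  set s := h.emb hk (mw wf) with hs
  set σ := MulAction.toPermHom G (G ⧸ h.N) s with hσdef
  obtain ⟨-, -, ⟨hf2, -, -, -⟩⟩ := index_monomial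
  have hss : s * s = 1 := by rw [hs, ← map_mul, ← map_mul SemidirectProduct.inr, hf2, map_one, map_one]
  have hσ2 : σ * σ = 1 := by rw [hσdef, ← map_mul, hss, map_one]
  have hN : Nat.card h.N = 1296 := by
    rw [← card_Mf]
    refine (Nat.card_congr (Equiv.ofBijective (fun m : Mf =>
      (⟨h.emb hk m, (h.mem_N_emb hk).2 ⟨m, rfl⟩⟩ : h.N))
      ⟨fun a b e => h.emb_inj hk (congrArg Subtype.val e), fun g => ?_⟩)).symm
    obtain ⟨m, hm⟩ := (h.mem_N_emb hk).1 g.2
    exact ⟨m, Subtype.ext hm⟩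
  have hfix := fix_card_mul h.N s
  obtain ⟨⟨c, hc⟩, h64⟩ := S.cent_two F
  rw [hN, hc] at hfix
  have hc2 : Odd c := by
    rcases Nat.even_or_odd c with ⟨d, hd⟩ | ho
    · exact absurd ⟨d, by rw [hc, hd]; ring⟩ h64
    · exact ho
  obtain ⟨w, hw⟩ : Odd (c * Nat.card {x : G // x ∈ h.N ∧ IsConj s x}) := hc2.mul (S.odd_flips F)
  rw [mul_assoc 32, hw] at hfix
  obtain ⟨u, hu⟩ := S.dvd_card
  have hidx := h.N.card_mul_index
  rw [hN, hu, Subgroup.index] at hidx
  have hcard : σ.support.card + Nat.card {p : G ⧸ h.N // s • p = p} = Nat.card (G ⧸ h.N) := by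
    rw [Nat.card_eq_fintype_card, Nat.card_eq_fintype_card, Fintype.card_subtype,
      show σ.support = Finset.univ.filter (fun p : G ⧸ h.N => ¬ s • p = p) from
        Finset.ext fun p => by rw [Perm.mem_support, Finset.mem_filter]; exact (and_iff_right (Finset.mem_univ p)).symm,
      add_comm, Finset.card_filter_add_card_filter_not, Finset.card_univ]
  have h4 : σ.support.card % 4 = 2 := by omega
  have hσ1 : σ ≠ 1 := fun e => by rw [e, Perm.support_one] at h4; simp at h4
  haveI : Fact (Nat.Prime 2) := ⟨Nat.prime_two⟩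
  have oσ : orderOf σ = 2 := orderOf_eq_prime (by rw [pow_two, hσ2]) hσ1
  obtain ⟨m, hm⟩ := Perm.cycleType_prime_order (by rw [oσ]; exact Nat.prime_two)
  rw [oσ] at hm
  have hsum := Perm.sum_cycleType σ
  rw [hm, Multiset.sum_replicate, smul_eq_mul] at hsum
  rw [Perm.sign_of_cycleType, hm, Multiset.sum_replicate, Multiset.card_replicate, smul_eq_mul]
  exact Odd.neg_one_pow (Nat.odd_iff.2 (by omega))

end Conf.Six

namespace Conf

variable {G : Type u} [Group G] [Finite G] (h : Conf G)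

/-- In the large case the flip lies outside a subgroup of index two. -/
theorem index_two_of_big (F : h.Facts) (hk : h.k = .eight) (hb : ¬ centralizer ({h.j e1} : Set G) ≤ h.N) :
    ∃ G0 : Subgroup G, G0.index = 2 ∧ ∀ hw : inK h.k wf, h.q ⟨wf, hw⟩ ∉ G0 := by
  classical
  obtain ⟨S⟩ := h.exists_six hk F hb
  haveI : Fintype (G ⧸ h.N) := Fintype.ofFinite _
  set χ : G →* ℤˣ := Perm.sign.comp (MulAction.toPermHom G (G ⧸ h.N)) with hχ
  have hs : χ (h.emb hk (mw wf)) = -1 := S.sign_flip F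
  refine ⟨χ.ker, ?_, fun hw hmem => ?_⟩
  · have hr : χ.range = ⊤ := eq_top_iff.2 fun u _ => by
      rcases Int.units_eq_one_or u with rfl | rfl
      · exact one_mem _
      · exact ⟨_, hs⟩
    rw [Subgroup.index_ker, hr, card_top, Nat.card_eq_fintype_card, Fintype.card_units_int]
  · rw [MonoidHom.mem_ker, ← h.emb_q hk wf hw, hs] at hmem
    exact absurd hmem (by decide)

end Conf

end Cfsg.Agent.Sym9ThreeLocal
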