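import Cfsg.Agent.Sym9ThreeLocal.Tau

/-!
# The kind of order forty-eight with all centralisers local: a subgroup of index two
-/

set_option autoImplicit false
set_option synthInstance.maxSize 4000
set_option synthInstance.maxHeartbeats 400000

namespace Cfsg.Agent.Sym9ThreeLocal

open Cfsg Cfsg.Agent Subgroup

universe u

/-- The parity of the permutation of nine points attached to an element of the automiser. -/
def parFun (u : W) : ZMod 2 :=
  u.left.toAdd.1 + u.left.toAdd.2.1 + u.left.toAdd.2.2 + match u.right with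
  | .r _ => 0
  | .sr _ => 1

theorem parFun_mul : ∀ u v : W, parFun (u * v) = parFun u + parFun v := by decide +kernel

/-- The parity as a homomorphism. -/
def parHom : W →* Multiplicative (ZMod 2) :=
  MonoidHom.mk' (fun u => Multiplicative.ofAdd (parFun u)) fun u v => by rw [parFun_mul]; rfl

/-- The single sign changes. -/
def wd : W := wq 0 1 1 (.r 0)
/-- An exchange with a sign change of the fixed block. -/
def wz : W := wq 1 0 0 (.sr 0)
/-- The classes of involutions. -/
def invRep : Fin 5 → W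
  | 0 => wt
  | 1 => wf
  | 2 => wi
  | 3 => wd
  | 4 => wz

/-- Membership in a class of involutions. -/
def InClass (i : Fin 5) (u : W) : Prop := ∃ w : W, w * invRep i * w⁻¹ = u

instance (i : Fin 5) (u : W) : Decidable (InClass i u) := by unfold InClass; infer_instance

theorem inv_classes : ∀ u : W, u * u = 1 → u ≠ 1 → ∃ i, InClass i u := by decide +kernel

theorem class_parity : ∀ i : Fin 5, parFun (invRep i) = if i.val < 3 then 1 else 0 := by decide +kernel

theorem class_counts : ∀ ε δ : Bool, (Finset.univ.filter fun p : A × W => p.1 * act p.2 p.1 = 1 ∧ p.2 * p.2 = 1 ∧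
    (InClass 0 p.2 ∨ (ε = true ∧ InClass 1 p.2) ∨ (δ = true ∧ InClass 2 p.2))).card =
      18 + (if ε then 9 else 0) + (if δ then 27 else 0) := by
  decide +kernel

theorem small_cent : act wd e1 = e1 ∧ act wz (vec 0 1 1) = vec 0 1 1 ∧ e1 ≠ 1 ∧ vec 0 1 1 ≠ 1 ∧
    ¬ EType .eight (vec 0 1 1) ∧ wd * wd = 1 ∧ wz * wz = 1 ∧ wf * wf = 1 ∧ parFun wt = 1 ∧
    (∀ a : A, act wd a = a → a = 1 ∨ a = e1 ∨ a = e1 * e1) ∧
    (∀ a : A, act wz a = a → a = 1 ∨ a = vec 0 1 1 ∨ a = vec 0 1 1 * vec 0 1 1) ∧
    (∀ u : W, u ^ 3 = 1 → u * wd = wd * u → act u e1 = e1 → u = 1) ∧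
    (∀ u : W, u ^ 3 = 1 → u * wz = wz * u → act u (vec 0 1 1) = vec 0 1 1 → u = 1) ∧
    (Finset.univ.filter fun a : A => act wt a = a).card = 9 ∧
    (Finset.univ.filter fun a : A => act wf a = a).card = 9 ∧
    (∀ u : W, u ^ 12 = 1) ∧
    (Finset.univ.filter fun q : W => act q 1 = 1).card = 48 := by
  decide +kernel

theorem invRep_sq : ∀ b : Fin 5, invRep b * invRep b = 1 ∧ invRep b ≠ 1 := by decide +kernel

theorem par_facts : parFun 1 = 0 ∧ (∀ u : W, parFun u⁻¹ = parFun u) ∧ parFun wt = 1 ∧ parFun wf = 1 ∧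
    parFun wc = 0 ∧ wc ^ 3 = 1 ∧ (∀ y : Multiplicative (ZMod 2), ∃ u : W, Multiplicative.ofAdd (parFun u) = y) ∧
    Nat.card (Multiplicative (ZMod 2)) = 2 := by
  refine ⟨by decide +kernel, by decide +kernel, by decide +kernel, by decide +kernel, by decide +kernel,
    by decide +kernel, by decide +kernel, by simp⟩

theorem par_words : ∀ u : W, ∃ a b c : Fin 2, ∃ i : Fin 3, ∃ e : Fin 2,
    wf ^ (a : ℕ) * (wc * wf * wc⁻¹) ^ (b : ℕ) * (wc * wc * wf * (wc * wc)⁻¹) ^ (c : ℕ) *
      wc ^ (i : ℕ) * wt ^ (e : ℕ) = u := by decide +kernel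

theorem sign_add : ∀ a b : ZMod 2, ((if a = 0 then (1 : ℤˣ) else -1) * if b = 0 then (1 : ℤˣ) else -1) =
    if a + b = 0 then 1 else -1 := by decide +kernel

namespace Conf

variable {G : Type u} [Group G] [Finite G] (h : Conf G)

omit [Finite G] in
/-- The components of an element of the normaliser commuting with an element of the complement. -/
theorem split_q {c : A} {u i : KG h.k} :
    h.j c * h.q u * h.q i = h.q i * (h.j c * h.q u) ↔ act (i : W) c = c ∧ (u : W) * i = i * u := by
  constructor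
  · intro e
    have e1 : h.j c * h.q (u * i) = h.j (act (i : W) c) * h.q (i * u) := by
      rw [map_mul, map_mul, ← h.conj_j, ← mul_assoc, e]; group
    have e2 : inlA h.k c * inrK h.k (u * i) = inlA h.k (act (i : W) c) * inrK h.k (i * u) :=
      h.inj ((map_mul h.φ _ _).trans (e1.trans (map_mul h.φ _ _).symm))
    have e3 := congrArg Subtype.val e2
    change (SemidirectProduct.inl c * SemidirectProduct.inr ((u : W) * i) : Mf) =
      SemidirectProduct.inl (act (i : W) c) * SemidirectProduct.inr ((i : W) * u) at e3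
    have hl := congrArg SemidirectProduct.left e3
    have hr := congrArg SemidirectProduct.right e3
    simp at hl hr
    exact ⟨hl.symm, hr⟩
  · rintro ⟨hc, hu⟩
    have e1 : h.q u * h.q i = h.q i * h.q u := by rw [← map_mul, ← map_mul]; exact congrArg h.q (Subtype.ext hu)
    have e2 : h.q i * h.j c = h.j c * h.q i := mul_inv_eq_iff_eq_mul.1 ((h.conj_j i c).trans (congrArg h.j hc))
    rw [mul_assoc, e1, ← mul_assoc, ← e2, mul_assoc]

/-- An involution fixing only a line with local centraliser has centraliser of order not divisible by nine. -/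
theorem not_nine_dvd {i : KG h.k} {v : A} (hv : v ≠ 1) (hiv : act (i : W) v = v)
    (hfix : ∀ a : A, act (i : W) a = a → a = 1 ∨ a = v ∨ a = v * v)
    (hu : ∀ u : W, u ^ 3 = 1 → u * (i : W) = i * u → act u v = v → u = 1)
    (hloc : centralizer ({h.j v} : Set G) ≤ h.N) :
    ¬ 9 ∣ Nat.card (centralizer ({h.q i} : Set G)) := by
  classical
  haveI : Fact (Nat.Prime 3) := ⟨Nat.prime_three⟩
  intro h9
  set C := centralizer ({h.q i} : Set G) with hC
  have hvC : h.j v ∈ C := mem_centralizer_singleton_iff.2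
    (mul_inv_eq_iff_eq_mul.1 ((h.conj_j i v).trans (congrArg h.j hiv))).symm
  let z : C := ⟨h.j v, hvC⟩
  have hz : orderOf z = 3 := by rw [orderOf_mk, h.order_j hv]
  have hz3 : IsPGroup 3 (zpowers z) := IsPGroup.of_card (n := 1) (by rw [Nat.card_zpowers, hz, pow_one])
  obtain ⟨P, hP⟩ := hz3.exists_le_sylow
  have h9P : 3 ^ 2 ∣ Nat.card (P : Subgroup C) := P.pow_dvd_card_of_pow_dvd_card (by simpa using h9)
  have hlt : (zpowers z).subgroupOf (P : Subgroup C) < ⊤ := by
    refine lt_top_iff_ne_top.2 fun e => ?_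
    have := card_le_of_le (subgroupOf_eq_top.1 e)
    rw [Nat.card_zpowers, hz] at this
    have := Nat.le_of_dvd Nat.card_pos h9P
    omega
  haveI : Group.IsNilpotent (P : Subgroup C) := P.2.isNilpotent
  obtain ⟨g, hgN, hgz⟩ := SetLike.exists_of_lt (Group.normalizerCondition_of_isNilpotent _ hlt)
  obtain ⟨n, hn⟩ := P.2 g
  have hn' : ((g : C) : G) ^ 3 ^ n = 1 := by
    have := congrArg (fun y : (P : Subgroup C) => ((y : C) : G)) hn
    simpa using this
  have hgv : ((g : C) : G) * h.j v = h.j v * ((g : C) : G) := by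
    have h1 : (g : C) * z * (g : C)⁻¹ ∈ zpowers z :=
      (mem_normalizer_iff.1 hgN ⟨z, hP (mem_zpowers z)⟩).1 (mem_zpowers z)
    have h2 : ((g : C) : G) * h.j v * ((g : C) : G)⁻¹ ∈ zpowers (h.j v) := by
      obtain ⟨m, hm⟩ := mem_zpowers_iff.1 h1
      exact mem_zpowers_iff.2 ⟨m, congrArg Subtype.val hm⟩
    rcases A9ThreeLocal.zpowers_three_cases (h.J_cube _ (h.j_mem v)) h2 with e | e | e
    · exact absurd (conj_eq_one_iff.1 e) (h.j_ne hv)
    · exact mul_inv_eq_iff_eq_mul.1 e
    · exfalso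
      have hpow : ∀ m : ℕ, ((g : C) : G) ^ m * h.j v * (((g : C) : G) ^ m)⁻¹ =
          if Even m then h.j v else (h.j v)⁻¹ := by
        intro m
        induction m with
        | zero => simp
        | succ m ih =>
          rw [pow_succ', show ((g : C) : G) * ((g : C) : G) ^ m * h.j v * (((g : C) : G) * ((g : C) : G) ^ m)⁻¹ =
            ((g : C) : G) * (((g : C) : G) ^ m * h.j v * (((g : C) : G) ^ m)⁻¹) * ((g : C) : G)⁻¹ by group, ih]
          by_cases hm : Even m
          · rw [if_pos hm, if_neg (Nat.even_add_one.not.2 (not_not.2 hm)), e]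
          · rw [if_neg hm, if_pos (Nat.even_add_one.2 hm), ← conj_inv, e, inv_inv]
      have := hpow (3 ^ n)
      rw [hn', one_mul, inv_one, mul_one,
        if_neg (Nat.not_even_iff_odd.2 ((show Odd 3 by decide).pow))] at this
      exact h.j_ne hv (by
        have h3 := h.J_cube _ (h.j_mem v)
        rwa [pow_succ, pow_two, mul_eq_one_iff_eq_inv.2 this, one_mul] at h3)
  obtain ⟨u, hu', c, hgc⟩ := h.exists_act (hloc (mem_centralizer_singleton_iff.2 hgv))
  have hgi := mem_centralizer_singleton_iff.1 (g : C).2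
  rw [hgc] at hgi
  obtain ⟨hc, hui⟩ := h.split_q.1 hgi
  have hu3 : (u : W) ^ 3 ^ n = 1 := act_inj _ fun a => h.j_inj (by
    have hconj : ∀ m : ℕ, ((g : C) : G) ^ m * h.j a * (((g : C) : G) ^ m)⁻¹ = h.j (act ((u : W) ^ m) a) := by
      intro m
      induction m with
      | zero => simp [act_one]
      | succ m ih =>
        rw [pow_succ', show ((g : C) : G) * ((g : C) : G) ^ m * h.j a * (((g : C) : G) * ((g : C) : G) ^ m)⁻¹ =
            ((g : C) : G) * (((g : C) : G) ^ m * h.j a * (((g : C) : G) ^ m)⁻¹) * ((g : C) : G)⁻¹ by group,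
          ih, hu', pow_succ', act_mul]
    rw [← hconj, hn']; simp)
  have h3 : (u : W) ^ 3 = 1 := by
    rw [← orderOf_dvd_iff_pow_eq_one]
    have h12 := orderOf_dvd_of_pow_eq_one (small_cent.2.2.2.2.2.2.2.2.2.2.2.2.2.2.2.1 (u : W))
    obtain ⟨m, -, e⟩ := (Nat.dvd_prime_pow Nat.prime_three).1 (orderOf_dvd_of_pow_eq_one hu3)
    rw [e] at h12 ⊢
    have h12' : 3 ^ m ∣ 3 * 4 := h12
    exact (Nat.Coprime.pow_left m (by norm_num)).dvd_of_dvd_mul_right h12'
  have huv : act u v = v := h.j_inj (by rw [← hu', hgv, mul_inv_cancel_right])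
  rw [show u = 1 from Subtype.ext (hu _ h3 hui huv), map_one, mul_one] at hgc
  refine hgz (mem_subgroupOf.2 ?_)
  rcases hfix c hc with rfl | rfl | rfl
  · rw [map_one] at hgc
    rw [show (g : C) = 1 from Subtype.ext hgc]
    exact one_mem _
  · rw [show (g : C) = z from Subtype.ext hgc]
    exact mem_zpowers z
  · rw [show (g : C) = z * z from Subtype.ext (hgc.trans (map_mul _ _ _))]
    exact mul_mem (mem_zpowers z) (mem_zpowers z)

/-- An element of the complement fixing nine vectors has centraliser of order divisible by nine. -/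
theorem nine_dvd (i : KG h.k) (hc : (Finset.univ.filter fun a : A => act (i : W) a = a).card = 9) :
    9 ∣ Nat.card (centralizer ({h.q i} : Set G)) := by
  classical
  let F : Subgroup A :=
    { carrier := {a | act (i : W) a = a}
      one_mem' := by
        show act (i : W) 1 = 1
        rw [← theta_apply, map_one]
      mul_mem' := fun {a b} ha hb => (act_hom (i : W) a b).trans (by rw [ha, hb])
      inv_mem' := fun {a} ha => by
        show act (i : W) a⁻¹ = a⁻¹
        rw [← theta_apply, map_inv, theta_apply, ha] }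
  have hF : Nat.card F = 9 := by
    rw [← hc, ← Fintype.card_subtype, ← Nat.card_eq_fintype_card]; rfl
  rw [← hF, ← card_map_of_injective (K := F) h.j_inj]
  refine card_dvd_of_le ?_
  rintro _ ⟨a, ha, rfl⟩
  exact mem_centralizer_singleton_iff.2 (mul_inv_eq_iff_eq_mul.1 ((h.conj_j i a).trans (congrArg h.j ha))).symm

/-- With every centraliser local there is a subgroup of index two meeting the normaliser in its even part. -/
theorem index_two_of_local (hk : h.k = .eight) (he1 : centralizer ({h.j e1} : Set G) ≤ h.N) :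
    ∃ G0 : Subgroup G, G0.index = 2 ∧ ∀ u : KG h.k, (h.q u ∈ G0 ↔ parFun u = 0) := by
  classical
  haveI : Fact (Nat.Prime 2) := ⟨Nat.prime_two⟩
  have hin : ∀ u : W, inK h.k u := fun u => hk ▸ trivial
  let Q : W →* G :=
    { toFun := fun u => h.q ⟨u, hin u⟩
      map_one' := h.q.map_one
      map_mul' := fun u v => h.q.map_mul ⟨u, hin u⟩ ⟨v, hin v⟩ }
  have hQ : ∀ u, Q u = h.q ⟨u, hin u⟩ := fun u => rfl
  have htau : h.tau = Q wt := rfl
  -- the two kinds are not fused
  have hlow : ∀ i : Fin 5, 3 ≤ i.val → ¬ 9 ∣ Nat.card (centralizer ({Q (invRep i)} : Set G)) := by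
    obtain ⟨hd1, hz1, hn1, hn2, hnE, -, -, -, -, hfd, hfz, hud, huz, -⟩ := small_cent
    intro i hi
    fin_cases i <;> simp at hi
    · exact h.not_nine_dvd (i := ⟨wd, hin _⟩) hn1 hd1 hfd hud he1
    · exact h.not_nine_dvd (i := ⟨wz, hin _⟩) hn2 hz1 hfz huz (h.loc hn2 (hk ▸ hnE))
  have hcard : ∀ y z : G, IsConj y z →
      Nat.card (centralizer ({y} : Set G)) = Nat.card (centralizer ({z} : Set G)) := fun y z e => by
    obtain ⟨g, rfl⟩ := isConj_iff.1 e
    exact (A9ThreeLocal.card_centralizer_conj g y).symm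
  have hsep : ∀ b : Fin 5, b.val = 0 ∨ b.val = 1 → ∀ i : Fin 5, 3 ≤ i.val → ¬ IsConj (Q (invRep b)) (Q (invRep i)) := by
    intro b hb i hi e
    refine hlow i hi (hcard _ _ e ▸ ?_)
    obtain ⟨-, -, -, -, -, -, -, -, -, -, -, -, -, hft, hff, -⟩ := small_cent
    fin_cases b <;> simp at hb
    · exact h.nine_dvd ⟨wt, hin _⟩ hft
    · exact h.nine_dvd ⟨wf, hin _⟩ hff
  -- involutions of the normaliser
  have hnorm : ∀ (c : A) (u : W) (i : Fin 5), c * act u c = 1 → InClass i u → IsConj (Q (invRep i)) (h.j c * Q u) := by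
    rintro c u i hc ⟨w, rfl⟩
    refine isConj_iff.2 ⟨h.j c⁻¹ * Q w, ?_⟩
    have e1 : act (w * invRep i * w⁻¹) c = c⁻¹ := eq_inv_of_mul_eq_one_right hc
    have e2 : Q (w * invRep i * w⁻¹) * h.j c = h.j c⁻¹ * Q (w * invRep i * w⁻¹) :=
      mul_inv_eq_iff_eq_mul.1 ((h.conj_j ⟨_, hin _⟩ c).trans (congrArg h.j e1))
    calc h.j c⁻¹ * Q w * Q (invRep i) * (h.j c⁻¹ * Q w)⁻¹
        = h.j c⁻¹ * (Q (w * invRep i * w⁻¹) * h.j c) := by
          rw [map_mul, map_mul, map_inv Q w, map_inv h.j c]; group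
      _ = h.j c * Q (w * invRep i * w⁻¹) := by
          rw [e2, ← mul_assoc, ← map_mul,
            show c⁻¹ * c⁻¹ = c by rw [← mul_inv_rev]; exact inv_eq_of_mul_eq_one_right (by
              rw [mul_assoc, ← pow_three, A_cube c])]
  have hinvol : ∀ (c : A) (u : W), h.j c * Q u * (h.j c * Q u) = 1 → c * act u c = 1 ∧ u * u = 1 := by
    intro c u e
    have e1 : h.j (c * act u c) * h.q (⟨u, hin u⟩ * ⟨u, hin u⟩) = h.j 1 * h.q 1 := by
      rw [map_one, map_one, one_mul, map_mul, map_mul, ← h.conj_j ⟨u, hin u⟩]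
      refine Eq.trans ?_ e
      rw [hQ]; group
    have e2 : inlA h.k (c * act u c) * inrK h.k (⟨u, hin u⟩ * ⟨u, hin u⟩) = inlA h.k 1 * inrK h.k 1 :=
      h.inj ((map_mul h.φ _ _).trans (e1.trans (map_mul h.φ _ _).symm))
    have e3 := congrArg Subtype.val e2
    change (SemidirectProduct.inl (c * act u c) * SemidirectProduct.inr (u * u) : Mf) =
      SemidirectProduct.inl 1 * SemidirectProduct.inr 1 at e3
    have hl := congrArg SemidirectProduct.left e3
    have hr := congrArg SemidirectProduct.right e3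
    simp at hl hr
    exact ⟨hl, hr⟩
  have hsplit : ∀ g ∈ h.N, ∃ c u, g = h.j c * Q u := fun g hg => by
    obtain ⟨c, u, rfl⟩ := h.exists_split hg
    exact ⟨c, u, rfl⟩
  -- the classes of the conjugates of an involution in the normaliser
  have hconjQ : ∀ b : Fin 5, Q (invRep b) * Q (invRep b) = 1 ∧ Q (invRep b) ≠ 1 := fun b => by
    have hb := invRep_sq b
    exact ⟨by rw [← map_mul, hb.1, map_one], fun e => hb.2 (by
      have := h.q_inj ((hQ _).symm.trans (e.trans h.q.map_one.symm))
      exact congrArg Subtype.val this)⟩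
  have hclass : ∀ (b : Fin 5) (c : A) (u : W), IsConj (Q (invRep b)) (h.j c * Q u) →
      c * act u c = 1 ∧ u * u = 1 ∧ ∃ i, InClass i u ∧ IsConj (Q (invRep b)) (Q (invRep i)) := by
    intro b c u e
    obtain ⟨g, hg⟩ := isConj_iff.1 e
    have h2 : h.j c * Q u * (h.j c * Q u) = 1 := by
      rw [← hg]
      calc g * Q (invRep b) * g⁻¹ * (g * Q (invRep b) * g⁻¹) = g * (Q (invRep b) * Q (invRep b)) * g⁻¹ := by group
        _ = 1 := by rw [(hconjQ b).1]; group
    obtain ⟨hc, hu⟩ := hinvol c u h2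
    refine ⟨hc, hu, ?_⟩
    have hu1 : u ≠ 1 := fun e1 => by
      have hc1 : c = 1 := by
        have h3 := A_cube c
        rw [e1, act_one] at hc
        rwa [pow_succ, pow_two, hc, one_mul] at h3
      rw [e1, hc1, map_one, map_one, one_mul, conj_eq_one_iff] at hg
      exact (hconjQ b).2 hg
    obtain ⟨i, hi⟩ := inv_classes u hu hu1
    exact ⟨i, hi, e.trans (hnorm c u i hc hi).symm⟩
  -- counting
  have hN : Nat.card h.N = 1296 := by
    have := h.card_cent_inf 1
    rw [inf_eq_left.2 (fun g _ => mem_centralizer_singleton_iff.2 (by simp)), hk] at this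
    rw [this, show (Finset.univ.filter fun q : W => inK .eight q ∧ act q 1 = 1) =
      Finset.univ.filter fun q : W => act q 1 = 1 from Finset.filter_congr fun q _ => by simp [inK],
      small_cent.2.2.2.2.2.2.2.2.2.2.2.2.2.2.2.2]
  set ε : Bool := decide (IsConj (Q wt) (Q wf)) with hε
  set δ : Bool := decide (IsConj (Q wt) (Q wi)) with hδ
  have hm : Nat.card {n : G // n ∈ h.N ∧ IsConj h.tau n} = 18 + (if ε then 9 else 0) + (if δ then 27 else 0) := by
    rw [← class_counts ε δ, ← Fintype.card_subtype, ← Nat.card_eq_fintype_card]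
    refine (Nat.card_congr (Equiv.ofBijective (fun p : {p : A × W // p.1 * act p.2 p.1 = 1 ∧ p.2 * p.2 = 1 ∧
      (InClass 0 p.2 ∨ (ε = true ∧ InClass 1 p.2) ∨ (δ = true ∧ InClass 2 p.2))} =>
      (⟨h.j p.1.1 * Q p.1.2, ?_⟩ : {n : G // n ∈ h.N ∧ IsConj h.tau n})) ⟨?_, ?_⟩)).symm
    · refine ⟨mul_mem (h.j_mem_N _) (h.q_mem_N _), ?_⟩
      obtain ⟨hc, -, hcl | ⟨e, hcl⟩ | ⟨e, hcl⟩⟩ := p.2
      · exact hnorm _ _ 0 hc hcl
      · exact (of_decide_eq_true e).trans (hnorm _ _ 1 hc hcl)
      · exact (of_decide_eq_true e).trans (hnorm _ _ 2 hc hcl)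
    · rintro ⟨⟨a, q⟩, _⟩ ⟨⟨b, r⟩, _⟩ e
      have e' : h.j a * h.q ⟨q, hin q⟩ = h.j b * h.q ⟨r, hin r⟩ := congrArg Subtype.val e
      have e2 : inlA h.k a * inrK h.k ⟨q, hin q⟩ = inlA h.k b * inrK h.k ⟨r, hin r⟩ :=
        h.inj (by rw [map_mul, map_mul]; exact e')
      have e3 := congrArg Subtype.val e2
      change (SemidirectProduct.inl a * SemidirectProduct.inr q : Mf) =
        SemidirectProduct.inl b * SemidirectProduct.inr r at e3
      have hl := congrArg SemidirectProduct.left e3
      have hr := congrArg SemidirectProduct.right e3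
      simp at hl hr
      exact Subtype.ext (Prod.ext hl hr)
    · rintro ⟨g, hgN, hgc⟩
      obtain ⟨c, u, rfl⟩ := hsplit g hgN
      obtain ⟨hc, hu, i, hi, hi'⟩ := hclass 0 c u hgc
      refine ⟨⟨(c, u), hc, hu, ?_⟩, rfl⟩
      fin_cases i
      · exact Or.inl hi
      · exact Or.inr (Or.inl ⟨decide_eq_true hi', hi⟩)
      · exact Or.inr (Or.inr ⟨decide_eq_true hi', hi⟩)
      · exact absurd hi' (hsep 0 (Or.inl rfl) 3 le_rfl)
      · exact absurd hi' (hsep 0 (Or.inl rfl) 4 (by decide))
  have hfix := fix_card_mul h.N h.tau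
  rw [(h.tau_le he1).2, hk, hN, hm] at hfix
  have hfodd : Odd (Nat.card {p : G ⧸ h.N // h.tau • p = p}) := by
    simp only [tauCard] at hfix
    rw [Nat.odd_iff]
    generalize ε = x, δ = y at hfix
    cases x <;> cases y <;> norm_num at hfix <;> omega
  haveI := Fintype.ofFinite (G ⧸ h.N)
  have hodd : Odd h.N.index := by
    have hσ : MulAction.toPerm (α := G) (β := G ⧸ h.N) h.tau ^ 2 ^ 1 = 1 := Equiv.ext fun p => by
      rw [pow_one, pow_two, Equiv.Perm.mul_apply, Equiv.Perm.one_apply, MulAction.toPerm_apply,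
        MulAction.toPerm_apply, smul_smul, h.tau_sq, one_smul]
    have h1 := Equiv.Perm.card_compl_support_modEq hσ
    have h2 : (Equiv.Perm.support (MulAction.toPerm (α := G) (β := G ⧸ h.N) h.tau))ᶜ.card =
        Nat.card {p : G ⧸ h.N // h.tau • p = p} := by
      rw [Nat.card_eq_fintype_card, Fintype.card_subtype]
      congr 1
      ext p
      simp
    rw [h2, ← Nat.card_eq_fintype_card, ← index_eq_card] at h1
    rw [Nat.odd_iff] at hfodd ⊢
    rw [Nat.ModEq] at h1
    omega
  -- the parity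
  set π : Mk h.k →* Multiplicative (ZMod 2) :=
    (parHom.comp SemidirectProduct.rightHom).comp (Mk h.k).subtype with hπ
  set H : Subgroup G := π.ker.map h.φ with hH
  have hker : 2 * Nat.card π.ker = 1296 := by
    rw [← hN, show Nat.card h.N = Nat.card (Mk h.k) from Nat.card_congr (MonoidHom.ofInjective h.inj).toEquiv.symm,
      ← card_mul_index π.ker, index_ker, mul_comm,
      MonoidHom.range_eq_top.2 (fun y => by
        obtain ⟨u, hu⟩ := par_facts.2.2.2.2.2.2.1 y
        exact ⟨inrK h.k ⟨u, hin u⟩, hu⟩), card_top, par_facts.2.2.2.2.2.2.2]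
  have hidx : H.index = 2 * h.N.index := by
    have h1 := card_mul_index H
    rw [← card_mul_index h.N, hN, hH, card_map_of_injective h.inj] at h1
    refine Nat.eq_of_mul_eq_mul_left (show 0 < Nat.card π.ker from Nat.card_pos) ?_
    rw [h1, ← hker]; ring
  haveI := Fintype.ofFinite (G ⧸ H)
  have hfree : ∀ b : Fin 5, b.val = 0 ∨ b.val = 1 → Equiv.Perm.sign (MulAction.toPermHom G (G ⧸ H) (Q (invRep b))) = -1 := by
    intro b hb
    have h2 : MulAction.toPermHom G (G ⧸ H) (Q (invRep b)) ^ 2 = 1 := by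
      rw [← map_pow, pow_two, (hconjQ b).1, map_one]
    have h0 : ∀ p, MulAction.toPermHom G (G ⧸ H) (Q (invRep b)) p ≠ p := by
      intro p hp
      obtain ⟨x, rfl⟩ := QuotientGroup.mk_surjective p
      change ((Q (invRep b) * x : G) : G ⧸ H) = (x : G ⧸ H) at hp
      rw [QuotientGroup.eq] at hp
      have hmem : x⁻¹ * Q (invRep b) * x ∈ H := by
        have := inv_mem hp
        simpa [mul_assoc] using this
      obtain ⟨m, hm, hmx⟩ := hmem
      have hs : h.φ m = h.j m.1.left * Q m.1.right := by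
        show h.φ m = h.φ (inlA h.k m.1.left) * h.φ (inrK h.k _)
        rw [← map_mul, ← Mk_split]
      obtain ⟨-, -, i, ⟨w, hw⟩, hi⟩ := hclass b m.1.left m.1.right
        (isConj_iff.2 ⟨x⁻¹, by rw [inv_inv, ← hmx, hs]⟩)
      have hp0 : parFun (invRep i) = 0 := by
        have h1 : parFun m.1.right = 0 := Multiplicative.ofAdd.injective
          (show Multiplicative.ofAdd (parFun m.1.right) = Multiplicative.ofAdd 0 from hm)
        rw [← hw, parFun_mul, parFun_mul] at h1
        have h2 : parFun w + parFun w⁻¹ = 0 := by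
          rw [← parFun_mul, mul_inv_cancel]; exact par_facts.1
        linear_combination h1 - h2
      rw [class_parity] at hp0
      split_ifs at hp0 with hlt
      · exact one_ne_zero hp0
      · exact hsep b hb i (by omega) hi
    have hcard4 : Fintype.card (G ⧸ H) % 4 = 2 := by
      rw [← Nat.card_eq_fintype_card, ← index_eq_card, hidx]
      rw [Nat.odd_iff] at hodd
      omega
    rw [Equiv.Perm.sign_of_pow_two_eq_one h2,
      (Fintype.card_eq_zero_iff.2 ⟨fun p => h0 _ p.2⟩ :
        Fintype.card (Function.fixedPoints (MulAction.toPermHom G (G ⧸ H) (Q (invRep b)))) = 0), Nat.sub_zero]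
    exact Odd.neg_one_pow ⟨Fintype.card (G ⧸ H) / 4, by omega⟩
  set χ : G →* ℤˣ := Equiv.Perm.sign.comp (MulAction.toPermHom G (G ⧸ H)) with hχ
  have hgen : ∀ u : W, χ (Q u) = if parFun u = 0 then 1 else -1 := by
    have hperm : χ (Q wc) = 1 := by
      rcases Int.units_eq_one_or (χ (Q wc)) with e | e
      · exact e
      · have h3 : χ (Q wc) ^ 3 = 1 := by rw [← map_pow, ← map_pow, par_facts.2.2.2.2.2.1, map_one, map_one]
        rw [e] at h3
        exact absurd h3 (by decide)
    let D : Subgroup W :=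
      { carrier := {u | χ (Q u) = if parFun u = 0 then 1 else -1}
        one_mem' := by
          show χ (Q 1) = _
          rw [map_one, map_one, if_pos par_facts.1]
        mul_mem' := fun {u v} hu hv => by
          show χ (Q (u * v)) = _
          rw [map_mul, map_mul, hu, hv, parFun_mul]
          exact sign_add _ _
        inv_mem' := fun {u} hu => by
          show χ (Q u⁻¹) = _
          have e : parFun u⁻¹ = parFun u := par_facts.2.1 u
          rw [map_inv, map_inv, hu, e]
          split_ifs <;> rfl }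
    have hD : wt ∈ D ∧ wf ∈ D ∧ wc ∈ D := ⟨
      (hfree 0 (Or.inl rfl)).trans (by rw [par_facts.2.2.1]; rfl),
      (hfree 1 (Or.inr rfl)).trans (by rw [par_facts.2.2.2.1]; rfl),
      hperm.trans (by rw [par_facts.2.2.2.2.1]; rfl)⟩
    intro u
    obtain ⟨a, b, c, i, e, rfl⟩ := par_words u
    obtain ⟨ht, hf, hc⟩ := hD
    exact mul_mem (s := D) (mul_mem (mul_mem (mul_mem (pow_mem hf _) (pow_mem (mul_mem (mul_mem hc hf) (inv_mem hc)) _))
      (pow_mem (mul_mem (mul_mem (mul_mem hc hc) hf) (inv_mem (mul_mem hc hc))) _)) (pow_mem hc _)) (pow_mem ht _)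
  have hχt : χ h.tau = -1 := by rw [htau, hgen, par_facts.2.2.1]; rfl
  refine ⟨χ.ker, ?_, fun u => ?_⟩
  · rw [index_ker, MonoidHom.range_eq_top.2 (fun z => ?_), card_top, Nat.card_eq_fintype_card]
    · rfl
    · rcases Int.units_eq_one_or z with rfl | rfl
      · exact ⟨1, map_one χ⟩
      · exact ⟨_, hχt⟩
  · rw [MonoidHom.mem_ker, show h.q u = Q (u : W) from rfl, hgen]
    split_ifs with e
    · exact iff_of_true rfl e
    · exact iff_of_false (by decide) e

end Conf

end Cfsg.Agent.Sym9ThreeLocal
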