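import Cfsg.Agent.Sym9ThreeLocal.FourFusion
import Cfsg.Agent.Core.PCore
import Mathlib.GroupTheory.Transfer

/-!
# The third kind: transfer
-/

set_option autoImplicit false
set_option synthInstance.maxSize 4000
set_option synthInstance.maxHeartbeats 400000

namespace Cfsg.Agent.Sym9ThreeLocal

open Cfsg Cfsg.Agent Subgroup

universe u

/-- The rotation part. -/
def rotVal : DihedralGroup 3 → Multiplicative (ZMod 3)
  | .r i => Multiplicative.ofAdd (show ZMod 3 from i)
  | .sr _ => 1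

theorem rot_mul : ∀ u v : W, inK .four u → inK .four v → parFun u = 0 → parFun v = 0 →
    rotVal (u * v).right = rotVal u.right * rotVal v.right := by decide +kernel

theorem four_cycles : ∀ m : Mf, inK .four m.right → parFun m.right = 0 → m.right ≠ 1 → m ^ 3 = 1 →
    ∃ a : A, ∃ v : V8, inK .four ⟨v, 1⟩ ∧
      ((SemidirectProduct.inl a * SemidirectProduct.inr (⟨v, 1⟩ : W) : Mf) * SemidirectProduct.inr wc *
          (SemidirectProduct.inl a * SemidirectProduct.inr (⟨v, 1⟩ : W) : Mf)⁻¹ = m ∨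
        (SemidirectProduct.inl a * SemidirectProduct.inr (⟨v, 1⟩ : W) : Mf) * (SemidirectProduct.inr wc)⁻¹ *
          (SemidirectProduct.inl a * SemidirectProduct.inr (⟨v, 1⟩ : W) : Mf)⁻¹ = m) := by
  decide +kernel

theorem sign_only : ∀ v : V8, inK .four (⟨v, 1⟩ : W) → parFun (⟨v, 1⟩ : W) = 0 := by decide +kernel

/-- The four group of sign changes. -/
def VW : Subgroup W := KG .four ⊓ (SemidirectProduct.rightHom : W →* DihedralGroup 3).ker

instance : DecidablePred (· ∈ VW) := fun q => decidable_of_iff (inK .four q ∧ q.right = 1) Iff.rfl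

theorem VW_facts : wd1 ∈ VW ∧ wd2 ∈ VW ∧ wd2 * wd1 ∈ VW ∧
    (Finset.univ.filter fun q : W => q ∈ VW).card = 4 ∧
    (∀ v : W, v ∈ VW → v * v = 1 ∧ parFun v = 0) ∧
    (∀ v : W, v ∈ VW → v = 1 ∨ v = wd1 ∨ v = wd2 ∨ v = wd2 * wd1) ∧
    (∀ v w : W, v ∈ VW → w ∈ VW → v * w = w * v) ∧
    (∀ v : W, v ∈ VW → v ≠ 1 → ∃ i : Fin 3, wc ^ (i : ℕ) * v * (wc ^ (i : ℕ))⁻¹ = wd1) ∧
    ∀ v : W, v ∈ VW → wc * v * wc⁻¹ ∈ VW := by
  decide +kernel

theorem rot_wc : rotVal (SemidirectProduct.inr wc : Mf).right.right = Multiplicative.ofAdd 1 ∧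
    (∀ i : Fin 3, (Multiplicative.ofAdd (1 : ZMod 3)) ^ (i : ℕ) = 1 → i = 0) ∧
    ∀ a : Multiplicative (ZMod 3), a ^ 3 = 1 := by
  decide +kernel

/-- An element normalising a Sylow four group and fixing one involution centralises it. -/
theorem klein_fix {X : Type u} [Group X] [Finite X] {V : Subgroup X} (hV : Nat.card V = 4)
    (h8 : ¬ 8 ∣ Nat.card X) (hab : ∀ a ∈ V, ∀ b ∈ V, a * b = b * a) {g b : X}
    (hg : g ∈ normalizer (V : Set X)) (hb : b ∈ V) (hb2 : g * (g * b * g⁻¹) * g⁻¹ = b) : g * b * g⁻¹ = b := by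
  haveI : Fact (Nat.Prime 2) := ⟨Nat.prime_two⟩
  by_contra hne
  obtain ⟨a, m, hm, hord⟩ := Nat.exists_eq_two_pow_mul_odd (orderOf_pos g).ne'
  obtain ⟨l, hl⟩ := hm
  have hsq : ∀ j : ℕ, (g * g) ^ j * b * ((g * g) ^ j)⁻¹ = b := fun j =>
    mul_inv_eq_iff_eq_mul.2 ((show Commute (g * g) b from mul_inv_eq_iff_eq_mul.1 (by
      rw [show g * g * b * (g * g)⁻¹ = g * (g * b * g⁻¹) * g⁻¹ by group, hb2])).pow_left j).eq
  have hconj : g ^ m * b * (g ^ m)⁻¹ = g * b * g⁻¹ := by
    rw [hl, pow_add, pow_one, pow_mul, pow_two,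
      show (g * g) ^ l * g = g * (g * g) ^ l from ((Commute.refl g).mul_left (Commute.refl g)).pow_left l |>.eq,
      show g * (g * g) ^ l * b * (g * (g * g) ^ l)⁻¹ = g * ((g * g) ^ l * b * ((g * g) ^ l)⁻¹) * g⁻¹ by group, hsq]
  have hgV : g ^ m ∉ V := fun e => hne (by rw [← hconj, hab _ e _ hb, mul_inv_cancel_right])
  have h2 : IsPGroup 2 (zpowers (g ^ m)) := fun y => ⟨a, Subtype.ext (by
    obtain ⟨i, hi⟩ := mem_zpowers_iff.1 y.2
    show (y : X) ^ 2 ^ a = 1
    rw [← hi, ← zpow_natCast, ← zpow_mul, mul_comm, zpow_mul, zpow_natCast, ← pow_mul, mul_comm m, ← hord,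
      pow_orderOf_eq_one, one_zpow])⟩
  have hL : IsPGroup 2 (V ⊔ zpowers (g ^ m) : Subgroup X) :=
    (IsPGroup.of_card (n := 2) (by rw [hV]; norm_num)).to_sup_of_normal_left' h2 (zpowers_le.2 (pow_mem hg m))
  obtain ⟨n, hn⟩ := hL.exists_card_eq
  have hlt : V < V ⊔ zpowers (g ^ m) :=
    lt_of_le_of_ne le_sup_left fun e => hgV (e.symm ▸ mem_sup_right (mem_zpowers _))
  have h4 : 4 < 2 ^ n := by
    rw [← hn, ← hV]
    exact lt_of_le_of_ne (card_le_of_le hlt.le) fun e => hlt.ne (eq_of_le_of_card_ge hlt.le e.ge)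
  have h3 : 3 ≤ n := by
    by_contra hn3
    interval_cases n <;> norm_num at h4
  exact h8 (dvd_trans (by rw [hn]; exact pow_dvd_pow 2 h3) (card_subgroup_dvd_card (V ⊔ zpowers (g ^ m))))

/-- A finite group of twice odd order times two with such a fusion pattern has an odd core. -/
theorem core_ne_bot_of_normal {X : Type u} [Group X] [Finite X] (N : Subgroup X) [N.Normal]
    (hN : pPrimeCore 2 N ≠ ⊥) : pPrimeCore 2 X ≠ ⊥ := by
  intro e
  have h1 := Core.map_pPrimeCore_normal (p := 2) N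
  rw [e, bot_inf_eq, map_eq_bot_iff_of_injective _ N.subtype_injective] at h1
  exact hN h1

namespace Conf

variable {G : Type u} [Group G] [Finite G] (h : Conf G)

/-- The third kind. -/
theorem normal_of_four (F : h.Facts) (hk : h.k = .four) : h.J.Normal := by
  classical
  haveI : Fact (Nat.Prime 2) := ⟨Nat.prime_two⟩
  haveI : Fact (Nat.Prime 3) := ⟨Nat.prime_three⟩
  obtain ⟨χ, hχ⟩ := h.four_sign F hk
  set n := h.N.index with hn
  have hodd : Odd n := h.four_odd_index F hk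
  have h3n : ¬ 3 ∣ n := h.four_index_three F hk
  have hpar4 : ∀ m : Mk h.k, inK .four m.1.right := fun m => hk ▸ (show inK h.k m.1.right from m.2)
  -- the rotation on the even part of the normaliser
  let rot : h.par.ker →* Multiplicative (ZMod 3) :=
    MonoidHom.mk' (fun m => rotVal m.1.1.right.right) fun m m' =>
      rot_mul m.1.1.right m'.1.1.right (hpar4 _) (hpar4 _) (h.par_eq_one.1 m.2) (h.par_eq_one.1 m'.2)
  set G1 := χ.ker with hG1
  let ψ : h.par.ker →* G1 := (h.φ.comp h.par.ker.subtype).codRestrict G1 fun m =>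
    MonoidHom.mem_ker.2 ((hχ _).2 (h.par_eq_one.1 m.2))
  have hψ : Function.Injective ψ := fun a b e => Subtype.ext (h.inj (congrArg Subtype.val e :))
  set H := ψ.range with hH
  let ρ : H →* Multiplicative (ZMod 3) := rot.comp (MonoidHom.ofInjective hψ).symm.toMonoidHom
  have hρ : ∀ (m : h.par.ker) (hm : ψ m ∈ H), ρ ⟨ψ m, hm⟩ = rot m := fun m hm =>
    congrArg rot ((MonoidHom.ofInjective hψ).symm_apply_apply m)
  -- orders
  have hG : Nat.card G = 648 * n := by rw [← card_mul_index h.N, h.four_card_N hk]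
  have hχt : χ h.tau ≠ 1 := fun e => par_facts.2.2.1.symm.trans ((hχ (inrK h.k ⟨wt, inK_wt h.k⟩)).1 e) |>
    fun e' => one_ne_zero e'
  have hG1c : Nat.card G1 * 2 = 648 * n := by
    rw [← hG, ← card_mul_index G1, hG1, index_ker, MonoidHom.range_eq_top.2 (fun z => ?_), card_top,
      Nat.card_eq_fintype_card (α := ℤˣ), Fintype.card_units_int]
    rcases Int.units_eq_one_or z with rfl | rfl
    · exact ⟨1, map_one χ⟩
    · exact ⟨_, (Int.units_eq_one_or _).resolve_left hχt⟩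
  have hker : Nat.card H = 324 := by
    rw [hH, show Nat.card ψ.range = Nat.card h.par.ker from (Nat.card_congr (MonoidHom.ofInjective hψ).toEquiv).symm]
    have h1 := card_mul_index h.par.ker
    rw [index_ker, MonoidHom.range_eq_top.2 (fun y => ?_), card_top, par_facts.2.2.2.2.2.2.2,
      show Nat.card (Mk h.k) = Nat.card h.N from Nat.card_congr (MonoidHom.ofInjective h.inj).toEquiv,
      h.four_card_N hk] at h1
    · omega
    rcases z2_cases.1 y with rfl | rfl
    · exact ⟨1, map_one _⟩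
    · exact ⟨inrK h.k ⟨wt, inK_wt h.k⟩, rfl⟩
  have hHi : H.index = n := by
    have h1 := card_mul_index H
    rw [hker] at h1
    omega
  -- the transfer
  set cm : h.par.ker := ⟨inrK h.k ⟨wc, inK_wc h.k⟩, MonoidHom.mem_ker.2 (h.par_eq_one.2 four_not_neg.2.2.2.2.2.2.2)⟩
    with hcm
  set c := ψ cm with hc
  have hc3 : c ^ 3 = 1 := Subtype.ext h.cyc_cube
  have hcval : rot cm = Multiplicative.ofAdd 1 := rot_wc.1
  set T := MonoidHom.transfer ρ with hT
  have hTc : T c = Multiplicative.ofAdd 1 ^ n := by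
    haveI := Fintype.ofFinite (Quotient (MulAction.orbitRel (zpowers c) (G1 ⧸ H)))
    haveI := Fintype.ofFinite (G1 ⧸ H)
    rw [hT, MonoidHom.transfer_eq_prod_quotient_orbitRel_zpowers_quot, ← hHi,
      index_eq_sum_minimalPeriod H c, ← Finset.prod_pow_eq_pow_sum]
    refine Finset.prod_congr rfl fun q _ => ?_
    set per := Function.minimalPeriod (c • ·) q.out with hper
    have hdvd : per ∣ 3 := by
      refine Function.IsPeriodicPt.minimalPeriod_dvd ?_
      show ((c • ·) : G1 ⧸ H → G1 ⧸ H)^[3] q.out = q.out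
      rw [smul_iterate_apply, hc3, one_smul]
    generalize hy : (⟨_, QuotientGroup.out_conj_pow_minimalPeriod_mem H c q.out⟩ : H) = y
    have hyv : (y : G1) = q.out.out⁻¹ * c ^ per * q.out.out := by rw [← hy]
    rcases (Nat.dvd_prime Nat.prime_three).1 hdvd with e | e
    · show ρ y = Multiplicative.ofAdd 1 ^ per
      rw [e, pow_one]
      rw [e, pow_one] at hyv
      obtain ⟨m, hm⟩ := y.2
      have hym : y = ⟨ψ m, ⟨m, rfl⟩⟩ := Subtype.ext hm.symm
      rw [hym]
      refine (hρ m _).trans ?_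
      set g0 : G := ((q.out.out : G1) : G) with hg0
      have hg0χ : χ g0 = 1 := (q.out.out : G1).2
      have hmy : h.φ m.1 = g0⁻¹ * h.cyc * g0 := by
        show ((ψ m : G1) : G) = _
        rw [hm, hyv]; rfl
      have hm3 : m.1 ^ 3 = 1 := h.inj (by
        rw [map_pow, hmy, map_one]
        have := cube_conj (g := g0⁻¹) h.cyc_cube
        rwa [inv_inv] at this)
      have hm1 : m.1.1.right ≠ 1 := fun e' => h.cyc_not_J F hk m.1.1.left (isConj_iff.2 ⟨g0⁻¹, by
        rw [inv_inv, ← hmy]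
        exact congrArg h.φ (Subtype.ext (SemidirectProduct.ext rfl e') : m.1 = inlA h.k m.1.1.left)⟩)
      obtain ⟨a, v, hv, hcase⟩ := four_cycles m.1.1 (hpar4 _) (h.par_eq_one.1 m.2) hm1 (congrArg Subtype.val hm3)
      have hvk : inK h.k (⟨v, 1⟩ : W) := hk.symm ▸ hv
      set pm : Mk h.k := inlA h.k a * inrK h.k ⟨⟨v, 1⟩, hvk⟩ with hpm
      have hpp : h.par pm = 1 := h.par_eq_one.2 (by
        show parFun (1 * (⟨v, 1⟩ : W)) = 0
        rw [one_mul]; exact sign_only v hv)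
      rcases hcase with e' | e'
      · have e'' : (⟨pm, hpp⟩ : h.par.ker) * cm * (⟨pm, hpp⟩ : h.par.ker)⁻¹ = m := Subtype.ext (Subtype.ext e')
        rw [← e'', map_mul, map_mul, map_inv, mul_right_comm, mul_inv_cancel, one_mul, hcval]
      · exfalso
        have e'' : pm * (inrK h.k ⟨wc, inK_wc h.k⟩)⁻¹ * pm⁻¹ = m.1 := Subtype.ext e'
        have e3 := congrArg h.φ e''
        rw [map_mul, map_mul, map_inv, map_inv, hmy] at e3
        refine h.cyc_not_inv F hk hχ (r := (h.φ pm)⁻¹ * g0⁻¹) ?_ ?_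
        · rw [map_mul, map_inv, map_inv, (hχ pm).2 (h.par_eq_one.1 hpp), hg0χ, inv_one, mul_one]
        · calc (h.φ pm)⁻¹ * g0⁻¹ * h.cyc * ((h.φ pm)⁻¹ * g0⁻¹)⁻¹ = (h.φ pm)⁻¹ * (g0⁻¹ * h.cyc * g0) * h.φ pm := by
                group
            _ = (h.φ pm)⁻¹ * (h.φ pm * h.cyc⁻¹ * (h.φ pm)⁻¹) * h.φ pm := by rw [← e3]; rfl
            _ = h.cyc⁻¹ := by group
    · show ρ y = Multiplicative.ofAdd 1 ^ per
      rw [e]
      rw [e, hc3, mul_one, inv_mul_cancel] at hyv
      rw [show y = 1 from Subtype.ext hyv, map_one]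
      exact (rot_wc.2.2 _).symm
  have hω : orderOf (Multiplicative.ofAdd (1 : ZMod 3)) = 3 :=
    orderOf_eq_prime (rot_wc.2.2 _) fun e => absurd (rot_wc.2.1 1 (by rw [show ((1 : Fin 3) : ℕ) = 1 from rfl, pow_one, e]))
      Fin.zero_ne_one.symm
  have hTc1 : T c ≠ 1 := fun e => h3n (hω ▸ orderOf_dvd_of_pow_eq_one (hTc.symm.trans e))
  set K2 := T.ker with hK2
  have hK2c : Nat.card K2 * 3 = Nat.card G1 := by
    rw [← card_mul_index K2, hK2, index_ker]
    congr 1
    rcases (Nat.dvd_prime Nat.prime_three).1 (show Nat.card T.range ∣ 3 from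
      (card_subgroup_dvd_card T.range).trans (by
        rw [Nat.card_congr Multiplicative.toAdd, Nat.card_zmod])) with e | e
    · exfalso
      have := eq_bot_of_card_eq T.range e
      exact hTc1 (by
        have hmem : T c ∈ T.range := ⟨c, rfl⟩
        rwa [this, mem_bot] at hmem)
    · exact e.symm
  -- the four group
  have hVK : VW ≤ KG h.k := hk.symm ▸ inf_le_left
  let ι : VW →* G1 := (h.q.comp (Subgroup.inclusion hVK)).codRestrict G1 fun v =>
    MonoidHom.mem_ker.2 ((hχ (inrK h.k ⟨v.1, hVK v.2⟩)).2 (VW_facts.2.2.2.2.1 v.1 v.2).2)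
  have hιv : ∀ v : VW, ((ι v : G1) : G) = h.q ⟨v.1, hVK v.2⟩ := fun v => rfl
  have hι : Function.Injective ι := fun a b e =>
    Subtype.ext (congrArg Subtype.val (h.q_inj ((hιv a).symm.trans ((congrArg Subtype.val e).trans (hιv b)))) :)
  set V1 := ι.range with hV1
  have hV4 : Nat.card V1 = 4 := by
    rw [hV1, show Nat.card ι.range = Nat.card VW from (Nat.card_congr (MonoidHom.ofInjective hι).toEquiv).symm,
      Nat.card_eq_fintype_card, Fintype.card_subtype, VW_facts.2.2.2.1]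
  have hVab : ∀ a ∈ V1, ∀ b ∈ V1, a * b = b * a := by
    rintro _ ⟨a, rfl⟩ _ ⟨b, rfl⟩
    rw [← map_mul, ← map_mul]
    exact congrArg ι (Subtype.ext (VW_facts.2.2.2.2.2.2.1 a b a.2 b.2))
  have hVK2 : V1 ≤ K2 := by
    rintro _ ⟨v, rfl⟩
    show T (ι v) = 1
    have h2 : T (ι v) * T (ι v) = 1 := by
      rw [← map_mul, ← map_mul, show v * v = 1 from Subtype.ext (VW_facts.2.2.2.2.1 v.1 v.2).1, map_one, map_one]
    have h3 := rot_wc.2.2 (T (ι v))
    rwa [pow_succ, pow_two, h2, one_mul] at h3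
  have h8 : ¬ 8 ∣ Nat.card G1 := fun h8 => by
    rw [Nat.odd_iff] at hodd
    omega
  have hcn : c ∈ normalizer (V1 : Set G1) := mem_normalizer_fintype fun y hy => by
    obtain ⟨v, rfl⟩ := hy
    exact ⟨⟨wc * v.1 * wc⁻¹, VW_facts.2.2.2.2.2.2.2.2 v.1 v.2⟩, Subtype.ext
      (h.q_conj (a := ⟨wc, inK_wc h.k⟩) (b := ⟨v.1, hVK v.2⟩) (c := ⟨wc * v.1 * wc⁻¹, _⟩) rfl).symm⟩
  set e₁ : VW := ⟨wd1, VW_facts.1⟩
  set e₂ : VW := ⟨wd2, VW_facts.2.1⟩
  have hcent : ∀ g ∈ normalizer (V1 : Set G1), T g = 1 → ∀ v ∈ V1, g * v = v * g := by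
    intro g hg hgT
    obtain ⟨v, hv⟩ := (mem_normalizer_iff.1 hg (ι e₁)).1 ⟨e₁, rfl⟩
    have hv1 : v.1 ≠ 1 := fun e => by
      have hv' : g * ι e₁ * g⁻¹ = 1 := by rw [← hv, show v = 1 from Subtype.ext e, map_one]
      exact four_facts.2.2.2.2.2.2.2.2.1 (congrArg Subtype.val (hι ((conj_eq_one_iff.1 hv').trans ι.map_one.symm)))
    obtain ⟨i, hi⟩ := VW_facts.2.2.2.2.2.2.2.1 v.1 v.2 hv1
    set g' := c ^ (i : ℕ) * g with hg'
    have hg'n : g' ∈ normalizer (V1 : Set G1) := mul_mem (pow_mem hcn _) hg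
    have hfix : g' * ι e₁ * g'⁻¹ = ι e₁ := by
      rw [hg', show c ^ (i : ℕ) * g * ι e₁ * (c ^ (i : ℕ) * g)⁻¹ = c ^ (i : ℕ) * (g * ι e₁ * g⁻¹) * (c ^ (i : ℕ))⁻¹
        by group, ← hv]
      refine Subtype.ext ?_
      show h.cyc ^ (i : ℕ) * h.q ⟨v.1, hVK v.2⟩ * (h.cyc ^ (i : ℕ))⁻¹ = h.q ⟨wd1, hVK e₁.2⟩
      rw [show h.cyc ^ (i : ℕ) = h.q (⟨wc, inK_wc h.k⟩ ^ (i : ℕ)) from (map_pow h.q _ _).symm]
      refine h.q_conj ?_
      rw [Subgroup.coe_pow]
      exact hi
    obtain ⟨v', hv'⟩ := (mem_normalizer_iff.1 hg'n (ι e₂)).1 ⟨e₂, rfl⟩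
    have hfix2 : g' * ι e₂ * g'⁻¹ = ι e₂ := by
      rcases VW_facts.2.2.2.2.2.1 v'.1 v'.2 with e | e | e | e
      · rw [show v' = 1 from Subtype.ext e, map_one] at hv'
        exact absurd (congrArg Subtype.val (hι ((conj_eq_one_iff.1 hv'.symm).trans ι.map_one.symm))) four_not_neg.2.2.2.2.1
      · rw [show v' = e₁ from Subtype.ext e, ← hfix] at hv'
        exact absurd (congrArg Subtype.val (hι (mul_left_cancel (mul_right_cancel hv')))).symm four_not_neg.2.2.2.2.2.1
      · rw [← hv', show v' = e₂ from Subtype.ext e]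
      · refine klein_fix hV4 h8 hVab hg'n ⟨e₂, rfl⟩ ?_
        rw [← hv', show v' = e₂ * e₁ from Subtype.ext e, map_mul, ← conj_mul, hfix, ← hv',
          show v' = e₂ * e₁ from Subtype.ext e, map_mul, mul_assoc, ← map_mul,
          show e₁ * e₁ = 1 from Subtype.ext (VW_facts.2.2.2.2.1 e₁.1 e₁.2).1, map_one, mul_one]
    have hall : ∀ v ∈ V1, g' * v = v * g' := by
      rintro _ ⟨w, rfl⟩
      have h1 : Commute g' (ι e₁) := mul_inv_eq_iff_eq_mul.1 hfix
      have h2 : Commute g' (ι e₂) := mul_inv_eq_iff_eq_mul.1 hfix2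
      rcases VW_facts.2.2.2.2.2.1 w.1 w.2 with e | e | e | e
      · rw [show w = 1 from Subtype.ext e, map_one, mul_one, one_mul]
      · rw [show w = e₁ from Subtype.ext e]; exact h1
      · rw [show w = e₂ from Subtype.ext e]; exact h2
      · rw [show w = e₂ * e₁ from Subtype.ext e, map_mul]; exact h2.mul_right h1
    have hg'T : T g' = 1 := by
      by_contra hne
      have h3 : 3 ∣ orderOf g' := by
        rw [← orderOf_eq_prime (rot_wc.2.2 (T g')) hne]
        exact orderOf_map_dvd T g'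
      have hord := orderOf_pow_orderOf_div (orderOf_pos g').ne' h3
      set y := g' ^ (orderOf g' / 3) with hy
      have hy3 : ((y : G1) : G) ^ 3 = 1 := by
        rw [← Subgroup.coe_pow, ← hord, pow_orderOf_eq_one]; rfl
      have hyc : ∀ v : VW, (y : G) * (ι v : G) = (ι v : G) * (y : G) := fun v =>
        congrArg Subtype.val ((show Commute g' (ι v) from hall _ ⟨v, rfl⟩).pow_left _).eq
      have := h.klein_cent F hk hχ hy3 (hyc e₁) (hyc e₂)
      rw [show y = 1 from Subtype.ext this, orderOf_one] at hord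
      exact absurd hord (by decide)
    have hi0 : (i : ℕ) = 0 := by
      rw [hg', map_mul, hgT, mul_one, map_pow, hTc, ← pow_mul] at hg'T
      rcases Nat.Prime.dvd_mul Nat.prime_three |>.1 (hω ▸ orderOf_dvd_of_pow_eq_one hg'T) with e | e
      · exact absurd e h3n
      · exact Nat.eq_zero_of_dvd_of_lt e i.2
    rw [hg', hi0, pow_zero, one_mul] at hall
    exact hall
  -- Burnside
  obtain ⟨P, hP⟩ : ∃ P : Sylow 2 K2, (P : Subgroup K2) = V1.subgroupOf K2 := by
    have h4 : Nat.card (V1.subgroupOf K2) = 4 := by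
      rw [Nat.card_congr (subgroupOfEquivOfLe hVK2).toEquiv, hV4]
    obtain ⟨P, hP⟩ := (IsPGroup.of_card (G := V1.subgroupOf K2) (p := 2) (n := 2) (by rw [h4]; norm_num)).exists_le_sylow
    refine ⟨P, (eq_of_le_of_card_ge hP ?_).symm⟩
    rw [h4]
    obtain ⟨k, hk'⟩ := P.2.exists_card_eq
    rw [hk']
    by_contra hlt
    have h3 : 3 ≤ k := by
      by_contra hk3
      interval_cases k <;> norm_num at hlt
    exact h8 (dvd_trans ((show (8 : ℕ) ∣ Nat.card P by rw [hk']; exact pow_dvd_pow 2 h3).trans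
      (card_subgroup_dvd_card (P : Subgroup K2))) ⟨3, hK2c.symm⟩)
  have hNC : normalizer (P : Set K2) ≤ centralizer (P : Set K2) := by
    intro g hg
    rw [mem_centralizer_iff]
    intro v hv
    have hv1 : (v : G1) ∈ V1 := by
      have hv' : v ∈ (P : Subgroup K2) := hv
      rwa [hP, mem_subgroupOf] at hv'
    refine Subtype.ext (hcent (g : G1) (mem_normalizer_fintype fun y hy => ?_) g.2 _ hv1).symm
    have h1 : (⟨y, hVK2 hy⟩ : K2) ∈ (P : Subgroup K2) := by rw [hP, mem_subgroupOf]; exact hy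
    have h2 := (mem_normalizer_iff.1 hg _).1 h1
    rw [hP, mem_subgroupOf] at h2
    exact h2
  set R := (MonoidHom.transferSylow P hNC).ker with hR
  have hR2 : (Nat.card R).Coprime 2 := Nat.coprime_comm.1 ((Nat.Prime.coprime_iff_not_dvd Nat.prime_two).2
    (MonoidHom.not_dvd_card_ker_transferSylow P hNC))
  have hR1 : R ≠ ⊥ := fun e => by
    have hc4 : Nat.card P = 4 := by
      show Nat.card (P : Subgroup K2) = 4
      rw [hP, Nat.card_congr (subgroupOfEquivOfLe hVK2).toEquiv, hV4]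
    have := (MonoidHom.ker_transferSylow_isComplement' P hNC).card_mul
    rw [← hR, e, card_bot, one_mul, hc4] at this
    omega
  have hcore : pPrimeCore 2 K2 ≠ ⊥ := fun e => hR1 (le_bot_iff.1 (e ▸ Core.le_pPrimeCore hR2))
  have hcoreG := core_ne_bot_of_normal G1 (core_ne_bot_of_normal K2 hcore)
  exact F.finish (pPrimeCore 2 G) inferInstance hcoreG (Nat.coprime_two_right.1 Core.coprime_card_pPrimeCore)

end Conf

end Cfsg.Agent.Sym9ThreeLocal
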