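import Cfsg.Agent.Sym9ThreeLocal.Loc

/-!
# The centraliser of the distinguished involution
-/

set_option autoImplicit false
set_option synthInstance.maxSize 4000
set_option synthInstance.maxHeartbeats 400000

namespace Cfsg.Agent.Sym9ThreeLocal

open Cfsg Cfsg.Agent Subgroup

universe u

theorem tau_vectors : act wt xA = xA ∧ act wt e1 = e1 ∧ wt * wt = 1 ∧ wt ≠ 1 ∧
    (Finset.univ.filter fun a : A => act wt a = a).card = 9 ∧
    (∀ k, ∀ a : A, act wt a = a → a ≠ 1 → ¬ EType k a ∨ a = e1 ∨ a = e1⁻¹) := by decide +kernel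

theorem tau_stab : (∀ u : W, act u xA = xA → act u e1 = e1 → u = 1 ∨ u = wt) ∧
    (∀ u : W, u * wt = wt * u → u ^ 8 = 1 ∧ (u * u = 1)) ∧
    ∀ k, (Finset.univ.filter fun u : W => inK k u ∧ u * wt = wt * u).card * 9 = tauCard k := by
  decide +kernel

/-- The combined small cases. -/
theorem Nine.top_of_elementary {Y : Type u} [Group Y] [Finite Y] {T : Sylow 3 Y} (h : Nine T)
    (hN : Nat.card (normalizer ((T : Subgroup Y) : Set Y)) ∈ ({9, 18, 36} : Finset ℕ))
    (hsq : ∀ y ∈ normalizer ((T : Subgroup Y) : Set Y), y * y ∈ (T : Subgroup Y)) :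
    normalizer ((T : Subgroup Y) : Set Y) = ⊤ := by
  classical
  simp only [Finset.mem_insert, Finset.mem_singleton] at hN
  rcases hN with e | e | e
  · exact h.normalizer_eq_top (Or.inl e)
  · exact h.normalizer_eq_top (Or.inr e)
  set NT := normalizer ((T : Subgroup Y) : Set Y)
  haveI hn : ((T : Subgroup Y).subgroupOf NT).Normal := normal_in_normalizer
  have h4 : Nat.card (NT ⧸ (T : Subgroup Y).subgroupOf NT) = 4 := by
    have h1 := card_mul_index ((T : Subgroup Y).subgroupOf NT)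
    rw [Nat.card_congr (subgroupOfEquivOfLe (le_normalizer : (T : Subgroup Y) ≤ NT)).toEquiv, h.card, e] at h1
    rw [← index_eq_card]; omega
  haveI : Nontrivial (NT ⧸ (T : Subgroup Y).subgroupOf NT) :=
    Finite.one_lt_card_iff_nontrivial.1 (by rw [h4]; norm_num)
  have hK : IsKleinFour (NT ⧸ (T : Subgroup Y).subgroupOf NT) :=
    ⟨h4, (Monoid.exponent_eq_prime_iff Nat.prime_two).2 fun q hq => by
      obtain ⟨⟨y, hy⟩, rfl⟩ := QuotientGroup.mk'_surjective _ q
      haveI : Fact (Nat.Prime 2) := ⟨Nat.prime_two⟩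
      refine orderOf_eq_prime ?_ hq
      rw [pow_two, ← map_mul, QuotientGroup.mk'_apply, QuotientGroup.eq_one_iff, mem_subgroupOf]
      exact hsq y hy⟩
  obtain ⟨φ, hφ⟩ := ThreeKlein.exists_cfg T h.comm h.cube h.card h.cent hK h.loc
  exact hφ.normalizer_eq_top

namespace Conf

variable {G : Type u} [Group G] [Finite G] (h : Conf G)

theorem tau_j (a : A) : h.tau * h.j a * h.tau⁻¹ = h.j (act wt a) := h.conj_j _ a

theorem tau_sq : h.tau * h.tau = 1 := by
  show h.q _ * h.q _ = 1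
  rw [← map_mul, show (⟨wt, inK_wt h.k⟩ * ⟨wt, inK_wt h.k⟩ : KG h.k) = 1 from Subtype.ext tau_vectors.2.2.1,
    map_one]

theorem tau_ne : h.tau ≠ 1 := fun e =>
  tau_vectors.2.2.2.1 (congrArg Subtype.val (h.q_inj (e.trans h.q.map_one.symm)))

theorem commute_tau_iff (a : A) : h.j a * h.tau = h.tau * h.j a ↔ act wt a = a := by
  rw [← h.j_inj.eq_iff, ← h.tau_j, mul_inv_eq_iff_eq_mul, eq_comm]

/-- An element normalising a subgroup of the elementary group containing the diagonal is local. -/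
theorem mem_N_of_norm {g : G} {U : Subgroup G} (hU : U ≤ h.J) (hxU : h.x ∈ U)
    (hg : g ∈ normalizer (U : Set G)) : g ∈ h.N := by
  have hle : h.J.map (MulAut.conj g).toMonoidHom ≤ centralizer ({h.x} : Set G) := by
    rintro _ ⟨y, hy, rfl⟩
    rw [mem_centralizer_singleton_iff]
    have h1 : g⁻¹ * h.x * g ∈ U := (mem_normalizer_iff''.1 hg h.x).1 hxU
    have h2 := h.J_comm y hy _ (hU h1)
    show g * y * g⁻¹ * h.x = h.x * (g * y * g⁻¹)
    calc g * y * g⁻¹ * h.x = g * (y * (g⁻¹ * h.x * g)) * g⁻¹ := by group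
      _ = _ := by rw [h2]; group
  have he := h.eq_J hle (by
    rintro _ ⟨a, ha, rfl⟩ _ ⟨b, hb, rfl⟩
    rw [← map_mul, ← map_mul, h.J_comm a ha b hb]) (by
    rw [card_map_of_injective (MulAut.conj g).injective, h.J_card])
  exact h.mem_N_iff.2 fun a => by
    obtain ⟨b, hb⟩ : g * h.j a * g⁻¹ ∈ h.J := he ▸ ⟨_, h.j_mem a, rfl⟩
    exact ⟨b, hb.symm⟩

/-- The elements of the elementary group centralising the involution. -/
def JT : Subgroup G := h.J ⊓ centralizer ({h.tau} : Set G)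

theorem mem_JT {g : G} : g ∈ h.JT ↔ ∃ a, act wt a = a ∧ h.j a = g := by
  constructor
  · rintro ⟨⟨a, rfl⟩, hc⟩
    exact ⟨a, (h.commute_tau_iff a).1 (mem_centralizer_singleton_iff.1 hc), rfl⟩
  · rintro ⟨a, ha, rfl⟩
    exact ⟨h.j_mem a, mem_centralizer_singleton_iff.2 ((h.commute_tau_iff a).2 ha)⟩

theorem JT_card : Nat.card h.JT = 9 := by
  classical
  rw [← tau_vectors.2.2.2.2.1, ← Fintype.card_subtype, ← Nat.card_eq_fintype_card]
  exact (Nat.card_congr (Equiv.ofBijective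
    (fun a : {a : A // act wt a = a} => (⟨h.j a, h.mem_JT.2 ⟨a, a.2, rfl⟩⟩ : h.JT))
    ⟨fun a b e => Subtype.ext (h.j_inj (congrArg Subtype.val e)), fun ⟨g, hg⟩ => by
      obtain ⟨a, ha, rfl⟩ := h.mem_JT.1 hg; exact ⟨⟨a, ha⟩, rfl⟩⟩)).symm

/-- The components of an element of the normaliser commuting with the involution. -/
theorem split_tau {c : A} {u : KG h.k} :
    h.j c * h.q u * h.tau = h.tau * (h.j c * h.q u) ↔ act wt c = c ∧ (u : W) * wt = wt * u := by
  constructor
  · intro e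
    have e1 : h.j c * h.q (u * ⟨wt, inK_wt h.k⟩) = h.j (act wt c) * h.q (⟨wt, inK_wt h.k⟩ * u) := by
      rw [map_mul, map_mul, ← h.tau_j]
      show h.j c * (h.q u * h.tau) = h.tau * h.j c * h.tau⁻¹ * (h.tau * h.q u)
      rw [← mul_assoc, e]; group
    have e2 : inlA h.k c * inrK h.k (u * ⟨wt, inK_wt h.k⟩) =
        inlA h.k (act wt c) * inrK h.k (⟨wt, inK_wt h.k⟩ * u) :=
      h.inj ((map_mul h.φ _ _).trans (e1.trans (map_mul h.φ _ _).symm))
    have e3 := congrArg Subtype.val e2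
    change (SemidirectProduct.inl c * SemidirectProduct.inr ((u : W) * wt) : Mf) =
      SemidirectProduct.inl (act wt c) * SemidirectProduct.inr (wt * (u : W)) at e3
    have hl := congrArg SemidirectProduct.left e3
    have hr := congrArg SemidirectProduct.right e3
    simp at hl hr
    exact ⟨hl.symm, hr⟩
  · rintro ⟨hc, hu⟩
    have e1 : h.q u * h.tau = h.tau * h.q u := by
      show h.q u * h.q _ = h.q _ * h.q u
      rw [← map_mul, ← map_mul]
      exact congrArg h.q (Subtype.ext hu)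
    rw [mul_assoc, e1, ← mul_assoc, (h.commute_tau_iff c).2 hc, mul_assoc]

theorem card_cent_tau_inf :
    Nat.card (h.N ⊓ centralizer ({h.tau} : Set G) : Subgroup G) = tauCard h.k := by
  classical
  rw [← tau_stab.2.2 h.k, mul_comm, ← tau_vectors.2.2.2.2.1, ← Fintype.card_subtype, ← Fintype.card_subtype,
    ← Nat.card_eq_fintype_card, ← Nat.card_eq_fintype_card, ← Nat.card_prod]
  refine (Nat.card_congr (Equiv.ofBijective
    (fun p : {a : A // act wt a = a} × {u : W // inK h.k u ∧ u * wt = wt * u} =>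
    (⟨h.j p.1 * h.q ⟨p.2.1, p.2.2.1⟩, ?_⟩ : (h.N ⊓ centralizer ({h.tau} : Set G) : Subgroup G))) ⟨?_, ?_⟩)).symm
  · exact ⟨mul_mem (h.j_mem_N _) (h.q_mem_N _),
      mem_centralizer_singleton_iff.2 (h.split_tau.2 ⟨p.1.2, p.2.2.2⟩)⟩
  · rintro ⟨a, q⟩ ⟨b, r⟩ e
    have e' : h.j a.1 * h.q ⟨q.1, q.2.1⟩ = h.j b.1 * h.q ⟨r.1, r.2.1⟩ := congrArg Subtype.val e
    have e2 : inlA h.k a.1 * inrK h.k ⟨q.1, q.2.1⟩ = inlA h.k b.1 * inrK h.k ⟨r.1, r.2.1⟩ :=
      h.inj (by rw [map_mul, map_mul]; exact e')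
    have e3 := congrArg Subtype.val e2
    change (SemidirectProduct.inl a.1 * SemidirectProduct.inr q.1 : Mf) =
      SemidirectProduct.inl b.1 * SemidirectProduct.inr r.1 at e3
    have hl := congrArg SemidirectProduct.left e3
    have hr := congrArg SemidirectProduct.right e3
    simp at hl hr
    exact Prod.ext (Subtype.ext hl) (Subtype.ext hr)
  · rintro ⟨g, hg, hgt⟩
    obtain ⟨w, hw, c, rfl⟩ := h.exists_act hg
    obtain ⟨hc, hu⟩ := h.split_tau.1 (mem_centralizer_singleton_iff.1 hgt)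
    exact ⟨(⟨c, hc⟩, ⟨w, w.2, hu⟩), rfl⟩

/-- Elements of the elementary group fixed by the involution have local centralisers. -/
theorem loc_JT (he1 : centralizer ({h.j e1} : Set G) ≤ h.N) {a : A} (ha : act wt a = a) (ha1 : a ≠ 1) :
    centralizer ({h.j a} : Set G) ≤ h.N := by
  rcases tau_vectors.2.2.2.2.2 h.k a ha ha1 with e | rfl | rfl
  · exact h.loc ha1 e
  · exact he1
  · rwa [map_inv, A9ThreeLocal.centralizer_inv]

/-- The centraliser of the involution is local. -/
theorem tau_le (he1 : centralizer ({h.j e1} : Set G) ≤ h.N) :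
    centralizer ({h.tau} : Set G) ≤ h.N ∧ Nat.card (centralizer ({h.tau} : Set G)) = tauCard h.k := by
  classical
  haveI : Fact (Nat.Prime 3) := ⟨Nat.prime_three⟩
  haveI : Fact (Nat.Prime 2) := ⟨Nat.prime_two⟩
  suffices hle : centralizer ({h.tau} : Set G) ≤ h.N by
    refine ⟨hle, ?_⟩
    rw [← h.card_cent_tau_inf, inf_eq_right.2 hle]
  set C := centralizer ({h.tau} : Set G) with hC
  have htC : h.tau ∈ C := mem_centralizer_singleton_iff.2 rfl
  let z : C := ⟨h.tau, htC⟩
  set Z : Subgroup C := zpowers z with hZ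
  have hZn : Z.Normal := ⟨fun y hy d => by
    obtain ⟨i, rfl⟩ := mem_zpowers_iff.1 hy
    have hd : Commute d z := Subtype.ext (mem_centralizer_singleton_iff.1 d.2)
    rw [(hd.zpow_right i).eq, mul_inv_cancel_right]
    exact zpow_mem (mem_zpowers z) i⟩
  have hto : orderOf h.tau = 2 := orderOf_eq_prime (by rw [pow_two, h.tau_sq]) h.tau_ne
  have hZ2 : Nat.card Z = 2 := by rw [hZ, Nat.card_zpowers, orderOf_mk, hto]
  have hZmem : ∀ d : C, d ∈ Z → (d : G) = 1 ∨ (d : G) = h.tau := by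
    intro d hd
    obtain ⟨i, rfl⟩ := mem_zpowers_iff.1 hd
    rw [SubgroupClass.coe_zpow]
    show h.tau ^ i = 1 ∨ h.tau ^ i = h.tau
    have e2 : h.tau ^ (2 : ℤ) = 1 := by rw [zpow_two, h.tau_sq]
    rw [← Int.emod_add_mul_ediv i 2, zpow_add, zpow_mul, e2, one_zpow, mul_one]
    rcases (show i % 2 = 0 ∨ i % 2 = 1 by omega) with e | e <;> rw [e] <;> simp
  set π : C →* C ⧸ Z := QuotientGroup.mk' Z with hπdef
  have hπs : Function.Surjective π := QuotientGroup.mk'_surjective Z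
  have hπ : ∀ d : C, π d = 1 → (d : G) = 1 ∨ (d : G) = h.tau := fun d e =>
    hZmem d ((QuotientGroup.eq_one_iff d).1 e)
  have hπz : π z = 1 := (QuotientGroup.eq_one_iff z).2 (mem_zpowers z)
  -- an element of the elementary group commuting modulo the involution commutes
  have hcom : ∀ (d : C) (e : C), (e : G) ∈ h.JT → π d * π e = π e * π d →
      (d : G) * e = (e : G) * d := by
    intro d e he hde
    have h1 : π (d * e * d⁻¹ * e⁻¹) = 1 := by
      simp only [map_mul, map_inv]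
      rw [hde, mul_inv_cancel_right, mul_inv_cancel]
    rcases hπ _ h1 with e1' | e1'
    · exact mul_inv_eq_iff_eq_mul.1 (mul_inv_eq_one.1 e1')
    · exfalso
      have e2 : (d : G) * e * (d : G)⁻¹ = h.tau * e := mul_inv_eq_iff_eq_mul.1 e1'
      have hc : Commute h.tau (e : G) := (mem_centralizer_singleton_iff.1 e.2).symm
      have h3 : (h.tau * (e : G)) ^ 3 = 1 := by
        rw [← e2, conj_pow, h.J_cube _ he.1, mul_one, mul_inv_cancel]
      rw [hc.mul_pow, h.J_cube _ he.1, mul_one, pow_succ, pow_two, h.tau_sq, one_mul] at h3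
      exact h.tau_ne h3
  have hJTC : h.JT ≤ C := inf_le_right
  set T0 : Subgroup (C ⧸ Z) := (h.JT.subgroupOf C).map π with hT0
  have hJT3 : IsPGroup 3 (h.JT.subgroupOf C) := IsPGroup.of_card (n := 2) (by
    rw [Nat.card_congr (subgroupOfEquivOfLe hJTC).toEquiv, h.JT_card]; norm_num)
  have hπT : ∀ d : C, π d ∈ T0 ↔ (d : G) ∈ h.JT ∨ (d : G) * h.tau ∈ h.JT := by
    intro d
    constructor
    · rintro ⟨e, he, heq⟩
      have h1 : π (e⁻¹ * d) = 1 := by rw [map_mul, map_inv, heq, inv_mul_cancel]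
      rcases hπ _ h1 with e1' | e1'
      · left
        rw [Subgroup.coe_mul, Subgroup.coe_inv, inv_mul_eq_one] at e1'
        rw [← e1']; exact he
      · right
        rw [Subgroup.coe_mul, Subgroup.coe_inv, inv_mul_eq_iff_eq_mul] at e1'
        rw [e1', mul_assoc, h.tau_sq, mul_one]; exact he
    · rintro (hd | hd)
      · exact ⟨d, hd, rfl⟩
      · exact ⟨d * z, hd, by rw [map_mul, hπz, mul_one]⟩
  have hnormJ : ∀ d : C, π d ∈ normalizer (T0 : Set (C ⧸ Z)) → (d : G) ∈ h.N := by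
    intro d hd
    refine h.mem_N_of_norm (U := h.JT) inf_le_left (h.mem_JT.2 ⟨xA, tau_vectors.1, rfl⟩) ?_
    refine mem_normalizer_fintype fun g hg => ?_
    have h1 := (mem_normalizer_iff.1 hd (π ⟨g, hJTC hg⟩)).1 ⟨⟨g, hJTC hg⟩, hg, rfl⟩
    rw [← map_inv, ← map_mul, ← map_mul, hπT] at h1
    rcases h1 with h1 | h1
    · exact h1
    · exfalso
      simp only [Subgroup.coe_mul, Subgroup.coe_inv] at h1
      have hc : Commute ((d : G) * g * (d : G)⁻¹) h.tau :=
        mem_centralizer_singleton_iff.1 (mul_mem (mul_mem d.2 (hJTC hg)) (inv_mem d.2))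
      have h3 := h.J_cube _ h1.1
      rw [hc.mul_pow, conj_pow, h.J_cube _ hg.1, mul_one, mul_inv_cancel, one_mul, pow_succ, pow_two, h.tau_sq,
        one_mul] at h3
      exact h.tau_ne h3
  have hstab : ∀ d : C, (d : G) ∈ h.N →
      ∃ c : A, ∃ u : KG h.k, (d : G) = h.j c * h.q u ∧ act wt c = c ∧ (u : W) * wt = wt * u := by
    intro d hd
    obtain ⟨u, hu, c, hdc⟩ := h.exists_act hd
    have := mem_centralizer_singleton_iff.1 d.2
    rw [hdc] at this
    exact ⟨c, u, hdc, h.split_tau.1 this⟩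
  obtain ⟨T, hT⟩ := (hJT3.map π).exists_le_sylow
  have hTeq : (T : Subgroup (C ⧸ Z)) = T0 := by
    refine le_antisymm ?_ hT
    by_contra hne
    have hlt : T0.subgroupOf (T : Subgroup (C ⧸ Z)) < ⊤ :=
      lt_top_iff_ne_top.2 fun e => hne (subgroupOf_eq_top.1 e)
    haveI : Group.IsNilpotent (T : Subgroup (C ⧸ Z)) := T.2.isNilpotent
    obtain ⟨g, hgN, hgT⟩ := SetLike.exists_of_lt (Group.normalizerCondition_of_isNilpotent _ hlt)
    obtain ⟨d, hd⟩ := hπs g
    have hdN : (d : G) ∈ h.N := hnormJ d (by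
      rw [hd]
      exact mem_normalizer_fintype fun y hy => (mem_normalizer_iff.1 hgN ⟨y, hT hy⟩).1 hy)
    obtain ⟨c, u, hdc, hc, hu⟩ := hstab d hdN
    have hcJT : h.j c ∈ h.JT := h.mem_JT.2 ⟨c, hc, rfl⟩
    set e : C := (⟨h.j c, hJTC hcJT⟩ : C)⁻¹ * d with he
    have heq : (e : G) = h.q u := by
      rw [he, Subgroup.coe_mul, Subgroup.coe_inv, hdc]
      show (h.j c)⁻¹ * (h.j c * h.q u) = h.q u
      rw [inv_mul_cancel_left]
    have heT : π e ∈ (T : Subgroup (C ⧸ Z)) := by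
      rw [he, map_mul, map_inv, hd]
      exact mul_mem (inv_mem (hT ⟨_, hcJT, rfl⟩)) g.2
    have he8 : π e ^ 8 = 1 := by
      have : e ^ 8 = 1 := Subtype.ext (by
        rw [SubgroupClass.coe_pow, heq, ← map_pow,
          show u ^ 8 = 1 from Subtype.ext (tau_stab.2.1 _ hu).1, map_one]; rfl)
      rw [← map_pow, this, map_one]
    obtain ⟨n, hn⟩ := T.2 ⟨_, heT⟩
    have he1 : π e = 1 := orderOf_eq_one_iff.1 (Nat.eq_one_of_dvd_coprimes
      ((show Nat.Coprime 3 8 by norm_num).pow_left n)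
      (orderOf_dvd_of_pow_eq_one (by simpa using congrArg Subtype.val hn)) (orderOf_dvd_of_pow_eq_one he8))
    refine hgT (mem_subgroupOf.2 ?_)
    rw [← hd, show d = ⟨h.j c, hJTC hcJT⟩ * e by rw [he, mul_inv_cancel_left], map_mul, he1, mul_one]
    exact ⟨_, hcJT, rfl⟩
  have hnine : Nine T := by
    refine ⟨?_, ?_, ?_, ?_, ?_⟩
    · rw [hTeq]
      rintro _ ⟨a, ha, rfl⟩ _ ⟨b, hb, rfl⟩
      rw [← map_mul, ← map_mul]
      exact congrArg π (Subtype.ext (h.J_comm _ ha.1 _ hb.1))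
    · rw [hTeq]
      rintro _ ⟨a, ha, rfl⟩
      rw [← map_pow, show a ^ 3 = 1 from Subtype.ext (h.J_cube _ ha.1), map_one]
    · rw [hTeq, ← h.JT_card, ← Nat.card_congr (subgroupOfEquivOfLe hJTC).toEquiv, hT0]
      refine Nat.card_congr (Equiv.ofBijective
        (fun a : h.JT.subgroupOf C => (⟨π a, a, a.2, rfl⟩ : (h.JT.subgroupOf C).map π)) ⟨?_, ?_⟩).symm
      · intro a b e
        have e' : π a = π b := congrArg Subtype.val e
        rcases hπ ((a : C)⁻¹ * b) (by rw [map_mul, map_inv, e', inv_mul_cancel]) with e1' | e1'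
        · refine Subtype.ext (Subtype.ext ?_)
          rwa [Subgroup.coe_mul, Subgroup.coe_inv, inv_mul_eq_one] at e1'
        · exfalso
          have hm : h.tau ∈ h.J := by
            rw [← e1', Subgroup.coe_mul, Subgroup.coe_inv]
            exact mul_mem (inv_mem a.2.1) b.2.1
          have h3 := h.J_cube _ hm
          rw [pow_succ, pow_two, h.tau_sq, one_mul] at h3
          exact h.tau_ne h3
      · rintro ⟨_, a, ha, rfl⟩
        exact ⟨⟨a, ha⟩, rfl⟩
    · refine le_antisymm (fun y hy => ?_) fun y hy => mem_centralizer_iff.2 fun s hs => ?_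
      · obtain ⟨d, rfl⟩ := hπs y
        rw [hTeq, hπT]
        have hd : ∀ a : A, act wt a = a → (d : G) * h.j a = h.j a * d := fun a ha => by
          have hm : h.j a ∈ h.JT := h.mem_JT.2 ⟨a, ha, rfl⟩
          exact hcom d ⟨_, hJTC hm⟩ hm
            (mem_centralizer_iff.1 hy _ (hTeq ▸ ⟨⟨_, hJTC hm⟩, hm, rfl⟩)).symm
        have hdN : (d : G) ∈ h.N := h.cent_xLike (xLike_self h.k)
          (mem_centralizer_singleton_iff.2 (hd xA tau_vectors.1))
        obtain ⟨u, hu, c, hdc⟩ := h.exists_act hdN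
        have hfix : ∀ a : A, act wt a = a → act u a = a := fun a ha =>
          h.j_inj (by rw [← hu, hd a ha, mul_inv_cancel_right])
        have hd' := mem_centralizer_singleton_iff.1 d.2
        rw [hdc] at hd'
        have hc := (h.split_tau.1 hd').1
        rcases tau_stab.1 u (hfix _ tau_vectors.1) (hfix _ tau_vectors.2.1) with e | e
        · left
          rw [hdc, show u = 1 from Subtype.ext e, map_one, mul_one]
          exact h.mem_JT.2 ⟨c, hc, rfl⟩
        · right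
          rw [hdc, show h.q u = h.tau from congrArg h.q (Subtype.ext e), mul_assoc, h.tau_sq, mul_one]
          exact h.mem_JT.2 ⟨c, hc, rfl⟩
      · rw [hTeq] at hy hs
        obtain ⟨a, ha, rfl⟩ := hy
        obtain ⟨b, hb, rfl⟩ := hs
        rw [← map_mul, ← map_mul]
        exact congrArg π (Subtype.ext (h.J_comm _ hb.1 _ ha.1))
    · intro t ht ht1 y hy
      rw [hTeq] at ht
      obtain ⟨e, he, rfl⟩ := ht
      obtain ⟨d, rfl⟩ := hπs y
      obtain ⟨a, ha, hae⟩ := h.mem_JT.1 he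
      have hde := hcom d e he (mem_centralizer_singleton_iff.1 hy)
      have hdN : (d : G) ∈ h.N := h.loc_JT he1 ha (fun e1' => ht1 (by
        rw [show e = 1 from Subtype.ext (by rw [← show h.j a = (e : G) from hae, e1', map_one]; rfl), map_one]))
        (mem_centralizer_singleton_iff.2 (by rw [hae]; exact hde))
      rw [hTeq]
      refine mem_normalizer_fintype fun y' hy' => ?_
      obtain ⟨e', he', rfl⟩ := hy'
      rw [SetLike.mem_coe, ← map_inv, ← map_mul, ← map_mul, hπT]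
      refine Or.inl (mem_inf.2 ⟨?_, C.mul_mem (C.mul_mem d.2 e'.2) (C.inv_mem d.2)⟩)
      obtain ⟨b, hb⟩ := (show (e' : G) ∈ h.J from he'.1)
      obtain ⟨b', hb'⟩ := h.mem_N_iff.1 hdN b
      exact ⟨b', by rw [← hb', hb]; rfl⟩
  have hback : ∀ d : C, (d : G) ∈ h.N → π d ∈ normalizer ((T : Subgroup (C ⧸ Z)) : Set (C ⧸ Z)) := by
    intro d hd
    rw [hTeq]
    refine mem_normalizer_fintype fun y hy => ?_
    obtain ⟨e, he, rfl⟩ := hy
    rw [SetLike.mem_coe, ← map_inv, ← map_mul, ← map_mul, hπT]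
    refine Or.inl (mem_inf.2 ⟨?_, C.mul_mem (C.mul_mem d.2 e.2) (C.inv_mem d.2)⟩)
    obtain ⟨b, hb⟩ := (show (e : G) ∈ h.J from he.1)
    obtain ⟨b', hb'⟩ := h.mem_N_iff.1 hd b
    exact ⟨b', by rw [← hb', hb]; rfl⟩
  set NT := normalizer ((T : Subgroup (C ⧸ Z)) : Set (C ⧸ Z)) with hNT
  have hcard : Nat.card NT * 2 = tauCard h.k := by
    have h1 : NT.comap π = (h.N ⊓ C).subgroupOf C := by
      ext d
      rw [mem_comap, mem_subgroupOf]
      exact ⟨fun e => ⟨hnormJ d (hTeq ▸ e), d.2⟩, fun e => hback d e.1⟩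
    have h2 := card_mul_index (NT.comap π)
    have h3 : Nat.card ((h.N ⊓ C).subgroupOf C) = tauCard h.k := by
      rw [Nat.card_congr (subgroupOfEquivOfLe inf_le_right).toEquiv]
      exact h.card_cent_tau_inf
    have h4 : Nat.card C = 2 * (Nat.card NT * NT.index) := by
      rw [← card_mul_index Z, hZ2, card_mul_index NT, index_eq_card]
    rw [index_comap_of_surjective NT hπs, h1, h3, h4, ← mul_assoc] at h2
    rw [Nat.eq_of_mul_eq_mul_right (Nat.pos_of_ne_zero NT.index_ne_zero_of_finite) h2, mul_comm]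
  have htop : NT = ⊤ := by
    refine hnine.top_of_elementary ?_ fun y hy => ?_
    · rw [← hNT]
      cases hk : h.k <;> rw [hk] at hcard <;> simp [tauCard] at hcard ⊢ <;> omega
    · obtain ⟨d, rfl⟩ := hπs y
      obtain ⟨c, u, hdc, hc, hu⟩ := hstab d (hnormJ d (hTeq ▸ hy))
      obtain ⟨u2, hu2⟩ : ∃ w, act (u : W) c = w := ⟨_, rfl⟩
      have e1 : (d : G) * d = h.j (c * act u c) := by
        have e0 : (d : G) * d = h.j (c * act u c) * h.q (u * u) := by
          rw [map_mul, map_mul, ← h.conj_j, hdc]; group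
        rw [e0, show u * u = 1 from Subtype.ext (tau_stab.2.1 _ hu).2, map_one, mul_one]
      rw [← map_mul, hTeq, hπT]
      exact Or.inl ⟨by rw [Subgroup.coe_mul, e1]; exact h.j_mem _, mul_mem d.2 d.2⟩
  intro d hd
  have hm : π ⟨d, hd⟩ ∈ NT := by rw [htop]; exact mem_top _
  exact hnormJ ⟨d, hd⟩ (hTeq ▸ hm)

end Conf

end Cfsg.Agent.Sym9ThreeLocal
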