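import Cfsg.Agent.Sym9ThreeLocal.KindPlane
import Cfsg.Agent.Sym9ThreeLocal.Tau

/-!
# The smallest kind, and configurations with one class in the normaliser
-/

set_option autoImplicit false
set_option synthInstance.maxSize 4000
set_option synthInstance.maxHeartbeats 400000

namespace Cfsg.Agent.Sym9ThreeLocal

open Cfsg Cfsg.Agent Subgroup

universe u

theorem tau_self : ∀ k, k ≠ Kind.four → k ≠ Kind.eight → ∀ p : Mf, inK k p.right →
    p * SemidirectProduct.inr wt * p⁻¹ * SemidirectProduct.inr wt =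
      SemidirectProduct.inr wt * (p * SemidirectProduct.inr wt * p⁻¹) →
    p * SemidirectProduct.inr wt * p⁻¹ = SemidirectProduct.inr wt := by
  decide +kernel

namespace Conf

variable {G : Type u} [Group G] [Finite G] (h : Conf G)

theorem tau_order : orderOf h.tau = 2 := by
  haveI : Fact (Nat.Prime 2) := ⟨Nat.prime_two⟩
  exact orderOf_eq_prime ((pow_two _).trans h.tau_sq) h.tau_ne

/-- Three-elements centralising the distinguished involution lie in the elementary subgroup. -/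
theorem cube_cent_tau (F : h.Facts) (hk : h.k ≠ .eight) {y : G} (hyt : y * h.tau = h.tau * y)
    (hy3 : y ^ 3 = 1) : y ∈ h.J := by
  obtain ⟨m, rfl⟩ := (F.tau_le (h.cent_local F hk (by decide +kernel))).1 (mem_centralizer_singleton_iff.2 hyt)
  have hmm : m * inrK h.k ⟨wt, inK_wt h.k⟩ = inrK h.k ⟨wt, inK_wt h.k⟩ * m :=
    h.inj (by rw [map_mul, map_mul]; exact hyt)
  have hwt : m.1.right * wt = wt * m.1.right := congrArg (fun m : Mk h.k => m.1.right) hmm
  have h3' : m ^ 3 = 1 := h.inj (by rw [map_pow, hy3, map_one])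
  have hu3 : m.1.right ^ 3 = 1 := by
    have := congrArg (SemidirectProduct.rightHom : Mf →* W) (congrArg Subtype.val h3')
    rwa [show ((m ^ 3 : Mk h.k) : Mf) = m.1 ^ 3 from rfl, map_pow, show ((1 : Mk h.k) : Mf) = 1 from rfl,
      map_one] at this
  have hu2 := (show ∀ u : W, u * wt = wt * u → u * u = 1 by decide +kernel) _ hwt
  refine ⟨m.1.left, ?_⟩
  show h.φ (inlA h.k m.1.left) = h.φ m
  refine congrArg h.φ (Subtype.ext (SemidirectProduct.ext rfl ?_))
  show (1 : W) = m.1.right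
  rw [← hu3, pow_succ, pow_two, hu2, one_mul]

/-- A single class of conjugates of the involution in the normaliser ends the proof. -/
theorem normal_of_single (F : h.Facts) (h4 : h.k ≠ .four) (h8 : h.k ≠ .eight)
    (hone : ∀ n ∈ h.N, IsConj h.tau n → ∃ f ∈ h.N, f * h.tau * f⁻¹ = n) : h.J.Normal := by
  have hle := (F.tau_le (h.cent_local F h8 (by decide +kernel))).1
  have hodd := index_odd h.N h.tau_sq (show h.tau ∈ h.N from h.q_mem_N _) hone odd_one
    (by rw [inf_eq_right.2 hle, one_mul])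
  refine h.finish_isolated F (isolated_of_odd_index hodd h.tau_order ?_) h.tau_cyc_ne
  intro a ha b hb hca hcb hab
  obtain ⟨f, hf, rfl⟩ := hone a ha hca
  obtain ⟨f', hf', hb'⟩ := hone (f⁻¹ * b * f) (mul_mem (mul_mem (inv_mem hf) hb) hf)
    (hcb.trans (isConj_iff.2 ⟨f⁻¹, by rw [inv_inv]⟩))
  have hcomm : f' * h.tau * f'⁻¹ * h.tau = h.tau * (f' * h.tau * f'⁻¹) := by
    rw [hb']
    calc f⁻¹ * b * f * h.tau = f⁻¹ * (b * (f * h.tau * f⁻¹)) * f := by group
      _ = f⁻¹ * (f * h.tau * f⁻¹ * b) * f := by rw [hab.eq]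
      _ = _ := by group
  obtain ⟨p, rfl⟩ := hf'
  have key : p * inrK h.k ⟨wt, inK_wt h.k⟩ * p⁻¹ = inrK h.k ⟨wt, inK_wt h.k⟩ := by
    refine Subtype.ext (tau_self h.k h4 h8 p.1 p.2 (congrArg Subtype.val (h.inj ?_ :
      p * inrK h.k ⟨wt, inK_wt h.k⟩ * p⁻¹ * inrK h.k ⟨wt, inK_wt h.k⟩ =
        inrK h.k ⟨wt, inK_wt h.k⟩ * (p * inrK h.k ⟨wt, inK_wt h.k⟩ * p⁻¹))))
    simp only [map_mul, map_inv]
    exact hcomm
  have key' : h.φ p * h.tau * (h.φ p)⁻¹ = h.tau := by
    have := congrArg h.φ key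
    simp only [map_mul, map_inv] at this
    exact this
  rw [key'] at hb'
  rw [hb']
  group

/-- The smallest kind. -/
theorem normal_of_one (F : h.Facts) (hk : h.k = .one) : h.J.Normal := by
  refine h.normal_of_single F (by rw [hk]; decide) (by rw [hk]; decide) fun n hn hc => ?_
  obtain ⟨g, hg⟩ := isConj_iff.1 hc
  have h2 : n * n = 1 := by
    rw [← hg, show g * h.tau * g⁻¹ * (g * h.tau * g⁻¹) = g * (h.tau * h.tau) * g⁻¹ by group, h.tau_sq,
      mul_one, mul_inv_cancel]
  have h1 : n ≠ 1 := fun e => h.tau_ne (conj_eq_one_iff.1 (hg.trans e))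
  obtain ⟨r, hr, hrk, f, hf, e⟩ := h.invol_rep (by rw [hk]; decide) hn h2 h1
  rw [hk] at hrk
  obtain rfl : r = wt := List.mem_singleton.1 hrk
  exact ⟨f, hf, e.symm⟩

end Conf

end Cfsg.Agent.Sym9ThreeLocal
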