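import Cfsg.Agent.Sym9ThreeLocal.KindOne

/-!
# The second kind
-/

set_option autoImplicit false
set_option synthInstance.maxSize 4000
set_option synthInstance.maxHeartbeats 400000

namespace Cfsg.Agent.Sym9ThreeLocal

open Cfsg Cfsg.Agent Subgroup

universe u

theorem two_facts : inK .two wi ∧ inK .two (wi * wt) ∧ wi * wc * wi⁻¹ = wc ∧
    wi * wt * wc * (wi * wt)⁻¹ = wc⁻¹ ∧ wt * wc * wt⁻¹ = wc⁻¹ ∧ wi * wi = 1 ∧ wi * wt * (wi * wt) = 1 ∧
    wi * wt ≠ 1 ∧ act wi xA = xA⁻¹ ∧ act (wi * wt) xA = xA⁻¹ ∧ act wt xA = xA := by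
  decide +kernel

theorem two_vec : vec 0 1 2 ≠ 1 ∧ ¬ XLike .two (vec 0 1 2) ∧ act (wi * wt) (vec 0 1 2) = vec 0 1 2 ∧
    ∀ a, act (wi * wt) a = a → ∃ i : Fin 3, vec 0 1 2 ^ (i : ℕ) = a := by
  decide +kernel

theorem perm_inK : ∀ k, ∀ l : ZMod 3, inK k (wq 0 0 0 (.r l)) := by decide +kernel

theorem normE_count :
    (Finset.univ.filter fun m : Mf => inK .two m.right ∧
      m * SemidirectProduct.inr wt = SemidirectProduct.inr wt * m ∧
      (∃ p, eF p = m * SemidirectProduct.inl xA * m⁻¹) ∧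
      ∃ p, eF p = m * SemidirectProduct.inr wc * m⁻¹).card = 12 := by
  decide +kernel

theorem zE_conj : ∀ p : P9, ∃ p' : P9,
    eF p' * SemidirectProduct.inr (wi * wt) * (eF p')⁻¹ = eF p * SemidirectProduct.inr (wi * wt) := by
  decide +kernel

theorem invol_fix : ∀ m : Mf, m.right.left = 1 → m * m = 1 → m ≠ 1 →
    (∃ p, eF p = m * SemidirectProduct.inr wc * m⁻¹) → ∃ c : A, ∃ l : ZMod 3,
      (SemidirectProduct.inl c * SemidirectProduct.inr (wq 0 0 0 (.r l)) : Mf) * SemidirectProduct.inr wt *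
        (SemidirectProduct.inl c * SemidirectProduct.inr (wq 0 0 0 (.r l)) : Mf)⁻¹ = m ∧
      (∃ p, eF p = (SemidirectProduct.inl c * SemidirectProduct.inr (wq 0 0 0 (.r l)) : Mf) *
        SemidirectProduct.inl xA * (SemidirectProduct.inl c * SemidirectProduct.inr (wq 0 0 0 (.r l)) : Mf)⁻¹) ∧
      ∃ p, eF p = (SemidirectProduct.inl c * SemidirectProduct.inr (wq 0 0 0 (.r l)) : Mf) *
        SemidirectProduct.inr wc * (SemidirectProduct.inl c * SemidirectProduct.inr (wq 0 0 0 (.r l)) : Mf)⁻¹ := by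
  decide +kernel

theorem eF_cases : ∀ p : P9, p ≠ 1 → p = Multiplicative.ofAdd (1, 0) ∨ p = (Multiplicative.ofAdd (1, 0))⁻¹ ∨
    (p.toAdd.2 ≠ 0 ∧ (Multiplicative.ofAdd ((0 : ZMod 3), p.toAdd.2) = Multiplicative.ofAdd (0, 1) ∨
      Multiplicative.ofAdd ((0 : ZMod 3), p.toAdd.2) = (Multiplicative.ofAdd (0, 1))⁻¹)) := by
  decide +kernel

namespace Conf

variable {G : Type u} [Group G] (h : Conf G)

/-- Conjugation read in the model. -/
theorem phi_conj {m a b : Mk h.k} (e : m.1 * a.1 * m.1⁻¹ = b.1) : h.φ m * h.φ a * (h.φ m)⁻¹ = h.φ b := by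
  rw [← map_inv, ← map_mul, ← map_mul]
  exact congrArg h.φ (Subtype.ext e)

/-- Membership of a conjugate in the plane, read in the model. -/
theorem conj_mem_E_iff {m a : Mk h.k} :
    h.φ m * h.φ a * (h.φ m)⁻¹ ∈ h.E ↔ ∃ p, eF p = m.1 * a.1 * m.1⁻¹ := by
  constructor
  · rintro ⟨p, hp⟩
    rw [← map_inv, ← map_mul, ← map_mul] at hp
    exact ⟨p, congrArg Subtype.val (h.inj hp : h.eM p = m * a * m⁻¹)⟩
  · rintro ⟨p, hp⟩
    exact ⟨p, (h.phi_conj (b := h.eM p) hp.symm).symm⟩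

theorem q_conj {a b c : KG h.k} (e : (a : W) * b * (a : W)⁻¹ = c) : h.q a * h.q b * (h.q a)⁻¹ = h.q c := by
  rw [← map_inv, ← map_mul, ← map_mul]
  exact congrArg h.q (Subtype.ext e)

variable [Finite G]

/-- Elements of the complement acting by signs on the diagonal and the cycle normalise the plane. -/
theorem q_mem_norm_E (u : KG h.k) (hx : act u xA = xA ∨ act u xA = xA⁻¹)
    (hc : (u : W) * wc * (u : W)⁻¹ = wc ∨ (u : W) * wc * (u : W)⁻¹ = wc⁻¹) :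
    h.q u ∈ normalizer (h.E : Set G) := by
  refine h.mem_norm_E ?_ ?_
  · rw [h.conj_j]
    rcases hx with e | e <;> rw [e]
    · exact h.x_mem_E
    · rw [map_inv]; exact inv_mem h.x_mem_E
  · rcases hc with e | e
    · rw [show h.q u * h.cyc * (h.q u)⁻¹ = h.cyc from h.q_conj (b := ⟨wc, inK_wc h.k⟩) (c := ⟨wc, inK_wc h.k⟩) e]
      exact h.cyc_mem_E
    · rw [show h.q u * h.cyc * (h.q u)⁻¹ = h.cyc⁻¹ from
        (h.q_conj (b := ⟨wc, inK_wc h.k⟩) (c := ⟨wc, inK_wc h.k⟩⁻¹) e).trans (map_inv h.q _)]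
      exact inv_mem h.cyc_mem_E

theorem tau_norm_E : h.tau ∈ normalizer (h.E : Set G) :=
  h.q_mem_norm_E ⟨wt, inK_wt h.k⟩ (Or.inl two_facts.2.2.2.2.2.2.2.2.2.2) (Or.inr two_facts.2.2.2.2.1)

/-- With a swap of the two lines the normaliser is transitive on the nontrivial elements of the plane. -/
theorem trans_E {i g0 : G} (hi : i ∈ normalizer (h.E : Set G)) (hix : i * h.x * i⁻¹ = h.x⁻¹)
    (hg0 : g0 ∈ normalizer (h.E : Set G)) (hsw : g0 * h.x * g0⁻¹ = h.cyc ∨ g0 * h.x * g0⁻¹ = h.cyc⁻¹)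
    {f : G} (hf : f ∈ h.E) (hf1 : f ≠ 1) : ∃ g ∈ normalizer (h.E : Set G), g * h.x * g⁻¹ = f := by
  obtain ⟨p, rfl⟩ := hf
  rcases eF_cases p (fun e => hf1 (by rw [e, map_one])) with e | e | ⟨hp, e⟩
  · exact ⟨1, one_mem _, by rw [one_mul, inv_one, mul_one, e, h.ee_x]⟩
  · exact ⟨i, hi, by rw [hix, e, map_inv, h.ee_x]⟩
  obtain ⟨c, hc, hcx⟩ := eF_shift p hp
  set f0 := h.ee (Multiplicative.ofAdd (0, p.toAdd.2)) with hf0
  have hjc : h.j c * f0 * (h.j c)⁻¹ = h.ee p :=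
    h.phi_conj (m := inlA h.k c) (a := h.eM _) (b := h.eM p) (by rw [map_inv SemidirectProduct.inl] at hc; exact hc)
  have hjx : h.j c * h.x * (h.j c)⁻¹ = h.x := mul_inv_eq_iff_eq_mul.2 (h.j_comm c xA)
  have hf0' : f0 = h.cyc ∨ f0 = h.cyc⁻¹ := by
    rw [hf0]
    exact e.imp (fun e => by rw [e, h.ee_cyc]) (fun e => by rw [e, map_inv, h.ee_cyc])
  have hjE : h.j c ∈ normalizer (h.E : Set G) := by
    refine h.mem_norm_E (by rw [hjx]; exact h.x_mem_E) ?_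
    rcases hf0' with e' | e'
    · rw [← e', hjc]; exact ⟨p, rfl⟩
    · rw [← inv_inv h.cyc, ← e', ← conj_inv, hjc]; exact inv_mem ⟨p, rfl⟩
  obtain ⟨g1, hg1, hg1x⟩ : ∃ g1 ∈ normalizer (h.E : Set G), g1 * h.x * g1⁻¹ = f0 := by
    have ht : h.tau * h.cyc * h.tau⁻¹ = h.cyc⁻¹ :=
      (h.q_conj (a := ⟨wt, inK_wt h.k⟩) (b := ⟨wc, inK_wc h.k⟩) (c := ⟨wc, inK_wc h.k⟩⁻¹)
        two_facts.2.2.2.2.1).trans (map_inv h.q _)
    have ht' : ∀ y, g0 * h.x * g0⁻¹ = y → h.tau * g0 * h.x * (h.tau * g0)⁻¹ = h.tau * y * h.tau⁻¹ :=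
      fun y e => by rw [← e]; group
    rcases hsw with s | s <;> rcases hf0' with e' | e'
    · exact ⟨g0, hg0, s.trans e'.symm⟩
    · exact ⟨_, mul_mem h.tau_norm_E hg0, by rw [ht' _ s, ht, e']⟩
    · exact ⟨_, mul_mem h.tau_norm_E hg0, by rw [ht' _ s, ← conj_inv, ht, inv_inv, e']⟩
    · exact ⟨g0, hg0, s.trans e'.symm⟩
  exact ⟨_, mul_mem hjE hg1, by
    rw [show h.j c * g1 * h.x * (h.j c * g1)⁻¹ = h.j c * (g1 * h.x * g1⁻¹) * (h.j c)⁻¹ by group, hg1x, hjc]⟩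

theorem inK_wi (hk : h.k = .two) : inK h.k wi := hk ▸ two_facts.1

theorem inK_wz (hk : h.k = .two) : inK h.k (wi * wt) := hk ▸ two_facts.2.1

theorem zed_not_conj (F : h.Facts) (hk : h.k = .two) : ¬ IsConj h.tau (h.q ⟨wi * wt, h.inK_wz hk⟩) := by
  have hact : ∀ a : A, h.q ⟨wi * wt, h.inK_wz hk⟩ * h.j a = h.j a * h.q ⟨wi * wt, h.inK_wz hk⟩ ↔
      act (wi * wt) a = a := fun a => by
    rw [← mul_inv_eq_iff_eq_mul, h.conj_j, h.j_inj.eq_iff]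
  refine h.not_conj_tau F (by rw [hk]; decide) two_vec.1 (by rw [hk]; exact two_vec.2.1) (fun a ha => ?_)
    ((hact _).2 two_vec.2.2.1)
  obtain ⟨i, hi⟩ := two_vec.2.2.2 a ((hact a).1 ha)
  exact hi ▸ pow_mem (mem_zpowers _) _

/-- The order of the centraliser of the involution in the normaliser of the plane. -/
theorem card_norm_cent (F : h.Facts) (hk : h.k = .two) :
    Nat.card (normalizer (h.E : Set G) ⊓ centralizer ({h.tau} : Set G) : Subgroup G) = 12 := by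
  classical
  rw [← normE_count, ← Fintype.card_subtype, ← Nat.card_eq_fintype_card]
  have hin : ∀ {m : Mf}, inK .two m.right → inK h.k m.right := fun hm => hk.symm ▸ hm
  refine (Nat.card_congr (Equiv.ofBijective (fun m => (⟨h.φ ⟨m.1, hin m.2.1⟩, ?_, ?_⟩ :
    (normalizer (h.E : Set G) ⊓ centralizer ({h.tau} : Set G) : Subgroup G))) ⟨?_, ?_⟩)).symm
  · exact h.mem_norm_E ((h.conj_mem_E_iff (a := inlA h.k xA)).2 m.2.2.2.1)
      ((h.conj_mem_E_iff (a := inrK h.k ⟨wc, inK_wc h.k⟩)).2 m.2.2.2.2)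
  · refine mem_centralizer_singleton_iff.2 ?_
    show h.φ ⟨m.1, hin m.2.1⟩ * h.φ (inrK h.k _) = h.φ (inrK h.k _) * h.φ ⟨m.1, hin m.2.1⟩
    rw [← map_mul, ← map_mul]
    exact congrArg h.φ (Subtype.ext m.2.2.1)
  · intro a b e
    exact Subtype.ext (congrArg (fun m : Mk h.k => m.1) (h.inj (congrArg Subtype.val e :)))
  · rintro ⟨g, hgE, hgt⟩
    obtain ⟨m, rfl⟩ := (F.tau_le (h.cent_local F (by rw [hk]; decide) (by decide +kernel))).1 hgt
    have hmE := fun y hy => (mem_normalizer_iff.1 hgE y).1 hy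
    refine ⟨⟨m.1, hk ▸ m.2, ?_, (h.conj_mem_E_iff (a := inlA h.k xA)).1 (hmE _ h.x_mem_E),
      (h.conj_mem_E_iff (a := inrK h.k ⟨wc, inK_wc h.k⟩)).1 (hmE _ h.cyc_mem_E)⟩, rfl⟩
    refine congrArg Subtype.val (h.inj ?_ :
      m * inrK h.k ⟨wt, inK_wt h.k⟩ = inrK h.k ⟨wt, inK_wt h.k⟩ * m)
    rw [map_mul, map_mul]
    exact mem_centralizer_singleton_iff.1 hgt

/-- The involutions of the normaliser of the plane. -/
theorem invol_norm_E (hk : h.k = .two)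
    (htr : ∀ f ∈ h.E, f ≠ 1 → ∃ g ∈ normalizer (h.E : Set G), g * h.x * g⁻¹ = f)
    {n : G} (hn : n ∈ normalizer (h.E : Set G)) (h2 : n * n = 1) (h1 : n ≠ 1) :
    (∃ e ∈ h.E, e * h.q ⟨wi * wt, h.inK_wz hk⟩ = n) ∨
      ∃ f ∈ normalizer (h.E : Set G), f * h.tau * f⁻¹ = n := by
  set z := h.q ⟨wi * wt, h.inK_wz hk⟩ with hz
  have hz2 : z * z = 1 := h.q_sq (u := ⟨wi * wt, h.inK_wz hk⟩) two_facts.2.2.2.2.2.2.1
  have hzx : z * h.x * z⁻¹ = h.x⁻¹ := by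
    rw [hz, h.conj_j, two_facts.2.2.2.2.2.2.2.2.2.1, map_inv]
  have hzc : z * h.cyc * z⁻¹ = h.cyc⁻¹ :=
    (h.q_conj (a := ⟨wi * wt, h.inK_wz hk⟩) (b := ⟨wc, inK_wc h.k⟩) (c := ⟨wc, inK_wc h.k⟩⁻¹)
      two_facts.2.2.2.1).trans (map_inv h.q _)
  by_cases hall : ∀ e ∈ h.E, n * e * n⁻¹ = e⁻¹
  · left
    have hc : ∀ e ∈ h.E, z * e * z⁻¹ = e⁻¹ → n * z * e = e * (n * z) := fun e he hze => by
      refine mul_inv_eq_iff_eq_mul.1 ?_
      rw [show n * z * e * (n * z)⁻¹ = n * (z * e * z⁻¹) * n⁻¹ by group, hze, hall _ (inv_mem he), inv_inv]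
    exact ⟨n * z, h.cent_E (hc _ h.x_mem_E hzx) (hc _ h.cyc_mem_E hzc), by rw [mul_assoc, hz2, mul_one]⟩
  right
  push Not at hall
  obtain ⟨e, he, hne⟩ := hall
  have hne' : n * e * n⁻¹ ∈ h.E := (mem_normalizer_iff.1 hn e).1 he
  obtain ⟨g, hg, hgf⟩ := htr (e * (n * e * n⁻¹)) (mul_mem he hne')
    (fun e' => hne (mul_eq_one_iff_eq_inv'.1 e'))
  have hfix : n * (e * (n * e * n⁻¹)) * n⁻¹ = e * (n * e * n⁻¹) := by
    rw [h.E_comm he hne']
    have hni : n⁻¹ = n := inv_eq_of_mul_eq_one_right h2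
    calc n * (n * e * n⁻¹ * e) * n⁻¹ = n * n * e * (n⁻¹ * e * n⁻¹) := by group
      _ = e * (n * e * n⁻¹) := by rw [h2, one_mul, hni]
      _ = n * e * n⁻¹ * e := h.E_comm he hne'
  set n' := g⁻¹ * n * g with hn'
  have hn'x : n' * h.x = h.x * n' := by
    refine mul_inv_eq_iff_eq_mul.1 ?_
    rw [hn', show g⁻¹ * n * g * h.x * (g⁻¹ * n * g)⁻¹ = g⁻¹ * (n * (g * h.x * g⁻¹) * n⁻¹) * g by group, hgf,
      hfix, ← hgf]
    group
  have hn'E : n' ∈ normalizer (h.E : Set G) := mul_mem (mul_mem (inv_mem hg) hn) hg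
  obtain ⟨m, hm, hml⟩ := h.cent_x_model hn'x
  have hm2 : m.1 * m.1 = 1 := congrArg Subtype.val (h.inj (show h.φ (m * m) = h.φ 1 by
    rw [map_mul, hm, map_one, hn', show g⁻¹ * n * g * (g⁻¹ * n * g) = g⁻¹ * (n * n) * g by group, h2,
      mul_one, inv_mul_cancel]))
  have hm1 : m.1 ≠ 1 := fun e' => h1 (by
    have : n' = 1 := by rw [← hm, show m = 1 from Subtype.ext e', map_one]
    rw [show n = g * n' * g⁻¹ by rw [hn']; group, this, mul_one, mul_inv_cancel])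
  obtain ⟨c, l, hcl, hx', hc'⟩ := invol_fix m.1 hml hm2 hm1
    ((h.conj_mem_E_iff (a := inrK h.k ⟨wc, inK_wc h.k⟩)).1 (by
      rw [hm]; exact (mem_normalizer_iff.1 hn'E _).1 h.cyc_mem_E))
  set pm : Mk h.k := inlA h.k c * inrK h.k ⟨_, perm_inK h.k l⟩
  refine ⟨g * h.φ pm, mul_mem hg (h.mem_norm_E ((h.conj_mem_E_iff (m := pm) (a := inlA h.k xA)).2 hx')
    ((h.conj_mem_E_iff (m := pm) (a := inrK h.k ⟨wc, inK_wc h.k⟩)).2 hc')), ?_⟩
  have e' : h.φ pm * h.tau * (h.φ pm)⁻¹ = n' :=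
    (h.phi_conj (m := pm) (a := inrK h.k ⟨wt, inK_wt h.k⟩) (b := m) hcl).trans hm
  rw [show g * h.φ pm * h.tau * (g * h.φ pm)⁻¹ = g * (h.φ pm * h.tau * (h.φ pm)⁻¹) * g⁻¹ by group, e', hn']
  group

/-- The second kind. -/
theorem normal_of_two (F : h.Facts) (hk : h.k = .two) : h.J.Normal := by
  have h8 : h.k ≠ .eight := by rw [hk]; decide
  set z := h.q ⟨wi * wt, h.inK_wz hk⟩ with hz
  set ι := h.q ⟨wi, h.inK_wi hk⟩ with hι
  have hzn : ¬ IsConj h.tau z := h.zed_not_conj F hk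
  by_cases hιc : IsConj h.tau ι
  swap
  · refine h.normal_of_single F (by rw [hk]; decide) h8 fun n hn hc => ?_
    obtain ⟨g, hg⟩ := isConj_iff.1 hc
    have h2 : n * n = 1 := by
      rw [← hg, show g * h.tau * g⁻¹ * (g * h.tau * g⁻¹) = g * (h.tau * h.tau) * g⁻¹ by group, h.tau_sq,
        mul_one, mul_inv_cancel]
    have h1 : n ≠ 1 := fun e => h.tau_ne (conj_eq_one_iff.1 (hg.trans e))
    obtain ⟨r, hr, hrk, f, hf, e⟩ := h.invol_rep h8 hn h2 h1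
    have hcr : IsConj h.tau (h.q ⟨r, hr⟩) := hc.trans (isConj_iff.2 ⟨f⁻¹, by rw [e]; group⟩)
    rw [hk] at hrk
    simp only [reps, List.mem_cons, List.not_mem_nil, or_false] at hrk
    rcases hrk with rfl | rfl | rfl
    · exact ⟨f, hf, e.symm⟩
    · exact absurd hcr hιc
    · exact absurd hcr hzn
  -- the cycle is conjugate to the diagonal
  obtain ⟨g, hg⟩ := isConj_iff.1 hιc
  have hιcyc : ι * h.cyc = h.cyc * ι := mul_inv_eq_iff_eq_mul.1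
    (h.q_conj (a := ⟨wi, h.inK_wi hk⟩) (b := ⟨wc, inK_wc h.k⟩) (c := ⟨wc, inK_wc h.k⟩) two_facts.2.2.1)
  obtain ⟨v, hv⟩ := h.cube_cent_tau F h8 (y := g⁻¹ * h.cyc * g) (by
    calc g⁻¹ * h.cyc * g * h.tau = g⁻¹ * (h.cyc * (g * h.tau * g⁻¹)) * g := by group
      _ = g⁻¹ * (g * h.tau * g⁻¹ * h.cyc) * g := by rw [hg, hιcyc]
      _ = _ := by group) (by
    have := cube_conj (g := g⁻¹) h.cyc_cube
    rwa [inv_inv] at this)
  have hgv : g * h.j v * g⁻¹ = h.cyc := by rw [hv]; group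
  have hv1 : v ≠ 1 := fun e => h.cyc_notMem (by
    rw [← hgv, e, map_one, mul_one, mul_inv_cancel]; exact one_mem _)
  obtain ⟨w, hw, hwv⟩ := h.xLike_of_conj F h8 h.cyc_x h.cyc_notMem hv1 hgv
  have hgw : g * h.q ⟨w, hw⟩ * h.x * (g * h.q ⟨w, hw⟩)⁻¹ = h.cyc ∨
      g * h.q ⟨w, hw⟩ * h.x * (g * h.q ⟨w, hw⟩)⁻¹ = h.cyc⁻¹ := by
    rw [show g * h.q ⟨w, hw⟩ * h.x * (g * h.q ⟨w, hw⟩)⁻¹ =
      g * (h.q ⟨w, hw⟩ * h.x * (h.q ⟨w, hw⟩)⁻¹) * g⁻¹ by group, h.conj_j]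
    rcases hwv with e | e <;> rw [e]
    · exact Or.inl hgv
    · exact Or.inr (by rw [map_inv, ← conj_inv, hgv])
  obtain ⟨g0, hg0, hsw, -⟩ := h.line_swap hgw
  set H := normalizer (h.E : Set G) with hH
  have hιH : ι ∈ H := h.q_mem_norm_E ⟨wi, h.inK_wi hk⟩ (Or.inr two_facts.2.2.2.2.2.2.2.2.1) (Or.inl two_facts.2.2.1)
  have htr : ∀ f ∈ h.E, f ≠ 1 → ∃ g ∈ H, g * h.x * g⁻¹ = f := fun f hf hf1 =>
    h.trans_E hιH (by rw [hι, h.conj_j, two_facts.2.2.2.2.2.2.2.2.1, map_inv]) hg0 hsw hf hf1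
  have hzE : ∀ e ∈ h.E, IsConj z (e * z) := by
    rintro _ ⟨p, rfl⟩
    obtain ⟨p', hp'⟩ := zE_conj p
    exact isConj_iff.2 ⟨h.ee p', (h.phi_conj (m := h.eM p') (a := inrK h.k ⟨_, h.inK_wz hk⟩)
      (b := h.eM p * inrK h.k ⟨_, h.inK_wz hk⟩) hp').trans (map_mul _ _ _)⟩
  have hone : ∀ n ∈ H, IsConj h.tau n → ∃ f ∈ H, f * h.tau * f⁻¹ = n := by
    intro n hn hc
    obtain ⟨a, ha⟩ := isConj_iff.1 hc
    rcases h.invol_norm_E hk htr hn (by
      rw [← ha, show a * h.tau * a⁻¹ * (a * h.tau * a⁻¹) = a * (h.tau * h.tau) * a⁻¹ by group, h.tau_sq,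
        mul_one, mul_inv_cancel]) (fun e => h.tau_ne (conj_eq_one_iff.1 (ha.trans e))) with ⟨e, he, rfl⟩ | hf
    · exact absurd (hc.trans (hzE e he).symm) hzn
    · exact hf
  obtain ⟨-, hcard⟩ := F.tau_le (h.cent_local F h8 (by decide +kernel))
  have hodd := index_odd H h.tau_sq h.tau_norm_E hone (r := 3) (by decide) (by
    rw [h.card_norm_cent F hk, hcard, hk]; rfl)
  have hz2 : z * z = 1 := h.q_sq (u := ⟨wi * wt, h.inK_wz hk⟩) two_facts.2.2.2.2.2.2.1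
  have hz1 : z ≠ 1 := fun e => two_facts.2.2.2.2.2.2.2.1 (congrArg Subtype.val (h.q_inj (e.trans h.q.map_one.symm)))
  have hzc : z * h.cyc * z⁻¹ = h.cyc⁻¹ :=
    (h.q_conj (a := ⟨wi * wt, h.inK_wz hk⟩) (b := ⟨wc, inK_wc h.k⟩) (c := ⟨wc, inK_wc h.k⟩⁻¹)
      two_facts.2.2.2.1).trans (map_inv h.q _)
  have hzinv : ∀ e ∈ h.E, z * e * z⁻¹ = e⁻¹ := by
    rintro _ ⟨p, rfl⟩
    rw [eF_gen.2.2 p, map_mul, map_pow, map_pow, h.ee_x, h.ee_cyc, ← conj_mul, ← conj_pow, ← conj_pow, hzc,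
      show z * h.x * z⁻¹ = h.x⁻¹ by rw [hz, h.conj_j, two_facts.2.2.2.2.2.2.2.2.2.1, map_inv], inv_pow,
      inv_pow, mul_inv_rev]
    exact ((show Commute h.x h.cyc from h.cyc_x.symm).pow_pow _ _).inv_inv.eq
  haveI : Fact (Nat.Prime 2) := ⟨Nat.prime_two⟩
  refine h.finish_isolated F (isolated_of_odd_index hodd (orderOf_eq_prime ((pow_two z).trans hz2) hz1) ?_) ?_
  · intro a ha b hb hca hcb hab
    have inv : ∀ n ∈ H, IsConj z n → ∃ e ∈ h.E, e * z = n := fun n hn hc => by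
      obtain ⟨y, hy⟩ := isConj_iff.1 hc
      rcases h.invol_norm_E hk htr hn (by
        rw [← hy, show y * z * y⁻¹ * (y * z * y⁻¹) = y * (z * z) * y⁻¹ by group, hz2, mul_one, mul_inv_cancel])
        (fun e => hz1 (conj_eq_one_iff.1 (hy.trans e))) with he | ⟨f, -, hf⟩
      · exact he
      · exact absurd ((isConj_iff.2 ⟨f, hf⟩ : IsConj h.tau n).trans hc.symm) hzn
    obtain ⟨e, he, rfl⟩ := inv a ha hca
    obtain ⟨e', he', rfl⟩ := inv b hb hcb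
    have hzi : z⁻¹ = z := inv_eq_of_mul_eq_one_right hz2
    have hmul : ∀ a b : G, b ∈ h.E → a * z * (b * z) = a * b⁻¹ := fun a b hb => by
      rw [show a * z * (b * z) = a * (z * b * z) by group]
      conv_lhs => rw [show z * b * z = z * b * z⁻¹ by rw [hzi], hzinv b hb]
    have e1 := hab.eq
    rw [hmul _ _ he', hmul _ _ he] at e1
    set d := e * e'⁻¹
    have hd2 : d * d = 1 := by
      calc d * d = d * (e' * e⁻¹) := by rw [← e1]
        _ = e * e'⁻¹ * (e' * e⁻¹) := rfl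
        _ = 1 := by group
    have hd3 := h.E_cube (mul_mem he (inv_mem he'))
    rw [pow_succ, pow_two, hd2, one_mul] at hd3
    rw [mul_inv_eq_one.1 hd3]
  · intro e
    have : h.cyc⁻¹ = h.cyc := by rw [← hzc, e, mul_inv_cancel_right]
    have h2 : h.cyc * h.cyc = 1 := by nth_rw 1 [← this]; exact inv_mul_cancel _
    exact h.cyc_notMem (by
      have h3 := h.cyc_cube
      rw [pow_succ, pow_two, h2, one_mul] at h3
      rw [h3]; exact one_mem _)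

end Conf

end Cfsg.Agent.Sym9ThreeLocal
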