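import Cfsg.Agent.Sym9ThreeLocal.FactsProof
import Cfsg.Agent.Sym9ThreeLocal.EightLocal
import Cfsg.Agent.Sym9ThreeLocal.Assembly
import Cfsg.Agent.Sym9ThreeLocal.KindOne
import Cfsg.Agent.Sym9ThreeLocal.KindTwo
import Cfsg.Agent.Sym9ThreeLocal.KindFour
import Cfsg.Agent.Sym9ThreeLocal.BigIndex

/-!
# The two outcomes
-/

set_option autoImplicit false
set_option synthInstance.maxSize 4000
set_option synthInstance.maxHeartbeats 400000

namespace Cfsg.Agent.Sym9ThreeLocal

open Cfsg Cfsg.Agent Subgroup

universe u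

/-- The classification of the configurations. -/
theorem Conf.main {G : Type u} [Group G] [Finite G] (h : Conf G) :
    h.J.Normal ∨ Nonempty (G ≃* Equiv.Perm (Fin 9)) := by
  classical
  have F := h.facts
  cases hk : h.k with
  | one => exact Or.inl (h.normal_of_one F hk)
  | two => exact Or.inl (h.normal_of_two F hk)
  | four => exact Or.inl (h.normal_of_four F hk)
  | eight =>
    have hwf : inK h.k wf := hk ▸ trivial
    have hpar : ∀ u : W, parFun u = parityOf u := fun u => rfl
    by_cases he1 : centralizer ({h.j e1} : Set G) ≤ h.N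
    · obtain ⟨G0, hi, hG0⟩ := h.index_two_of_local hk he1
      exact h.of_parity hi hk (fun u => (hG0 u).trans (by rw [hpar])) hwf F.finish
    · obtain ⟨G0, hi, hwf0⟩ := h.index_two_of_big F hk he1
      obtain ⟨smul, s1, -, sinv, pmul, p1, pinv, swf, swt, swc, pwf, pwt, pwc, -⟩ := sum_facts
      by_cases ht : h.tau ∈ G0
      · have hG0 := h.mem_G0 hi hk sumOf smul s1 sinv swc swf hwf0 (iff_of_true ht swt)
        exact Or.inl (h.of_sum hi hk hG0 hwf fun h4 hk4 => h4.normal_of_four h4.facts hk4)
      · have hG0 := h.mem_G0 hi hk parityOf pmul p1 pinv pwc pwf hwf0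
          (iff_of_false ht (by rw [pwt]; exact one_ne_zero))
        exact h.of_parity hi hk hG0 hwf F.finish

end Cfsg.Agent.Sym9ThreeLocal
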