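import Cfsg.Agent.Sym9ThreeLocal.BigLink

/-!
# Classes of involutions in the large case
-/

set_option autoImplicit false
set_option synthInstance.maxSize 4000
set_option synthInstance.maxHeartbeats 400000

namespace Cfsg.Agent.Sym9ThreeLocal

open Subgroup

universe u

theorem cls_acts :
    (∀ q : W, act q e2 = e2 → act q e3 = e3 → q ^ 3 = 1 → q = 1) ∧
    (∀ q : W, q * wf = wf * q → q ^ 16 = 1) ∧
    (∀ a : A, act wf a = a → ∃ b c, a = vec 0 b c) ∧
    (∀ b c, act wf (vec 0 b c) = vec 0 b c) ∧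
    (∀ q : W, q * (wf3 * ww) = wf3 * ww * q → act q uA = uA → q ^ 3 = 1 → q = 1) ∧
    (∀ a : A, act (wf3 * ww) a = a → ∃ i : Fin 3, a = uA ^ (i : ℕ)) ∧
    (act wf e1 = e1⁻¹ ∧ act (wf3 * ww) uA = uA ∧ act ww xA = xA) ∧
    (∀ b c : ZMod 3, ∀ q : W, act q xA ≠ vec 0 b c) ∧
    (∀ b c, ¬ XLike .eight (vec 0 b c)) ∧
    (¬ EType .eight uA ∧ uA ≠ 1 ∧ e2 ≠ 1 ∧ (∀ i : Fin 3, e3 ≠ e2 ^ (i : ℕ))) ∧
    (wi * wc = wc * wi ∧ wc ^ 3 = 1 ∧ wc ≠ 1 ∧ wf * wf = 1) ∧
    (∀ x y z : ZMod 3, vec x y z = e1 ^ x.val * e2 ^ y.val * e3 ^ z.val) := by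
  decide +kernel

/-- A pair of coordinates. -/
def pr (p : ZMod 3 × ZMod 3) : A := vec 0 p.1 p.2

theorem pr_mul : ∀ p q : ZMod 3 × ZMod 3, pr (p + q) = pr p * pr q ∧ (pr p = pr q → p = q) := by decide +kernel

namespace Conf

variable {G : Type u} [Group G] [Finite G] (h : Conf G) (hk : h.k = .eight)

theorem split_emb {g : G} (hg : g ∈ h.N) : ∃ (a : A) (w : W), g = h.emb hk (ma a * mw w) ∧
    ∀ b, g * h.j b * g⁻¹ = h.j (act w b) := by
  obtain ⟨w, hw, c, rfl⟩ := h.exists_act hg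
  exact ⟨c, w, by rw [map_mul]; rfl, hw⟩

theorem emb_right_eq_one {a : A} {w : W} {n : ℕ} (hn : h.emb hk (ma a * mw w) ^ n = 1) : w ^ n = 1 := by
  rw [← map_pow, ← map_one (h.emb hk)] at hn
  have := congrArg SemidirectProduct.rightHom (h.emb_inj hk hn)
  rw [map_pow, map_mul, map_one] at this
  simpa using this

/-- Elements of order three centralising the flipped line are conjugate into the fixed part of the
elementary subgroup. -/
theorem three_cent_flip (F : h.Facts) {y : G} (hy : y ^ 3 = 1)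
    (hys : y * h.emb hk (mw wf) = h.emb hk (mw wf) * y) :
    ∃ c : G, c * h.emb hk (mw wf) = h.emb hk (mw wf) * c ∧ ∃ p, c * y * c⁻¹ = h.j (pr p) := by
  classical
  haveI : Fact (Nat.Prime 3) := ⟨Nat.prime_three⟩
  obtain ⟨k1, k2, k3, k4, -, -, ⟨k7, -, -⟩, -, -, ⟨-, -, k10, k11⟩, -, kv⟩ := cls_acts
  set s := h.emb hk (mw wf) with hs
  set C := centralizer ({s} : Set G) with hC
  let E : Subgroup G :=
    { carrier := {g | ∃ p, h.j (pr p) = g}
      one_mem' := ⟨0, by rw [show pr 0 = 1 from rfl, map_one]⟩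
      mul_mem' := by
        rintro _ _ ⟨p, rfl⟩ ⟨q, rfl⟩
        exact ⟨p + q, by rw [(pr_mul p q).1, map_mul]⟩
      inv_mem' := by
        rintro _ ⟨p, rfl⟩
        refine ⟨-p, eq_inv_of_mul_eq_one_left ?_⟩
        rw [← map_mul, ← (pr_mul _ _).1, neg_add_cancel, show pr 0 = 1 from rfl, map_one] }
  have hEC : E ≤ C := by
    rintro _ ⟨p, rfl⟩
    refine mem_centralizer_singleton_iff.2 ?_
    rw [eq_comm, ← mul_inv_eq_iff_eq_mul, hs, h.conj_w hk, pr, k4]
  have hE3 : IsPGroup 3 E := fun g => by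
    obtain ⟨p, hp⟩ := g.2
    exact ⟨1, Subtype.ext (by
      rw [SubmonoidClass.coe_pow, ← hp, pow_one]; exact h.J_cube _ (h.j_mem _))⟩
  obtain ⟨P, hP⟩ := (hE3.comap_subtype (K := C)).exists_le_sylow
  set PG := (P : Subgroup C).map C.subtype with hPG
  have hPC : PG ≤ C := map_subtype_le _
  have hEP : E ≤ PG := fun g hg => ⟨⟨g, hEC hg⟩, hP hg, rfl⟩
  have hPp : IsPGroup 3 PG := P.2.map _
  have hPE : PG ≤ E := by
    by_contra hne
    have hlt : E.subgroupOf PG < ⊤ := lt_top_iff_ne_top.2 fun e => hne (subgroupOf_eq_top.1 e)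
    haveI : Group.IsNilpotent PG := hPp.isNilpotent
    obtain ⟨g, hgN, hgE⟩ := SetLike.exists_of_lt (Group.normalizerCondition_of_isNilpotent _ hlt)
    have hnorm : ∀ z : G, z ∈ E → (g : G) * z * (g : G)⁻¹ ∈ E ∧ (g : G)⁻¹ * z * g ∈ E := fun z hz => by
      refine ⟨(mem_normalizer_iff.1 hgN ⟨z, hEP hz⟩).1 hz, ?_⟩
      have := (mem_normalizer_iff.1 (inv_mem hgN) ⟨z, hEP hz⟩).1 hz
      simpa [mem_subgroupOf, mul_assoc] using this
    have he2 : h.j e2 ∈ E := ⟨(1, 0), rfl⟩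
    have he3 : h.j e3 ∈ E := ⟨(0, 1), rfl⟩
    -- the conjugate of the first vector is in the elementary subgroup
    have hc : ∀ z : G, z ∈ E → Commute ((g : G) * h.j e1 * (g : G)⁻¹) z := fun z hz => by
      obtain ⟨q, hq⟩ := (hnorm z hz).2
      have h1 : Commute (h.j e1) ((g : G)⁻¹ * z * g) := hq ▸ h.j_comm e1 (pr q)
      have h2 := h1.conj (g : G)
      rwa [show (g : G) * ((g : G)⁻¹ * z * g) * (g : G)⁻¹ = z by group] at h2
    have h23 : e3 ∉ zpowers e2 := fun e => by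
      rcases A9ThreeLocal.zpowers_three_cases (A_cube e2) e with e' | e' | e'
      · exact k11 0 (by simpa using e')
      · exact k11 1 (by simpa using e')
      · exact k11 2 (e'.trans (by decide +kernel))
    have h1N : (g : G) * h.j e1 * (g : G)⁻¹ ∈ h.N := F.pair e2 e3 k10 h23
      ⟨mem_centralizer_singleton_iff.2 (hc _ he2), mem_centralizer_singleton_iff.2 (hc _ he3)⟩
    obtain ⟨a, w, hgw, hact⟩ := h.split_emb hk h1N
    have hw1 : w = 1 := k1 w (h.j_inj (by rw [← hact, (hc _ he2).eq, mul_inv_cancel_right]))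
      (h.j_inj (by rw [← hact, (hc _ he3).eq, mul_inv_cancel_right]))
      (h.emb_right_eq_one hk (by rw [← hgw, conj_pow, h.J_cube _ (h.j_mem _), mul_one, mul_inv_cancel]))
    rw [hw1, show mw (1 : W) = 1 from map_one _, mul_one] at hgw
    have hgN' : (g : G) ∈ h.N := h.mem_N_iff.2 fun v => by
      obtain ⟨p, hp⟩ := (hnorm _ he2).1
      obtain ⟨q, hq⟩ := (hnorm _ he3).1
      have : ∀ x y z : ZMod 3, (g : G) * h.j (vec x y z) * (g : G)⁻¹ =
          h.j (a ^ x.val * pr p ^ y.val * pr q ^ z.val) := fun x y z => by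
        rw [kv x y z]
        simp only [map_mul, map_pow, hp, hq, conj_pow]
        rw [← h.emb_a hk a, ← hgw, conj_pow]
        group
      have hv : v = vec v.toAdd.1 v.toAdd.2.1 v.toAdd.2.2 := rfl
      rw [hv]
      exact ⟨_, this _ _ _⟩
    obtain ⟨b, w', hg', hact'⟩ := h.split_emb hk hgN'
    have hcs : (g : G) * s = s * g := mem_centralizer_singleton_iff.1 (hPC g.2)
    have hm : ma b * mw w' * mw wf = mw wf * (ma b * mw w') :=
      h.emb_inj hk (by rw [map_mul, map_mul (h.emb hk) (mw wf), ← hg', ← hs, hcs])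
    have hwc : w' * wf = wf * w' := by
      have := congrArg SemidirectProduct.rightHom hm
      simpa using this
    obtain ⟨i, hi⟩ := hPp g
    have h3i : w' ^ 3 ^ i = 1 := h.emb_right_eq_one hk
      (by rw [← hg']; exact congrArg Subtype.val hi)
    have hw' : w' = 1 := orderOf_eq_one_iff.1 (Nat.eq_one_of_dvd_coprimes
      (Nat.Coprime.pow i 4 (by norm_num : Nat.Coprime 3 2))
      (orderOf_dvd_of_pow_eq_one h3i) (orderOf_dvd_of_pow_eq_one (k2 w' hwc)))
    rw [hw', show mw (1 : W) = 1 from map_one _, mul_one] at hg'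
    have hb : act wf b = b := h.j_inj (by
      rw [← h.conj_w hk, ← h.emb_a hk b, ← hg', ← hs, ← hcs, mul_inv_cancel_right])
    obtain ⟨b2, b3, hb'⟩ := k3 b hb
    exact hgE (mem_subgroupOf.2 ⟨(b2, b3), by rw [hg', h.emb_a hk, hb']; rfl⟩)
  have hyp : IsPGroup 3 (zpowers y) := by
    intro g
    obtain ⟨n, hn⟩ := mem_zpowers_iff.1 g.2
    exact ⟨1, Subtype.ext (by
      rw [SubmonoidClass.coe_pow, ← hn, pow_one, ← zpow_natCast, ← zpow_mul, mul_comm, zpow_mul, zpow_natCast, hy,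
        one_zpow, OneMemClass.coe_one])⟩
  obtain ⟨R, hR⟩ := (hyp.comap_subtype (K := C)).exists_le_sylow
  obtain ⟨c, hc⟩ := MulAction.exists_smul_eq C R P
  have hyC : y ∈ C := mem_centralizer_singleton_iff.2 hys
  have hm : c * ⟨y, hyC⟩ * c⁻¹ ∈ (P : Subgroup C) := by
    rw [← hc, Sylow.coe_subgroup_smul]; exact ⟨_, hR (mem_zpowers y), rfl⟩
  obtain ⟨p, hp⟩ := hPE ⟨_, hm, rfl⟩
  exact ⟨c, mem_centralizer_singleton_iff.1 c.2, p, hp.symm⟩

/-- An element of order three, almost self-centralising in the centraliser of an involution, keeps it out of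
the class of the flip. -/
theorem not_flip_of_small (F : h.Facts) {t v : G} (hv : v ^ 3 = 1) (hvt : v * t = t * v)
    (hsmall : ∀ y : G, y ^ 3 = 1 → y * t = t * y → y * v = v * y → ∃ i : Fin 3, y = v ^ (i : ℕ)) :
    ¬ IsConj (h.emb hk (mw wf)) t := by
  intro hconj
  obtain ⟨g, hg⟩ := isConj_iff.1 hconj
  obtain ⟨-, -, -, k4, -⟩ := cls_acts
  set s := h.emb hk (mw wf) with hs
  obtain ⟨c, hc, p, hp⟩ := h.three_cent_flip hk F (y := g⁻¹ * v * g) (by
      have := conj_pow (a := g⁻¹) (b := v) (i := 3)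
      rw [inv_inv, hv, mul_one, inv_mul_cancel] at this
      exact this)
    (by
      rw [← hg] at hvt
      calc g⁻¹ * v * g * s = g⁻¹ * (v * (g * s * g⁻¹)) * g := by group
        _ = s * (g⁻¹ * v * g) := by rw [hvt]; group)
  set r := g * c⁻¹ with hr
  have hrs : r * s * r⁻¹ = t := by
    rw [hr, ← hg, show g * c⁻¹ * s * (g * c⁻¹)⁻¹ = g * (c⁻¹ * (s * c)) * g⁻¹ by group, ← hc, hs]
    group
  have hrv : r * h.j (pr p) * r⁻¹ = v := by rw [← hp, hr]; group
  have key : ∀ q, ∃ i : Fin 3, r * h.j (pr q) * r⁻¹ = v ^ (i : ℕ) := fun q => by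
    refine hsmall _ (by rw [conj_pow, h.J_cube _ (h.j_mem _), mul_one, mul_inv_cancel]) ?_ ?_
    · rw [← hrs]
      have : Commute (h.j (pr q)) s := by
        show _ = _
        rw [eq_comm, ← mul_inv_eq_iff_eq_mul, hs, h.conj_w hk, pr, k4]
      exact (this.conj r).eq
    · rw [← hrv]
      exact ((show Commute (h.j (pr q)) (h.j (pr p)) from h.j_comm _ _).conj r).eq
  choose f hf using key
  have := Fintype.card_le_of_injective f fun a b e => (pr_mul a b).2 (h.j_inj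
    ((MulAut.conj r).injective (by simp only [MulAut.conj_apply]; rw [hf a, hf b, e])))
  simp at this

/-- An involution centralising a conjugate of the diagonal vector is not a flip. -/
theorem not_flip_swap (F : h.Facts) : ¬ IsConj (h.emb hk (mw wf)) (h.emb hk (mw ww)) := by
  intro hconj
  obtain ⟨g, hg⟩ := isConj_iff.1 hconj
  obtain ⟨-, -, -, -, -, -, ⟨-, -, k7⟩, k8, -⟩ := cls_acts
  have hx : h.x * h.emb hk (mw ww) = h.emb hk (mw ww) * h.x := by
    rw [eq_comm, ← mul_inv_eq_iff_eq_mul, h.conj_w hk, k7]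
  obtain ⟨c, -, p, hp⟩ := h.three_cent_flip hk F (y := g⁻¹ * h.x * g) (by
      have := conj_pow (a := g⁻¹) (b := h.x) (i := 3)
      rw [inv_inv, h.J_cube _ (h.j_mem _), mul_one, inv_mul_cancel] at this
      exact this)
    (by
      rw [← hg] at hx
      calc g⁻¹ * h.x * g * _ = g⁻¹ * (h.x * (g * h.emb hk (mw wf) * g⁻¹)) * g := by group
        _ = h.emb hk (mw wf) * (g⁻¹ * h.x * g) := by rw [hx]; group)
  obtain ⟨w, -, hw⟩ := h.ctrl (g := c * g⁻¹) (v := xA) (v' := pr p) xA_ne (by rw [← hp]; group)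
  exact k8 p.1 p.2 w hw

/-- The product of the three flips is not a flip. -/
theorem not_flip_full (F : h.Facts) : ¬ IsConj (h.emb hk (mw wf)) (h.emb hk (mw wi)) := by
  classical
  haveI : Fact (Nat.Prime 3) := ⟨Nat.prime_three⟩
  intro hconj
  obtain ⟨g, hg⟩ := isConj_iff.1 hconj
  obtain ⟨-, -, -, -, -, -, -, -, k9, -, ⟨kc, k3', kne, -⟩, -⟩ := cls_acts
  set y := h.emb hk (mw wc) with hy
  have hcomm : y * h.emb hk (mw wi) = h.emb hk (mw wi) * y := by
    rw [hy, ← map_mul (h.emb hk), ← map_mul (h.emb hk), ← map_mul SemidirectProduct.inr, ← map_mul SemidirectProduct.inr, kc]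
  obtain ⟨c, -, p, hp⟩ := h.three_cent_flip hk F (y := g⁻¹ * y * g) (by
      have := conj_pow (a := g⁻¹) (b := y) (i := 3)
      rw [inv_inv, show y ^ 3 = 1 by rw [hy, ← map_pow, ← map_pow, k3', map_one, map_one], mul_one,
        inv_mul_cancel] at this
      exact this)
    (by
      rw [← hg] at hcomm
      calc g⁻¹ * y * g * _ = g⁻¹ * (y * (g * h.emb hk (mw wf) * g⁻¹)) * g := by group
        _ = h.emb hk (mw wf) * (g⁻¹ * y * g) := by rw [hcomm]; group)
  set v := pr p with hv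
  set r := c * g⁻¹ with hr
  have hry : r * y * r⁻¹ = h.j v := by rw [← hp, hr]; group
  have hv1 : v ≠ 1 := fun e => by
    rw [e, map_one, conj_eq_one_iff] at hry
    have := congrArg SemidirectProduct.rightHom (h.emb_inj hk (hry.trans (map_one _).symm))
    exact kne (by simpa using this)
  have hvx : ¬ XLike h.k v := by rw [hk]; exact k9 p.1 p.2
  have hxy : h.x * y = y * h.x := by
    rw [eq_comm, ← mul_inv_eq_iff_eq_mul, hy, h.conj_w hk]
    exact congrArg h.j ((fix_xA wc).2 rfl)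
  set C := centralizer ({h.j v} : Set G) with hC
  have hxC : r * h.x * r⁻¹ ∈ C := by
    rw [hC, mem_centralizer_singleton_iff, ← hry]
    exact ((show Commute h.x y from hxy).conj r).eq
  have hJ3 : IsPGroup 3 h.J := IsPGroup.of_card (n := 3) (by rw [h.J_card]; norm_num)
  have hx3 : IsPGroup 3 (zpowers (r * h.x * r⁻¹)) := by
    intro g
    obtain ⟨n, hn⟩ := mem_zpowers_iff.1 g.2
    exact ⟨1, Subtype.ext (by
      rw [SubmonoidClass.coe_pow, ← hn, pow_one, ← zpow_natCast, ← zpow_mul, mul_comm, zpow_mul, zpow_natCast,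
        conj_pow, h.J_cube _ (h.j_mem _), mul_one, mul_inv_cancel, one_zpow, OneMemClass.coe_one])⟩
  obtain ⟨P, hP⟩ := (hJ3.comap_subtype (K := C)).exists_le_sylow
  obtain ⟨R, hR⟩ := (hx3.comap_subtype (K := C)).exists_le_sylow
  have hPJ := h.pgroup_eq_J hv1 hvx (P.2.map C.subtype) (fun z hz => ⟨⟨z, h.J_le_cent v hz⟩, hP hz, rfl⟩)
    (map_subtype_le _)
  obtain ⟨d, hd⟩ := MulAction.exists_smul_eq C R P
  have hm : d * ⟨_, hxC⟩ * d⁻¹ ∈ (P : Subgroup C) := by
    rw [← hd, Sylow.coe_subgroup_smul]; exact ⟨_, hR (mem_zpowers _), rfl⟩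
  obtain ⟨a, ha⟩ : (d : G) * (r * h.x * r⁻¹) * (d : G)⁻¹ ∈ h.J := hPJ ▸ ⟨_, hm, rfl⟩
  have hdy : ((d : G) * r) * y * ((d : G) * r)⁻¹ = h.j v := by
    rw [show (d : G) * r * y * ((d : G) * r)⁻¹ = (d : G) * (r * y * r⁻¹) * (d : G)⁻¹ by group, hry,
      mem_centralizer_singleton_iff.1 d.2, mul_inv_cancel_right]
  set R' := (d : G) * r with hR'
  have hR'x : R' * h.x * R'⁻¹ = h.j a := by rw [ha, hR']; group
  obtain ⟨w, -, hw⟩ := h.ctrl xA_ne hR'x
  set n := h.emb hk (mw w) with hn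
  have hN1 : n⁻¹ * R' ∈ h.N := h.mem_N_of_line (Or.inl (by
    calc n⁻¹ * R' * h.x * (n⁻¹ * R')⁻¹ = n⁻¹ * (R' * h.x * R'⁻¹) * n := by group
      _ = h.x := by rw [hR'x, ← hw, ← h.conj_w hk, ← hn]; group))
  have hRN : R'⁻¹ ∈ h.N := by
    refine inv_mem ?_
    have := mul_mem ((h.mem_N_emb hk).2 ⟨mw w, rfl⟩) hN1
    rwa [← hn, mul_inv_cancel_left] at this
  obtain ⟨-, w', -, hw'⟩ := h.split_emb hk hRN
  have e := hw' v
  rw [inv_inv, ← hdy, show R'⁻¹ * (R' * y * R'⁻¹) * R' = y by group, hy, ← h.emb_a hk] at e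
  have := congrArg SemidirectProduct.rightHom (h.emb_inj hk e)
  exact kne (by simpa using this)

/-- An involution centralising the vector with two entries is not a flip. -/
theorem not_flip_four (F : h.Facts) : ¬ IsConj (h.emb hk (mw wf)) (h.emb hk (mw (wf3 * ww))) := by
  obtain ⟨-, -, -, -, k5, k6, ⟨-, k7, -⟩, -, -, ⟨ku, kune, -, -⟩, -⟩ := cls_acts
  refine h.not_flip_of_small hk F (v := h.j uA) (h.J_cube _ (h.j_mem _)) ?_ fun y hy hyt hyv => ?_
  · rw [eq_comm, ← mul_inv_eq_iff_eq_mul, h.conj_w hk, k7]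
  have hyN : y ∈ h.N := F.loc uA kune (by rw [hk]; exact ku) (mem_centralizer_singleton_iff.2 hyv)
  obtain ⟨a, w, rfl, hact⟩ := h.split_emb hk hyN
  have hm : ma a * mw w * mw (wf3 * ww) = mw (wf3 * ww) * (ma a * mw w) :=
    h.emb_inj hk (by rw [map_mul, map_mul (h.emb hk) (mw (wf3 * ww)), hyt])
  have hwc : w * (wf3 * ww) = wf3 * ww * w := by
    have := congrArg SemidirectProduct.rightHom hm
    simpa using this
  have hw1 := k5 w hwc (h.j_inj (by rw [← hact, hyv, mul_inv_cancel_right])) (h.emb_right_eq_one hk hy)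
  rw [hw1, show mw (1 : W) = 1 from map_one _, mul_one, h.emb_a hk] at hyt ⊢
  obtain ⟨i, hi⟩ := k6 a (h.j_inj (by rw [← h.conj_w hk, ← hyt, mul_inv_cancel_right]))
  exact ⟨i, by rw [hi, map_pow]⟩

variable {h hk}

/-- The product of two flips is not a flip. -/
theorem Six.not_flip_double (S : h.Six hk) (F : h.Facts) :
    ¬ IsConj (h.emb hk (mw wf)) (h.emb hk (mw (wf * wf2))) := by
  have ht : h.emb hk (mw (wf * wf2)) = S.ψ (p0 * p1) := by
    rw [map_mul S.ψ, S.map_0, S.map_1, ← map_mul, ← map_mul SemidirectProduct.inr]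
  rw [ht]
  refine h.not_flip_of_small hk F (v := h.j e3) (h.J_cube _ (h.j_mem _)) (S.comm_e _).eq fun y hy hyt hyv => ?_
  obtain ⟨k, x, rfl⟩ := S.dec y hyv
  refine ⟨k, ?_⟩
  have hx3 : x ^ 3 = 1 := S.inj (by
    rw [map_pow, map_one, ← hy, ((S.comm_e x).pow_left (k : ℕ)).mul_pow, ← pow_mul, mul_comm (k : ℕ), pow_mul,
      h.J_cube _ (h.j_mem _), one_pow, one_mul])
  have hc : Commute (S.ψ x) (S.ψ (p0 * p1)) := by
    have h1 : Commute (h.j e3 ^ (k : ℕ) * S.ψ x) (S.ψ (p0 * p1)) := hyt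
    have h2 := ((S.comm_e (p0 * p1)).pow_left (k : ℕ)).inv_left.mul_left h1
    rwa [inv_mul_cancel_left] at h2
  rw [double_cent x hx3 (S.inj (by rw [map_mul S.ψ x, map_mul S.ψ (p0 * p1), hc.eq])), map_one, mul_one]

end Conf

end Cfsg.Agent.Sym9ThreeLocal
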