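import Cfsg.Agent.Sym9ThreeLocal.Model
import Mathlib.GroupTheory.Perm.Sign
import Mathlib.GroupTheory.Perm.Cycle.Type
import Mathlib.Data.Fin.VecNotation

/-!
# The symmetric group of degree six: an exceptional automorphism and finite facts
-/

set_option autoImplicit false
set_option synthInstance.maxSize 4000
set_option synthInstance.maxHeartbeats 400000

namespace Cfsg.Agent.Sym9ThreeLocal

open Equiv

/-- The symmetric group of degree six. -/
abbrev P6 : Type := Perm (Fin 6)

/-- The fifteen triple transpositions. -/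
def syn : Fin 15 → P6 :=
  ![swap 0 1 * swap 2 3 * swap 4 5,
    swap 0 1 * swap 2 4 * swap 3 5,
    swap 0 1 * swap 2 5 * swap 3 4,
    swap 0 2 * swap 1 3 * swap 4 5,
    swap 0 2 * swap 1 4 * swap 3 5,
    swap 0 2 * swap 1 5 * swap 3 4,
    swap 0 3 * swap 1 2 * swap 4 5,
    swap 0 3 * swap 1 4 * swap 2 5,
    swap 0 3 * swap 1 5 * swap 2 4,
    swap 0 4 * swap 1 2 * swap 3 5,
    swap 0 4 * swap 1 3 * swap 2 5,
    swap 0 4 * swap 1 5 * swap 2 3,
    swap 0 5 * swap 1 2 * swap 3 4,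
    swap 0 5 * swap 1 3 * swap 2 4,
    swap 0 5 * swap 1 4 * swap 2 3]

/-- The six systems of five triple transpositions without common transposition. -/
def tab : Fin 6 → Fin 5 → Fin 15 :=
  ![![0, 4, 8, 10, 12], ![0, 5, 7, 9, 13], ![1, 3, 7, 11, 12], ![1, 5, 6, 10, 14], ![2, 3, 8, 9, 14],
    ![2, 4, 6, 11, 13]]

theorem syn_inj : ∀ i j, syn i = syn j → i = j := by decide +kernel

theorem tab_inj : ∀ a k l, tab a k = tab a l → k = l := by decide +kernel

theorem tab_two : ∀ a b, a ≠ b → ∀ k l k' l', tab a k = tab b k' → tab a l = tab b l' → k = l := by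
  decide +kernel

/-- A permutation carries one system into another. -/
def Carries (σ : P6) (i j : Fin 6) : Prop := ∀ k, ∃ l, σ * syn (tab i k) * σ⁻¹ = syn (tab j l)

theorem carries_unique {σ : P6} {i j j' : Fin 6} (h : Carries σ i j) (h' : Carries σ i j') : j = j' := by
  by_contra hne
  obtain ⟨k, hk⟩ := h 0
  obtain ⟨l, hl⟩ := h 1
  obtain ⟨k', hk'⟩ := h' 0
  obtain ⟨l', hl'⟩ := h' 1
  have h1 := syn_inj _ _ (hk.symm.trans hk')
  have h2 := syn_inj _ _ (hl.symm.trans hl')
  have := tab_two j j' hne k l k' l' h1 h2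
  rw [this] at hk
  exact absurd (tab_inj _ _ _ (syn_inj _ _ (mul_left_cancel (mul_right_cancel (hk.trans hl.symm))))) (by decide)

theorem carries_mul {σ τ : P6} {i j l : Fin 6} (h : Carries τ i j) (h' : Carries σ j l) : Carries (σ * τ) i l := by
  intro k
  obtain ⟨a, ha⟩ := h k
  obtain ⟨b, hb⟩ := h' a
  exact ⟨b, by rw [← hb, ← ha]; simp [mul_assoc]⟩

theorem carries_one (i : Fin 6) : Carries 1 i i := fun k => ⟨k, by simp⟩

/-- The images of the adjacent transpositions. -/
def genImage : Fin 5 → Fin 6 → Fin 6 :=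
  ![![1, 0, 3, 2, 5, 4], ![2, 4, 0, 5, 1, 3], ![1, 0, 5, 4, 3, 2], ![2, 3, 0, 1, 5, 4], ![1, 0, 4, 5, 2, 3]]

theorem carries_gen : ∀ (g : Fin 5) (i : Fin 6) (k : Fin 5), ∃ l,
    swap g.castSucc g.succ * syn (tab i k) * (swap g.castSucc g.succ)⁻¹ = syn (tab (genImage g i) l) := by
  decide +kernel

theorem exists_carries (σ : P6) : ∀ i, ∃ j, Carries σ i j := by
  have hσ : σ ∈ Submonoid.closure (Set.range fun g : Fin 5 => swap g.castSucc g.succ) := by
    rw [Equiv.Perm.mclosure_swap_castSucc_succ]; exact Submonoid.mem_top _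
  induction hσ using Submonoid.closure_induction with
  | mem x hx =>
    obtain ⟨g, rfl⟩ := hx
    exact fun i => ⟨_, carries_gen g i⟩
  | one => exact fun i => ⟨i, carries_one i⟩
  | mul x y _ _ ihx ihy =>
    intro i
    obtain ⟨j, hj⟩ := ihy i
    obtain ⟨l, hl⟩ := ihx j
    exact ⟨l, carries_mul hj hl⟩

/-- The system to which a system is carried. -/
noncomputable def outFun (σ : P6) (i : Fin 6) : Fin 6 := Classical.choose (exists_carries σ i)

theorem outFun_spec (σ : P6) (i : Fin 6) : Carries σ i (outFun σ i) := Classical.choose_spec (exists_carries σ i)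

theorem outFun_eq {σ : P6} {i j : Fin 6} (h : Carries σ i j) : outFun σ i = j := carries_unique (outFun_spec σ i) h

theorem outFun_mul (σ τ : P6) (i : Fin 6) : outFun (σ * τ) i = outFun σ (outFun τ i) :=
  outFun_eq (carries_mul (outFun_spec τ i) (outFun_spec σ _))

theorem outFun_one (i : Fin 6) : outFun 1 i = i := outFun_eq (carries_one i)

/-- An exceptional automorphism of the symmetric group of degree six. -/
noncomputable def outer : P6 →* P6 where
  toFun σ :=
    { toFun := outFun σ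
      invFun := outFun σ⁻¹
      left_inv := fun i => by rw [← outFun_mul, inv_mul_cancel, outFun_one]
      right_inv := fun i => by rw [← outFun_mul, mul_inv_cancel, outFun_one] }
  map_one' := Equiv.ext outFun_one
  map_mul' σ τ := Equiv.ext (outFun_mul σ τ)

theorem syn_cover : ∀ s, ∃ a b k l, a ≠ b ∧ tab a k = s ∧ tab b l = s := by decide +kernel

theorem tab_meet : ∀ a b, a ≠ b → ∀ k l k' l', tab a k = tab b l → tab a k' = tab b l' → tab a k = tab a k' := by
  decide +kernel

theorem syn_cent : ∀ σ : P6, (∀ s, σ * syn s = syn s * σ) → σ = 1 := by decide +kernel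

theorem outer_inj : Function.Injective outer := by
  refine (injective_iff_map_eq_one outer).2 fun σ hσ => syn_cent σ fun s => ?_
  obtain ⟨a, b, k, l, hab, ha, hb⟩ := syn_cover s
  have hc : ∀ i, Carries σ i i := fun i => by
    have e : outFun σ i = i := Equiv.ext_iff.1 hσ i
    have := outFun_spec σ i
    rwa [e] at this
  obtain ⟨k', hk'⟩ := hc a k
  obtain ⟨l', hl'⟩ := hc b l
  rw [ha] at hk'
  rw [hb] at hl'
  have h1 : tab a k' = tab b l' := syn_inj _ _ (hk'.symm.trans hl')
  have h2 := tab_meet a b hab k l k' l' (ha.trans hb.symm) h1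
  rw [← h2, ha] at hk'
  exact mul_inv_eq_iff_eq_mul.1 hk'

/-- The cycle of the first block. -/
def pa : P6 := swap 0 1 * swap 1 2
/-- The cycle of the second block. -/
def pb : P6 := swap 3 4 * swap 4 5
/-- The flip of the first block. -/
def p0 : P6 := swap 1 2
/-- The flip of the second block. -/
def p1 : P6 := swap 4 5
/-- The exchange of the blocks. -/
def pw : P6 := swap 0 3 * swap 1 4 * swap 2 5
/-- The third transposition. -/
def p3 : P6 := swap 0 3
/-- The product of the last two transpositions. -/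
def pz : P6 := p1 * p3
/-- An element exchanging the last two transpositions. -/
def pv : P6 := swap 0 4 * swap 3 5
/-- An element carrying the product of the two cycles to a cycle of the three transpositions. -/
def pg : P6 := swap 0 1 * swap 1 4 * swap 4 5 * swap 5 3 * swap 3 2
/-- An element of order three permuting the three transpositions. -/
def pd : P6 := pg * (pa * pb) * pg⁻¹
/-- A transposition joining the two blocks. -/
def pt : P6 := swap 2 3
/-- The exchange of the blocks fixing the connecting transposition. -/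
def ps : P6 := swap 0 5 * swap 1 4 * swap 2 3

theorem carries_pw : ∀ i k, ∃ l, pw * syn (tab i k) * pw⁻¹ = syn (tab (p0 i) l) := by decide +kernel

theorem outer_pw : outer pw = p0 := Equiv.ext fun i => outFun_eq (carries_pw i)

theorem double_cent : ∀ B : P6, B ^ 3 = 1 → B * (p0 * p1) = p0 * p1 * B → B = 1 := by decide +kernel

theorem match_first : ∀ A : P6, A ^ 3 = 1 → A ≠ 1 → p0 * A * p0 = A⁻¹ → ∃ k : Fin 6, ∃ e : Fin 2,
    swap 0 k * p0 ^ (e : ℕ) * p0 = p0 * (swap 0 k * p0 ^ (e : ℕ)) ∧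
      swap 0 k * p0 ^ (e : ℕ) * A * (swap 0 k * p0 ^ (e : ℕ))⁻¹ = pa := by
  decide +kernel

theorem match_second : ∀ B : P6, B ^ 3 = 1 → B ≠ 1 → B * p0 = p0 * B → pa * B = B * pa → B = pb ∨ B = pb⁻¹ := by
  decide +kernel

theorem match_flip : ∀ Q : P6, Q * Q = 1 → Q * pa = pa * Q → Q * p0 = p0 * Q → Q * pb * Q = pb⁻¹ →
    ∃ j : Fin 3, pb ^ (j : ℕ) * Q * (pb ^ (j : ℕ))⁻¹ = p1 := by
  decide +kernel

theorem match_swap : ∀ O : P6, O * O = 1 → O * pa * O = pb → O * p0 * O = p1 → O = pw := by decide +kernel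

theorem rels : p0 * p0 = 1 ∧ p1 * p1 = 1 ∧ pa ^ 3 = 1 ∧ pb ^ 3 = 1 ∧ p1 * pa = pa * p1 ∧ p1 * p0 = p0 * p1 ∧
    p1 * pb * p1⁻¹ = pb⁻¹ ∧ pb * pa = pa * pb ∧ pb * p0 = p0 * pb := by
  decide +kernel

theorem pt_unique : ∀ t : P6, t * t = 1 → t * p1 = p1 * t → t * (pa⁻¹ * p0 * pa) = pa⁻¹ * p0 * pa * t →
    t * ps = ps * t → (t * pa) ^ 4 = 1 → (t * pa) ^ 2 ≠ 1 → t = pt := by
  decide +kernel

theorem pt_facts : pt * pt = 1 ∧ pt * p1 = p1 * pt ∧ pt * (pa⁻¹ * p0 * pa) = pa⁻¹ * p0 * pa * pt ∧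
    pt * ps = ps * pt ∧ (pt * pa) ^ 4 = 1 ∧ (pt * pa) ^ 2 ≠ 1 ∧
    ps = pb ^ 2 * p1 * pa ^ 2 * p0 * pw := by
  decide +kernel

theorem adjacent_swaps : ∀ i : Fin 5,
    swap i.castSucc i.succ = ![pa⁻¹ * p0 * pa, p0, pt, pb⁻¹ * p1 * pb, p1] i := by
  decide +kernel

end Cfsg.Agent.Sym9ThreeLocal
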