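import Cfsg.Agent.Sym9ThreeLocal.Interface
import Cfsg.Agent.Sym9ThreeLocal.BigModel
import Mathlib.GroupTheory.Transfer

/-!
# The complement of the third line in the large case
-/

set_option autoImplicit false
set_option synthInstance.maxSize 4000
set_option synthInstance.maxHeartbeats 400000

namespace Cfsg.Agent.Sym9ThreeLocal

open Equiv Subgroup

universe u

/-- The flip of the second block. -/
def wf2 : W := wq 0 1 0 (.r 0)
/-- The flip of the third block. -/
def wf3 : W := wq 0 0 1 (.r 0)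
/-- The exchange of the first two blocks. -/
def ww : W := wq 0 0 0 (.sr 2)
/-- A cycle carrying the first block to the third. -/
def wr : W := wq 0 0 0 (.r 2)

/-- A vector in the model. -/
abbrev ma (a : A) : Mf := SemidirectProduct.inl a
/-- An element of the monomial group in the model. -/
abbrev mw (w : W) : Mf := SemidirectProduct.inr w

theorem act_wr : act wr e1 = e3 := by decide +kernel

theorem link_model :
    (ma e1 * ma e3 = ma e3 * ma e1 ∧ ma e2 * ma e3 = ma e3 * ma e2 ∧ mw wf * ma e3 = ma e3 * mw wf ∧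
      mw wf2 * ma e3 = ma e3 * mw wf2 ∧ mw ww * ma e3 = ma e3 * mw ww) ∧
    (ma e1 * ma e2 = ma e2 * ma e1 ∧ mw wf * ma e1 * mw wf = (ma e1)⁻¹ ∧ mw wf * ma e2 = ma e2 * mw wf ∧
      mw wf * mw wf = 1 ∧ mw wf2 * mw wf2 = 1 ∧ mw wf2 * ma e1 = ma e1 * mw wf2 ∧
      mw wf2 * ma e2 * mw wf2 = (ma e2)⁻¹ ∧ mw wf2 * mw wf = mw wf * mw wf2 ∧ mw ww * mw ww = 1 ∧
      mw ww * ma e1 * mw ww = ma e2 ∧ mw ww * mw wf * mw ww = mw wf2) ∧
    (mw wf3 * mw wf3 = 1 ∧ mw wf3 * ma e3 * mw wf3 = (ma e3)⁻¹ ∧ mw wf3 * ma e1 = ma e1 * mw wf3 ∧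
      mw wf3 * ma e2 = ma e2 * mw wf3 ∧ mw wf3 * mw wf = mw wf * mw wf3 ∧ mw wf3 * mw wf2 = mw wf2 * mw wf3 ∧
      mw wf3 * mw ww = mw ww * mw wf3) ∧
    ∀ i : Fin 3, ma e1 ≠ ma e3 ^ (i : ℕ) ∧ ma e2 ≠ ma e3 ^ (i : ℕ) ∧ mw wf ≠ ma e3 ^ (i : ℕ) := by
  decide +kernel

theorem z3_fill : ∀ a b : Multiplicative (ZMod 3), a ≠ 1 → ∃ i : Fin 3, a ^ (i : ℕ) * b = 1 := by decide

theorem z3_zero : ∀ a : Multiplicative (ZMod 3), a ≠ 1 → ∀ i : Fin 3, a ^ (i : ℕ) = 1 → i = 0 := by decide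

theorem z3_sq : ∀ a : Multiplicative (ZMod 3), a * a = 1 → a = 1 := by decide

/-- Two involutions of the symmetric group moving as many points are conjugate. -/
theorem isConj_of_support {P Q : P6} (hP : P * P = 1) (hQ : Q * Q = 1) (hP1 : P ≠ 1) (hQ1 : Q ≠ 1)
    (h : P.support.card = Q.support.card) : IsConj P Q := by
  haveI : Fact (Nat.Prime 2) := ⟨Nat.prime_two⟩
  have oP : orderOf P = 2 := orderOf_eq_prime (by rw [pow_two, hP]) hP1
  have oQ : orderOf Q = 2 := orderOf_eq_prime (by rw [pow_two, hQ]) hQ1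
  obtain ⟨m, hm⟩ := Perm.cycleType_prime_order (by rw [oP]; exact Nat.prime_two)
  obtain ⟨n, hn⟩ := Perm.cycleType_prime_order (by rw [oQ]; exact Nat.prime_two)
  rw [oP] at hm
  rw [oQ] at hn
  rw [Perm.isConj_iff_cycleType_eq, hm, hn]
  have e1 := Perm.sum_cycleType P
  have e2 := Perm.sum_cycleType Q
  rw [hm, Multiset.sum_replicate, smul_eq_mul] at e1
  rw [hn, Multiset.sum_replicate, smul_eq_mul] at e2
  rw [show m = n by omega]

theorem rep_facts : (p0 * p0 = 1 ∧ p0 ≠ 1 ∧ p0.support.card = 2) ∧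
    ((p0 * p1) * (p0 * p1) = 1 ∧ p0 * p1 ≠ 1 ∧ (p0 * p1).support.card = 4) ∧
    (pw * pw = 1 ∧ pw ≠ 1 ∧ pw.support.card = 6) := by
  decide +kernel

/-- An involution is conjugate to one of three. -/
theorem invol_cases {P : P6} (hP : P * P = 1) (hP1 : P ≠ 1) :
    IsConj P p0 ∨ IsConj P (p0 * p1) ∨ IsConj P pw := by
  obtain ⟨⟨a1, a2, a3⟩, ⟨b1, b2, b3⟩, ⟨c1, c2, c3⟩⟩ := rep_facts
  haveI : Fact (Nat.Prime 2) := ⟨Nat.prime_two⟩
  have oP : orderOf P = 2 := orderOf_eq_prime (by rw [pow_two, hP]) hP1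
  obtain ⟨m, hm⟩ := Perm.cycleType_prime_order (by rw [oP]; exact Nat.prime_two)
  have e1 := Perm.sum_cycleType P
  rw [hm, Multiset.sum_replicate, smul_eq_mul, oP] at e1
  have h6 : P.support.card ≤ 6 := by
    have := P.support.card_le_univ
    rwa [Fintype.card_fin] at this
  rcases (show m = 0 ∨ m = 1 ∨ m = 2 by omega) with rfl | rfl | rfl
  · exact Or.inl (isConj_of_support hP a1 hP1 a2 (by omega))
  · exact Or.inr (Or.inl (isConj_of_support hP b1 hP1 b2 (by omega)))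
  · exact Or.inr (Or.inr (isConj_of_support hP c1 hP1 c2 (by omega)))

/-- An automorphism carrying the given configuration to the standard one. -/
theorem exists_match {A B P Q O : P6} (hA : A ^ 3 = 1) (hA1 : A ≠ 1) (hB : B ^ 3 = 1) (hB1 : B ≠ 1)
    (hP : P * P = 1) (hP1 : P ≠ 1) (hAB : A * B = B * A) (hPA : P * A * P = A⁻¹) (hPB : B * P = P * B)
    (hQ : Q * Q = 1) (hQA : Q * A = A * Q) (hQP : Q * P = P * Q) (hQB : Q * B * Q = B⁻¹)
    (hO : O * O = 1) (hOA : O * A * O = B) (hOP : O * P * O = Q) :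
    ∃ θ : P6 →* P6, Function.Bijective θ ∧ θ A = pa ∧ θ B = pb ∧ θ P = p0 ∧ θ Q = p1 ∧ θ O = pw := by
  obtain ⟨θ₁, h₁, hθ₁⟩ : ∃ θ : P6 →* P6, Function.Injective θ ∧ θ P = p0 := by
    rcases invol_cases hP hP1 with hc | hc | hc <;> obtain ⟨σ, hσ⟩ := isConj_iff.1 hc
    · exact ⟨(MulAut.conj σ).toMonoidHom, (MulAut.conj σ).injective, hσ⟩
    · exfalso
      refine hB1 ((MulAut.conj σ).injective ((double_cent _ ?_ ?_).trans (map_one _).symm))
      · rw [← map_pow, hB, map_one]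
      · rw [← hσ, ← MulAut.conj_apply σ P, ← map_mul, ← map_mul, hPB]
    · exact ⟨outer.comp (MulAut.conj σ).toMonoidHom, outer_inj.comp (MulAut.conj σ).injective, by
        show outer (σ * P * σ⁻¹) = p0
        rw [hσ, outer_pw]⟩
  obtain ⟨r0, r1, ra, rb, rqa, rq0, rqb, rba, rb0⟩ := rels
  have hne : ∀ {θ : P6 →* P6}, Function.Injective θ → ∀ {x : P6}, x ≠ 1 → θ x ≠ 1 :=
    fun hθ x hx e => hx (hθ (e.trans (map_one _).symm))
  obtain ⟨θ₂, h₂, a₂, c₂⟩ : ∃ θ : P6 →* P6, Function.Injective θ ∧ θ A = pa ∧ θ P = p0 := by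
    obtain ⟨k, e, hk, hka⟩ := match_first (θ₁ A) (by rw [← map_pow, hA, map_one]) (hne h₁ hA1)
      (by rw [← hθ₁, ← map_mul, ← map_mul, hPA, map_inv])
    set σ := swap 0 k * p0 ^ (e : ℕ)
    exact ⟨(MulAut.conj σ).toMonoidHom.comp θ₁, (MulAut.conj σ).injective.comp h₁, hka, by
      show σ * θ₁ P * σ⁻¹ = p0
      rw [hθ₁, hk, mul_inv_cancel_right]⟩
  obtain ⟨θ₃, h₃, a₃, b₃, c₃⟩ : ∃ θ : P6 →* P6, Function.Injective θ ∧ θ A = pa ∧ θ B = pb ∧ θ P = p0 := by
    rcases match_second (θ₂ B) (by rw [← map_pow, hB, map_one]) (hne h₂ hB1)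
      (by rw [← c₂, ← map_mul, ← map_mul, hPB]) (by rw [← a₂, ← map_mul, ← map_mul, hAB]) with e | e
    · exact ⟨θ₂, h₂, a₂, e, c₂⟩
    · refine ⟨(MulAut.conj p1).toMonoidHom.comp θ₂, (MulAut.conj p1).injective.comp h₂, ?_, ?_, ?_⟩
      · show p1 * θ₂ A * p1⁻¹ = pa
        rw [a₂, rqa, mul_inv_cancel_right]
      · show p1 * θ₂ B * p1⁻¹ = pb
        rw [e, ← conj_inv, rqb, inv_inv]
      · show p1 * θ₂ P * p1⁻¹ = p0
        rw [c₂, rq0, mul_inv_cancel_right]
  obtain ⟨j, hj⟩ := match_flip (θ₃ Q) (by rw [← map_mul, hQ, map_one])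
    (by rw [← a₃, ← map_mul, ← map_mul, hQA]) (by rw [← c₃, ← map_mul, ← map_mul, hQP])
    (by rw [← b₃, ← map_mul, ← map_mul, hQB, map_inv])
  set σ := pb ^ (j : ℕ)
  let θ := (MulAut.conj σ).toMonoidHom.comp θ₃
  have hθ : Function.Injective θ := (MulAut.conj σ).injective.comp h₃
  have ha : θ A = pa := by
    show σ * θ₃ A * σ⁻¹ = pa
    rw [a₃, ((show Commute pb pa from rba).pow_left (j : ℕ)).eq, mul_inv_cancel_right]
  have hb : θ B = pb := by
    show σ * θ₃ B * σ⁻¹ = pb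
    rw [b₃, ((Commute.refl pb).pow_left (j : ℕ)).eq, mul_inv_cancel_right]
  have hc : θ P = p0 := by
    show σ * θ₃ P * σ⁻¹ = p0
    rw [c₃, ((show Commute pb p0 from rb0).pow_left (j : ℕ)).eq, mul_inv_cancel_right]
  have hd : θ Q = p1 := hj
  refine ⟨θ, Finite.injective_iff_bijective.1 hθ, ha, hb, hc, hd, match_swap _ ?_ ?_ ?_⟩
  · rw [← map_mul, hO, map_one]
  · rw [← ha, ← map_mul, ← map_mul, hOA, hb]
  · rw [← hc, ← map_mul, ← map_mul, hOP, hd]

namespace Conf

variable {G : Type u} [Group G] (h : Conf G)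

/-- The embedding of the whole model in the largest case. -/
def emb (hk : h.k = .eight) : Mf →* G :=
  h.φ.comp ((MonoidHom.id Mf).codRestrict (Mk h.k) fun m => by
    rw [mem_Mk, hk]; trivial)

variable (hk : h.k = .eight)

theorem emb_inj : Function.Injective (h.emb hk) := fun _ _ e => congrArg Subtype.val (h.inj e)

theorem emb_a (a : A) : h.emb hk (ma a) = h.j a := rfl

theorem emb_q (w : W) (hw : inK h.k w) : h.emb hk (mw w) = h.q ⟨w, hw⟩ := rfl

theorem mem_N_emb {g : G} : g ∈ h.N ↔ ∃ m, h.emb hk m = g :=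
  ⟨fun ⟨m, hm⟩ => ⟨m.1, hm⟩, fun ⟨m, hm⟩ => ⟨⟨m, by rw [mem_Mk, hk]; trivial⟩, hm⟩⟩

theorem conj_w (w : W) (a : A) :
    h.emb hk (mw w) * h.j a * (h.emb hk (mw w))⁻¹ = h.j (act w a) := h.conj_j ⟨w, by rw [hk]; trivial⟩ a

/-- The complement of the third line in its centraliser, with the standard labelling. -/
structure Six where
  /-- The complement. -/
  ψ : P6 →* G
  inj : Function.Injective ψ
  map_a : ψ pa = h.j e1
  map_b : ψ pb = h.j e2
  map_0 : ψ p0 = h.emb hk (mw wf)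
  map_1 : ψ p1 = h.emb hk (mw wf2)
  map_w : ψ pw = h.emb hk (mw ww)
  comm_e : ∀ x, Commute (h.j e3) (ψ x)
  comm_f : ∀ x, Commute (h.emb hk (mw wf3)) (ψ x)
  dec : ∀ g : G, g * h.j e3 = h.j e3 * g → ∃ k : Fin 3, ∃ x, g = h.j e3 ^ (k : ℕ) * ψ x

variable [Finite G]

set_option maxHeartbeats 1000000 in
theorem exists_six (F : h.Facts) (hb : ¬ centralizer ({h.j e1} : Set G) ≤ h.N) : Nonempty (h.Six hk) := by
  classical
  obtain ⟨π, hπ, hker⟩ := F.big hk hb
  obtain ⟨⟨c1, c2, c3, c4, c5⟩, ⟨m1, m2, m3, m4, m5, m6, m7, m8, m9, m10, m11⟩,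
    ⟨f1, f2, f3, f4, f5, f6, f7⟩, hnot⟩ := link_model
  set C := centralizer ({h.j e3} : Set G) with hC
  have hcube : h.j e3 ^ 3 = 1 := h.J_cube _ (h.j_mem _)
  have memC : ∀ m : Mf, m * ma e3 = ma e3 * m → h.emb hk m ∈ C := fun m hm =>
    mem_centralizer_singleton_iff.2 (by rw [← h.emb_a hk, ← map_mul, ← map_mul, hm])
  let eC : C := ⟨h.j e3, mem_centralizer_singleton_iff.2 rfl⟩
  have cen : ∀ g : C, Commute g eC := fun g => Subtype.ext (mem_centralizer_singleton_iff.1 g.2)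
  -- transport to the centraliser of the third line
  set c := h.emb hk (mw wr) with hcdef
  have hcr : c * h.j e1 * c⁻¹ = h.j e3 := by rw [hcdef, h.conj_w hk, act_wr]
  have hmem : ∀ g : C, c⁻¹ * (g : G) * c ∈ centralizer ({h.j e1} : Set G) := fun g => by
    have := mem_centralizer_singleton_iff.1 g.2
    rw [← hcr] at this
    refine mem_centralizer_singleton_iff.2 ?_
    calc c⁻¹ * (g : G) * c * h.j e1 = c⁻¹ * ((g : G) * (c * h.j e1 * c⁻¹)) * c := by group
      _ = h.j e1 * (c⁻¹ * (g : G) * c) := by rw [this]; group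
  let τ : C →* centralizer ({h.j e1} : Set G) :=
    MonoidHom.mk' (fun g => ⟨_, hmem g⟩) fun x y => Subtype.ext (by simp [mul_assoc])
  have hsurj : Function.Surjective (π.comp τ) := by
    refine hπ.comp fun y => ?_
    refine ⟨⟨c * (y : G) * c⁻¹, mem_centralizer_singleton_iff.2 ?_⟩, Subtype.ext ?_⟩
    · have := mem_centralizer_singleton_iff.1 y.2
      rw [← hcr]
      calc c * (y : G) * c⁻¹ * (c * h.j e1 * c⁻¹) = c * ((y : G) * h.j e1) * c⁻¹ := by group
        _ = c * h.j e1 * c⁻¹ * (c * (y : G) * c⁻¹) := by rw [this]; group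
    · show c⁻¹ * (c * (y : G) * c⁻¹) * c = y
      group
  have hker' : ∀ g : C, π (τ g) = 1 ↔ ∃ i : Fin 3, (g : G) = h.j e3 ^ (i : ℕ) := by
    intro g
    rw [hker]
    constructor
    · intro hg
      rcases A9ThreeLocal.zpowers_three_cases (h.J_cube _ (h.j_mem e1)) hg with e | e | e
      all_goals have e' : (g : G) = c * (c⁻¹ * (g : G) * c) * c⁻¹ := by group
      all_goals rw [show ((τ g : G)) = c⁻¹ * (g : G) * c from rfl] at e
      all_goals rw [e] at e'
      · exact ⟨0, by rw [e']; simp⟩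
      · exact ⟨1, by rw [e', hcr]; simp⟩
      · refine ⟨2, ?_⟩
        rw [e', ← conj_inv, hcr]
        exact (eq_inv_of_mul_eq_one_left (by rw [← pow_succ]; exact hcube)).symm
    · rintro ⟨i, hi⟩
      refine mem_zpowers_iff.2 ⟨(i : ℕ), ?_⟩
      rw [zpow_natCast]
      show h.j e1 ^ (i : ℕ) = c⁻¹ * (g : G) * c
      rw [hi, ← hcr, conj_pow]
      group
  -- the images of the known elements
  let el : (m : Mf) → m * ma e3 = ma e3 * m → C := fun m hm => ⟨h.emb hk m, memC m hm⟩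
  set gA := el _ c1
  set gB := el _ c2
  set gP := el _ c3
  set gQ := el _ c4
  set gO := el _ c5
  have EQ : ∀ {x y : C}, (x : G) = y → π (τ x) = π (τ y) := fun e => by rw [Subtype.ext e]
  have hne : ∀ (m : Mf) (hm : m * ma e3 = ma e3 * m), (∀ i : Fin 3, m ≠ ma e3 ^ (i : ℕ)) →
      π (τ (el m hm)) ≠ 1 := fun m hm hn e => by
    obtain ⟨i, hi⟩ := (hker' _).1 e
    exact hn i (h.emb_inj hk (hi.trans (by rw [map_pow, h.emb_a hk])))
  have rel : ∀ {x y : C}, (x : G) = y → (π.comp τ) x = (π.comp τ) y := fun e => EQ e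
  obtain ⟨θ, hθ, hA', hB', hP', hQ', hO'⟩ := exists_match (A := π.comp τ gA) (B := π.comp τ gB)
    (P := π.comp τ gP) (Q := π.comp τ gQ) (O := π.comp τ gO)
    (by rw [← map_pow, ← map_one (π.comp τ)]; exact rel (h.J_cube _ (h.j_mem e1)))
    (hne (ma e1) c1 fun i => (hnot i).1)
    (by rw [← map_pow, ← map_one (π.comp τ)]; exact rel (h.J_cube _ (h.j_mem e2)))
    (hne (ma e2) c2 fun i => (hnot i).2.1)
    (by rw [← map_mul, ← map_one (π.comp τ)]; refine rel ?_; exact (map_mul (h.emb hk) _ _).symm.trans (by rw [m4, map_one]; rfl))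
    (hne (mw wf) c3 fun i => (hnot i).2.2)
    (by rw [← map_mul, ← map_mul]; exact rel (((map_mul (h.emb hk) _ _).symm.trans (congrArg _ m1)).trans (map_mul _ _ _)))
    (by rw [← map_inv, ← map_mul, ← map_mul]; refine rel ?_; show h.emb hk _ * h.emb hk _ * h.emb hk _ = (h.emb hk _)⁻¹; rw [← map_mul, ← map_mul, ← map_inv, m2])
    (by rw [← map_mul, ← map_mul]; refine rel ?_; show h.emb hk _ * h.emb hk _ = h.emb hk _ * h.emb hk _; rw [← map_mul (h.emb hk), ← map_mul (h.emb hk), m3])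
    (by rw [← map_mul, ← map_one (π.comp τ)]; refine rel ?_; exact (map_mul (h.emb hk) _ _).symm.trans (by rw [m5, map_one]; rfl))
    (by rw [← map_mul, ← map_mul]; refine rel ?_; show h.emb hk _ * h.emb hk _ = h.emb hk _ * h.emb hk _; rw [← map_mul (h.emb hk), ← map_mul (h.emb hk), m6])
    (by rw [← map_mul, ← map_mul]; refine rel ?_; show h.emb hk _ * h.emb hk _ = h.emb hk _ * h.emb hk _; rw [← map_mul (h.emb hk), ← map_mul (h.emb hk), m8])
    (by rw [← map_inv, ← map_mul, ← map_mul]; refine rel ?_; show h.emb hk _ * h.emb hk _ * h.emb hk _ = (h.emb hk _)⁻¹; rw [← map_mul, ← map_mul, ← map_inv, m7])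
    (by rw [← map_mul, ← map_one (π.comp τ)]; refine rel ?_; exact (map_mul (h.emb hk) _ _).symm.trans (by rw [m9, map_one]; rfl))
    (by rw [← map_mul, ← map_mul]; refine rel ?_; show h.emb hk _ * h.emb hk _ * h.emb hk _ = h.emb hk _; rw [← map_mul, ← map_mul, m10])
    (by rw [← map_mul, ← map_mul]; refine rel ?_; show h.emb hk _ * h.emb hk _ * h.emb hk _ = h.emb hk _; rw [← map_mul, ← map_mul, m11])
  set ρ : C →* P6 := θ.comp (π.comp τ) with hρ
  have ρsurj : Function.Surjective ρ := hθ.2.comp hsurj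
  have ρker : ∀ g : C, ρ g = 1 ↔ ∃ i : Fin 3, (g : G) = h.j e3 ^ (i : ℕ) := fun g => by
    rw [← hker' g]
    exact ⟨fun e => hθ.1 (e.trans (map_one _).symm), fun e => by
      show θ (π (τ g)) = 1
      rw [e, map_one]⟩
  -- a homomorphism detecting the line
  have hJC : h.J ≤ C := h.J_le_cent e3
  set JC := h.J.subgroupOf C with hJC'
  let eA : A ≃* JC :=
    (MonoidHom.ofInjective h.j_inj).trans (subgroupOfEquivOfLe hJC).symm
  let ζ : A →* Multiplicative (ZMod 3) :=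
    MonoidHom.mk' (fun a => Multiplicative.ofAdd a.toAdd.2.2) fun a b => rfl
  set χ : C →* Multiplicative (ZMod 3) := MonoidHom.transfer (ζ.comp eA.symm.toMonoidHom) with hχ
  have hidx : JC.index = 80 := by
    have h1 := JC.card_mul_index
    rw [Nat.card_congr (subgroupOfEquivOfLe hJC).toEquiv, h.J_card] at h1
    have h2 : Nat.card C = 3 * 720 := by
      have h3 := (ρ.ker).card_mul_index
      rw [Subgroup.index_ker, MonoidHom.range_eq_top.2 ρsurj, card_top] at h3
      have h4 : ρ.ker = zpowers eC := by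
        ext g
        rw [MonoidHom.mem_ker, ρker]
        constructor
        · rintro ⟨i, hi⟩
          exact mem_zpowers_iff.2 ⟨(i : ℕ), Subtype.ext (by rw [zpow_natCast, SubmonoidClass.coe_pow]; exact hi.symm)⟩
        · intro hg
          obtain ⟨n, rfl⟩ := mem_zpowers_iff.1 hg
          have hz : ((eC ^ n : C) : G) ∈ zpowers (h.j e3) :=
            mem_zpowers_iff.2 ⟨n, (SubgroupClass.coe_zpow eC n).symm⟩
          rcases A9ThreeLocal.zpowers_three_cases hcube hz with e | e | e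
          · exact ⟨0, by rw [e]; simp⟩
          · exact ⟨1, by rw [e]; simp⟩
          · exact ⟨2, by rw [e]; exact (eq_inv_of_mul_eq_one_left (by rw [← pow_succ]; exact hcube)).symm⟩
      rw [h4, Nat.card_zpowers, ← Subgroup.orderOf_coe, h.order_j (by decide +kernel)] at h3
      rw [← h3, Nat.card_eq_fintype_card, Fintype.card_perm, Fintype.card_fin]
      rfl
    omega
  have χe : χ eC ≠ 1 := by
    rw [hχ, MonoidHom.transfer_eq_pow _ _ fun k g₀ _ => by
      rw [mul_assoc, ← ((cen g₀).pow_right k).eq, inv_mul_cancel_left]]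
    have e80 : eC ^ JC.index = (eA (e3 * e3) : C) := by
      refine Subtype.ext ?_
      rw [SubmonoidClass.coe_pow, hidx]
      show h.j e3 ^ 80 = h.j (e3 * e3)
      rw [map_mul, show (80 : ℕ) = 3 * 26 + 2 from rfl, pow_add, pow_mul, hcube, one_pow, one_mul, pow_two]
    simp only [MonoidHom.coe_comp, Function.comp_apply, MulEquiv.coe_toMonoidHom]
    rw [show (⟨eC ^ JC.index, _⟩ : JC) = eA (e3 * e3) from Subtype.ext e80, eA.symm_apply_apply]
    decide +kernel
  have χinv : ∀ {g : C}, (g : G) * g = 1 → χ g = 1 := fun e =>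
    z3_sq _ (by rw [← map_mul, ← map_one χ]; exact congrArg χ (Subtype.ext e))
  set L := χ.ker with hL
  set ρL : L →* P6 := ρ.comp L.subtype with hρL
  have ρLinj : Function.Injective ρL := by
    refine (injective_iff_map_eq_one ρL).2 fun g hg => ?_
    obtain ⟨i, hi⟩ := (ρker _).1 hg
    have e : (g : C) = eC ^ (i : ℕ) := Subtype.ext (hi.trans (SubmonoidClass.coe_pow eC _).symm)
    have h1 : χ (g : C) = 1 := g.2
    rw [e, map_pow] at h1
    have hi0 := z3_zero _ χe i h1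
    exact Subtype.ext (by rw [e, hi0]; exact pow_zero _)
  have ρLsurj : Function.Surjective ρL := fun x => by
    obtain ⟨g, rfl⟩ := ρsurj x
    obtain ⟨i, hi⟩ := z3_fill (χ eC) (χ g) χe
    refine ⟨⟨eC ^ (i : ℕ) * g, by rw [hL, MonoidHom.mem_ker, map_mul, map_pow, hi]⟩, ?_⟩
    show ρ (eC ^ (i : ℕ) * g) = ρ g
    rw [map_mul, (ρker _).2 ⟨i, by rw [SubmonoidClass.coe_pow]⟩, one_mul]
  set eL := MulEquiv.ofBijective ρL ⟨ρLinj, ρLsurj⟩
  set ψC : P6 →* C := L.subtype.comp eL.symm.toMonoidHom with hψC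
  have ψuniq : ∀ (g : C) (x : P6), χ g = 1 → ρ g = x → ψC x = g := by
    intro g x h1 h2
    have : eL ⟨g, MonoidHom.mem_ker.2 h1⟩ = x := h2
    show (eL.symm x : C) = g
    rw [← this, eL.symm_apply_apply]
  have ψρ : ∀ x, ρ (ψC x) = x := fun x => eL.apply_symm_apply x
  have ψχ : ∀ x, χ (ψC x) = 1 := fun x => MonoidHom.mem_ker.1 (eL.symm x).2
  have χP : χ gP = 1 := χinv (by show h.emb hk _ * h.emb hk _ = 1; rw [← map_mul, m4, map_one])
  have χQ : χ gQ = 1 := χinv (by show h.emb hk _ * h.emb hk _ = 1; rw [← map_mul, m5, map_one])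
  have χO : χ gO = 1 := χinv (by show h.emb hk _ * h.emb hk _ = 1; rw [← map_mul, m9, map_one])
  have χA : χ gA = 1 := by
    have e : gP * gA * gP * gA⁻¹ = gA := Subtype.ext (by
      show h.emb hk (mw wf) * h.emb hk (ma e1) * h.emb hk (mw wf) * (h.emb hk (ma e1))⁻¹ = h.emb hk (ma e1)
      rw [← map_mul (h.emb hk), ← map_mul (h.emb hk), m2, ← map_inv (h.emb hk), ← map_mul (h.emb hk)]
      exact congrArg _ (by decide +kernel))
    rw [← e, map_mul, map_mul, map_mul, map_inv, χP, one_mul, mul_one, mul_inv_cancel]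
  have χB : χ gB = 1 := by
    have e : gQ * gB * gQ * gB⁻¹ = gB := Subtype.ext (by
      show h.emb hk (mw wf2) * h.emb hk (ma e2) * h.emb hk (mw wf2) * (h.emb hk (ma e2))⁻¹ = h.emb hk (ma e2)
      rw [← map_mul (h.emb hk), ← map_mul (h.emb hk), m7, ← map_inv (h.emb hk), ← map_mul (h.emb hk)]
      exact congrArg _ (by decide +kernel))
    rw [← e, map_mul, map_mul, map_mul, map_inv, χQ, one_mul, mul_one, mul_inv_cancel]
  have vA := ψuniq gA pa χA hA'
  have vB := ψuniq gB pb χB hB'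
  have vP := ψuniq gP p0 χP hP'
  have vQ := ψuniq gQ p1 χQ hQ'
  have vO := ψuniq gO pw χO hO'
  set ψ : P6 →* G := C.subtype.comp ψC with hψ
  have ψinj : Function.Injective ψ :=
    C.subtype_injective.comp (L.subtype_injective.comp eL.symm.injective)
  -- the flip of the third block centralises the complement
  set f := h.emb hk (mw wf3) with hf
  have hff : f * f = 1 := by rw [hf, ← map_mul, f1, map_one]
  have hfi : f⁻¹ = f := inv_eq_of_mul_eq_one_right hff
  have hfe : f * h.j e3 * f⁻¹ = (h.j e3)⁻¹ := by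
    rw [hfi, hf, ← h.emb_a hk, ← map_mul, ← map_mul, f2, map_inv]
  have hfC : ∀ g : C, f * (g : G) * f⁻¹ ∈ C := fun g => by
    have h1 : Commute (g : G) (h.j e3) := mem_centralizer_singleton_iff.1 g.2
    have h2 : Commute (f * (g : G) * f⁻¹) (f * (h.j e3)⁻¹ * f⁻¹) := h1.inv_right.conj f
    rw [← conj_inv, hfe, inv_inv] at h2
    exact mem_centralizer_singleton_iff.2 h2
  let δ : C →* C := MonoidHom.mk' (fun g => ⟨_, hfC g⟩) fun x y => Subtype.ext (by simp [mul_assoc])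
  set φ : P6 →* P6 := ρ.comp (δ.comp ψC) with hφ
  have φfix : ∀ x (m : Mf) (hm : m * ma e3 = ma e3 * m), ψC x = el m hm →
      mw wf3 * m = m * mw wf3 → φ x = x := by
    intro x m hm hx hcm
    show ρ (δ (ψC x)) = x
    rw [hx]
    have e : δ (el m hm) = el m hm := Subtype.ext (by
      show f * h.emb hk m * f⁻¹ = h.emb hk m
      rw [hf, ← map_mul, hcm, map_mul, mul_inv_cancel_right])
    rw [e, ← hx, ψρ]
  have fa := φfix pa _ c1 vA f3
  have fb := φfix pb _ c2 vB f4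
  have f0' := φfix p0 _ c3 vP f5
  have f1' := φfix p1 _ c4 vQ f6
  have fw := φfix pw _ c5 vO f7
  have φinj : Function.Injective φ := by
    refine (injective_iff_map_eq_one φ).2 fun x hx => ?_
    obtain ⟨i, hi⟩ := (ρker _).1 hx
    have e : ψ x = f⁻¹ * h.j e3 ^ (i : ℕ) * f := by
      rw [← hi]; show (ψC x : G) = f⁻¹ * (f * (ψC x : G) * f⁻¹) * f; group
    have e' : f⁻¹ * h.j e3 ^ (i : ℕ) * f = ((h.j e3)⁻¹) ^ (i : ℕ) := by
      rw [← hfe, conj_pow, hfi]
    rw [e'] at e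
    have := (ρker (ψC x)).2 ⟨-i, by
      show ψ x = _
      rw [e]
      rw [inv_pow]
      refine inv_eq_of_mul_eq_one_right ?_
      rw [← pow_add]
      fin_cases i
      · exact pow_zero _
      · exact hcube
      · exact hcube⟩
    rwa [ψρ] at this
  obtain ⟨t1, t2, t3, t4, t5, t6, tps⟩ := pt_facts
  have hps : φ ps = ps := by
    rw [tps, map_mul, map_mul, map_mul, map_mul, map_pow, map_pow, fb, f1', fa, f0', fw]
  have hpt : φ pt = pt := by
    refine pt_unique _ ?_ ?_ ?_ ?_ ?_ ?_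
    · rw [← map_mul, t1, map_one]
    · rw [← f1', ← map_mul, ← map_mul, t2]
    · rw [← fa, ← f0', ← map_inv, ← map_mul, ← map_mul, ← map_mul, ← map_mul, t3]
    · rw [← hps, ← map_mul, ← map_mul, t4]
    · rw [← fa, ← map_mul, ← map_pow, t5, map_one]
    · intro e
      refine t6 (φinj ?_)
      rw [map_pow, map_mul, fa, e, map_one]
  have hgen : ∀ i : Fin 5, φ (swap i.castSucc i.succ) = swap i.castSucc i.succ := by
    intro i
    rw [adjacent_swaps i]
    fin_cases i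
    · show φ (pa⁻¹ * p0 * pa) = _; rw [map_mul, map_mul, map_inv, fa, f0']; rfl
    · exact f0'
    · exact hpt
    · show φ (pb⁻¹ * p1 * pb) = _; rw [map_mul, map_mul, map_inv, fb, f1']; rfl
    · exact f1'
  have hcomm : δ.comp ψC = ψC := by
    refine MonoidHom.eq_of_eqOn_denseM (Perm.mclosure_swap_castSucc_succ 5) ?_
    rintro _ ⟨i, rfl⟩
    symm
    refine ψuniq _ _ (χinv ?_) (hgen i)
    have e : (ψC (swap i.castSucc i.succ) : G) * ψC (swap i.castSucc i.succ) = 1 := by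
      have h2 : ψC (swap i.castSucc i.succ) * ψC (swap i.castSucc i.succ) = 1 := by
        rw [← map_mul, swap_mul_self, map_one]
      exact congrArg Subtype.val h2
    show f * _ * f⁻¹ * (f * _ * f⁻¹) = (1 : G)
    calc _ = f * ((ψC (swap i.castSucc i.succ) : G) * ψC (swap i.castSucc i.succ)) * f⁻¹ := by group
      _ = 1 := by rw [e]; group
  refine ⟨{ ψ := ψ, inj := ψinj, map_a := congrArg Subtype.val vA, map_b := congrArg Subtype.val vB,
            map_0 := congrArg Subtype.val vP, map_1 := congrArg Subtype.val vQ,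
            map_w := congrArg Subtype.val vO, comm_e := ?_, comm_f := ?_, dec := ?_ }⟩
  · exact fun x => (mem_centralizer_singleton_iff.1 (ψC x).2).symm
  · intro x
    have := congrArg Subtype.val (DFunLike.congr_fun hcomm x)
    exact mul_inv_eq_iff_eq_mul.1 this
  · intro g hg
    set gC : C := ⟨g, mem_centralizer_singleton_iff.2 hg⟩
    have h1 : ρ (gC * (ψC (ρ gC))⁻¹) = 1 := by rw [map_mul, map_inv, ψρ, mul_inv_cancel]
    obtain ⟨i, hi⟩ := (ρker _).1 h1
    refine ⟨i, ρ gC, ?_⟩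
    rw [← hi]
    show g = g * ((ψC (ρ gC) : G))⁻¹ * (ψC (ρ gC) : G)
    rw [inv_mul_cancel_right]

end Conf

end Cfsg.Agent.Sym9ThreeLocal
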