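import Cfsg.Agent.Sym9ThreeLocal.Basic
import Mathlib.GroupTheory.GroupAction.Quotient
import Mathlib.GroupTheory.Perm.Sign

/-!
# Facts about a configuration, and counting fixed cosets
-/

set_option autoImplicit false
set_option synthInstance.maxSize 4000
set_option synthInstance.maxHeartbeats 400000

namespace Cfsg.Agent.Sym9ThreeLocal

open Subgroup

universe u

theorem inK_wt : ∀ k, inK k wt := by decide +kernel

theorem inK_wc : ∀ k, inK k wc := by decide +kernel

/-- The vectors whose centralisers may be large. -/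
def EType (k : Kind) (v : A) : Prop := k = .eight ∧ ∃ q : W, act q e1 = v

instance (k : Kind) (v : A) : Decidable (EType k v) := by unfold EType; infer_instance

/-- The order of the centraliser of the distinguished involution in the automiser. -/
def tauCard : Kind → ℕ
  | .one => 18
  | .two => 36
  | .four => 36
  | .eight => 72

namespace Conf

variable {G : Type u} [Group G] (h : Conf G)

/-- The distinguished involution, exchanging two blocks. -/
def tau : G := h.q ⟨wt, inK_wt h.k⟩

/-- The cycle of the blocks. -/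
def cyc : G := h.q ⟨wc, inK_wc h.k⟩

/-- The Sylow subgroup. -/
def S : Subgroup G := h.J ⊔ zpowers h.cyc

/-- The consequences of the configuration used for the classification of the cases. -/
structure Facts : Prop where
  /-- Centralisers of subgroups of order nine are local. -/
  pair : ∀ v w : A, v ≠ 1 → w ∉ zpowers v →
    centralizer ({h.j v} : Set G) ⊓ centralizer ({h.j w} : Set G) ≤ h.N
  /-- Centralisers of most vectors are local. -/
  loc : ∀ v : A, v ≠ 1 → ¬ EType h.k v → centralizer ({h.j v} : Set G) ≤ h.N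
  /-- The centraliser of the involution. -/
  tau_le : centralizer ({h.j e1} : Set G) ≤ h.N →
    centralizer ({h.tau} : Set G) ≤ h.N ∧ Nat.card (centralizer ({h.tau} : Set G)) = tauCard h.k
  /-- The order of the Sylow subgroup. -/
  S_card : Nat.card h.S = 81
  /-- Its centre. -/
  S_center : ∀ s ∈ h.S, (∀ t ∈ h.S, s * t = t * s) → s ∈ zpowers h.x
  /-- It is a Sylow subgroup. -/
  sylow : ∀ P : Subgroup G, IsPGroup 3 P → ∃ g : G, ∀ y ∈ P, g * y * g⁻¹ ∈ h.S
  /-- A normal subgroup of odd order ends the proof. -/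
  finish : ∀ H : Subgroup G, H.Normal → H ≠ ⊥ → Odd (Nat.card H) → h.J.Normal
  /-- The large case. -/
  big : h.k = .eight → ¬ centralizer ({h.j e1} : Set G) ≤ h.N →
    ∃ π : centralizer ({h.j e1} : Set G) →* Equiv.Perm (Fin 6), Function.Surjective π ∧
      ∀ y, π y = 1 ↔ (y : G) ∈ zpowers (h.j e1)

end Conf

variable {G : Type u} [Group G] [Finite G]

/-- Counting the cosets fixed by an element. -/
theorem fix_card_mul (N : Subgroup G) (i : G) :
    Nat.card {p : G ⧸ N // i • p = p} * Nat.card N =
      Nat.card (centralizer ({i} : Set G)) * Nat.card {n : G // n ∈ N ∧ IsConj i n} := by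
  classical
  have h1 : Nat.card {g : G // g⁻¹ * i * g ∈ N} = Nat.card {p : G ⧸ N // i • p = p} * Nat.card N := by
    rw [← Nat.card_prod]
    refine Nat.card_congr ?_
    refine (Equiv.subtypeEquivRight (q := fun g : G => i • (g : G ⧸ N) = g) fun g => ?_).trans
      (QuotientGroup.preimageMkEquivSubgroupProdSet N {p : G ⧸ N | i • p = p} |>.trans (Equiv.prodComm _ _))
    show _ ↔ ((i * g : G) : G ⧸ N) = (g : G ⧸ N)
    rw [QuotientGroup.eq]
    constructor <;> intro hg
    · simpa [mul_assoc] using inv_mem hg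
    · simpa [mul_assoc] using inv_mem hg
  have h2 : Nat.card {g : G // g⁻¹ * i * g ∈ N} =
      Nat.card (centralizer ({i} : Set G)) * Nat.card {n : G // n ∈ N ∧ IsConj i n} := by
    have hex : ∀ n : {n : G // n ∈ N ∧ IsConj i n}, ∃ c : G, c⁻¹ * i * c = n := fun n => by
      obtain ⟨c, hc⟩ := isConj_iff.1 n.2.2
      exact ⟨c⁻¹, by rw [inv_inv, hc]⟩
    choose c hc using hex
    rw [← Nat.card_prod]
    refine (Nat.card_congr (Equiv.ofBijective
      (fun p : centralizer ({i} : Set G) × {n : G // n ∈ N ∧ IsConj i n} =>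
        (⟨(p.1 : G) * c p.2, ?_⟩ : {g : G // g⁻¹ * i * g ∈ N})) ⟨?_, ?_⟩)).symm
    · have : ((p.1 : G) * c p.2)⁻¹ * i * ((p.1 : G) * c p.2) = p.2 := by
        rw [← hc p.2, mul_inv_rev]
        have := mem_centralizer_singleton_iff.1 p.1.2
        calc (c p.2)⁻¹ * (p.1 : G)⁻¹ * i * ((p.1 : G) * c p.2) = (c p.2)⁻¹ * (p.1 : G)⁻¹ * (i * p.1) * c p.2 := by group
          _ = _ := by rw [← this]; group
      rw [this]; exact p.2.2.1
    · rintro ⟨a, n⟩ ⟨b, m⟩ e
      have e' : (a : G) * c n = (b : G) * c m := congrArg Subtype.val e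
      have key : ∀ (y : centralizer ({i} : Set G)) (z : {n : G // n ∈ N ∧ IsConj i n}),
          ((y : G) * c z)⁻¹ * i * ((y : G) * c z) = z := fun y z => by
        rw [← hc z, mul_inv_rev]
        have := mem_centralizer_singleton_iff.1 y.2
        calc (c z)⁻¹ * (y : G)⁻¹ * i * ((y : G) * c z) = (c z)⁻¹ * (y : G)⁻¹ * (i * y) * c z := by group
          _ = _ := by rw [← this]; group
      have hnm : n = m := Subtype.ext (by rw [← key a n, e', key b m])
      subst hnm
      exact Prod.ext (Subtype.ext (mul_right_cancel e')) rfl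
    · rintro ⟨g, hg⟩
      set n : {n : G // n ∈ N ∧ IsConj i n} := ⟨_, hg, isConj_iff.2 ⟨g⁻¹, by rw [inv_inv]⟩⟩
      refine ⟨(⟨g * (c n)⁻¹, mem_centralizer_singleton_iff.2 ?_⟩, n), Subtype.ext (inv_mul_cancel_right _ _)⟩
      have e : (c n)⁻¹ * i * c n = g⁻¹ * i * g := hc n
      calc g * (c n)⁻¹ * i = g * ((c n)⁻¹ * i * c n) * (c n)⁻¹ := by group
        _ = i * (g * (c n)⁻¹) := by rw [e]; group
  rw [← h1, h2]

end Cfsg.Agent.Sym9ThreeLocal
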