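import Cfsg.Agent.Sym9ThreeLocal.SmallQuot
import Cfsg.Agent.A9ThreeLocal.Central
import Cfsg.Agent.ThreeTINine.Main
import Cfsg.Agent.ThreeTINine.Wreath

/-!
# A local Sylow subgroup of order nine with small automiser is normal
-/

set_option autoImplicit false

namespace Cfsg.Agent.Sym9ThreeLocal

open Cfsg Cfsg.Agent Subgroup
open scoped Pointwise

universe u

variable {Y : Type u} [Group Y] [Finite Y]

/-- The hypotheses. -/
structure Nine (T : Sylow 3 Y) : Prop where
  comm : ∀ x ∈ (T : Subgroup Y), ∀ y ∈ (T : Subgroup Y), x * y = y * x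
  cube : ∀ x ∈ (T : Subgroup Y), x ^ 3 = 1
  card : Nat.card (T : Subgroup Y) = 9
  cent : centralizer ((T : Subgroup Y) : Set Y) = T
  loc : ∀ t ∈ (T : Subgroup Y), t ≠ 1 → centralizer ({t} : Set Y) ≤ normalizer ((T : Subgroup Y) : Set Y)

namespace Nine

variable {T : Sylow 3 Y}

/-- There is no invariant subgroup of order prime to three. -/
theorem free (h : Nine T) {R : Subgroup Y} (h3 : ¬ 3 ∣ Nat.card R)
    (hT : (T : Subgroup Y) ≤ normalizer (R : Set Y)) : R = ⊥ := by
  classical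
  haveI : Fact (Nat.Prime 3) := ⟨Nat.prime_three⟩
  obtain ⟨a, ha, ha1⟩ : ∃ a ∈ (T : Subgroup Y), a ≠ 1 := by
    refine ((T : Subgroup Y).bot_or_exists_ne_one).resolve_left fun e => ?_
    have := h.card
    rw [e, card_bot] at this
    omega
  obtain ⟨b, hb, hba⟩ : ∃ b ∈ (T : Subgroup Y), b ∉ zpowers a := by
    by_contra hall
    push Not at hall
    have hle : Nat.card (T : Subgroup Y) ≤ Nat.card (zpowers a) := card_le_of_le fun y hy => hall y hy
    rw [h.card, Nat.card_zpowers, orderOf_eq_prime (h.cube a ha) ha1] at hle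
    omega
  have hcop : Nat.Coprime 3 (Nat.card R) := Nat.prime_three.coprime_iff_not_dvd.2 h3
  have hcent : ∀ t ∈ (T : Subgroup Y), t ≠ 1 → R ⊓ centralizer ({t} : Set Y) ≤ ⊥ := by
    rintro t ht ht1 r ⟨hrR, hrC⟩
    have hrN := h.loc t ht ht1 hrC
    have hcomm : ∀ s ∈ (T : Subgroup Y), s * r = r * s := by
      intro s hs
      have h1 : r * s * r⁻¹ * s⁻¹ ∈ (T : Subgroup Y) :=
        mul_mem ((mem_normalizer_iff.1 hrN s).1 hs) (inv_mem hs)
      have h2 : r * s * r⁻¹ * s⁻¹ ∈ R := by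
        rw [show r * s * r⁻¹ * s⁻¹ = r * (s * r⁻¹ * s⁻¹) by group]
        exact mul_mem hrR ((mem_normalizer_iff.1 (hT hs) _).1 (inv_mem hrR))
      have h3' := (T : Subgroup Y).orderOf_dvd_natCard h1
      rw [h.card] at h3'
      have h4 := R.orderOf_dvd_natCard h2
      have e : r * s * r⁻¹ * s⁻¹ = 1 := orderOf_eq_one_iff.1
        (Nat.eq_one_of_dvd_coprimes (hcop.pow_left 2) h3' h4)
      exact (mul_inv_eq_iff_eq_mul.1 (mul_inv_eq_one.1 e)).symm
    have hrT : r ∈ (T : Subgroup Y) := h.cent ▸ mem_centralizer_iff.2 hcomm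
    have h3' := (T : Subgroup Y).orderOf_dvd_natCard hrT
    rw [h.card] at h3'
    exact mem_bot.2 (orderOf_eq_one_iff.1
      (Nat.eq_one_of_dvd_coprimes (hcop.pow_left 2) h3' (R.orderOf_dvd_natCard hrR)))
  refine le_bot_iff.1 (Coprime.le_of_centralizers_le (a := a) (b := b) (h.comm a ha b hb) (hT ha) (hT hb)
    Nat.prime_three (by rw [h.cube a ha]; exact one_mem _) (by rw [h.cube b hb]; exact one_mem _) hcop ?_
    (hcent a ha ha1) fun k => hcent _ (mul_mem (pow_mem ha k) hb) fun e => hba ?_)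
  · exact Nat.Coprime.coprime_dvd_left (card_dvd_of_le ((closure_le _).2 (Set.insert_subset ha
      (Set.singleton_subset_iff.2 hb)))) (by rw [h.card]; exact hcop.pow_left 2)
  · rw [eq_inv_of_mul_eq_one_right e]
    exact inv_mem (pow_mem (mem_zpowers a) k)

/-- A normal subgroup in which the Sylow subgroup is central in its normaliser is trivial modulo it. -/
theorem normal_of_central (h : Nine T) {K : Subgroup Y} (hK : K.Normal) (hTK : (T : Subgroup Y) ≤ K)
    (hc : ∀ g ∈ K, g ∈ normalizer ((T : Subgroup Y) : Set Y) → ∀ x ∈ (T : Subgroup Y), g * x = x * g) :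
    normalizer ((T : Subgroup Y) : Set Y) = ⊤ := by
  obtain ⟨R, -, hR3, hRT, hinv⟩ := A9ThreeLocal.exists_central_complement K T hTK hc T.2
    (fun P hP hTP _ => (T.3 hP hTP).le)
  have hbot := h.free hR3 fun t _ => mem_normalizer_fintype (hinv t fun g hg => hK.conj_mem g hg t)
  have hKT : K = T := le_antisymm (fun g hg => A9ThreeLocal.mem_of_mem_mul hbot (hRT g hg)) hTK
  rw [← hKT]
  exact normalizer_eq_top_iff.2 hK

/-- The Sylow subgroup is normal if its automiser has order at most two. -/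
theorem normalizer_eq_top (h : Nine T) (hN : Nat.card (normalizer ((T : Subgroup Y) : Set Y)) = 9 ∨
    Nat.card (normalizer ((T : Subgroup Y) : Set Y)) = 18) :
    normalizer ((T : Subgroup Y) : Set Y) = ⊤ := by
  classical
  haveI : Fact (Nat.Prime 3) := ⟨Nat.prime_three⟩
  haveI : Fact (Nat.Prime 2) := ⟨Nat.prime_two⟩
  set N := normalizer ((T : Subgroup Y) : Set Y) with hNdef
  rcases hN with hN | hN
  · have e : (T : Subgroup Y) = N := eq_of_le_of_card_ge le_normalizer (by rw [hN, h.card])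
    exact h.normal_of_central (K := ⊤) inferInstance le_top fun g _ hg x hx => h.comm g (e ▸ hg) x hx
  obtain ⟨⟨u, huN⟩, hu⟩ := exists_prime_orderOf_dvd_card' (G := N) 2 (by rw [hN]; norm_num)
  rw [orderOf_mk] at hu
  have hu2 : u * u = 1 := by rw [← pow_two, ← hu, pow_orderOf_eq_one]
  have hui : u⁻¹ = u := inv_eq_of_mul_eq_one_right hu2
  have hu1 : u ≠ 1 := fun e => by rw [e, orderOf_one] at hu; omega
  have huT : u ∉ (T : Subgroup Y) := fun hm => by
    have := (T : Subgroup Y).orderOf_dvd_natCard hm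
    rw [h.card, hu] at this
    omega
  have hTu : ∀ t ∈ (T : Subgroup Y), u * t * u⁻¹ ∈ (T : Subgroup Y) := fun t ht =>
    (mem_normalizer_iff.1 huN t).1 ht
  have hdec : ∀ g ∈ N, g ∈ (T : Subgroup Y) ∨ ∃ t ∈ (T : Subgroup Y), g = t * u := by
    intro g hg
    have hidx : ((T : Subgroup Y).subgroupOf N).index = 2 := by
      have h1 := card_mul_index ((T : Subgroup Y).subgroupOf N)
      rw [Nat.card_congr (subgroupOfEquivOfLe (le_normalizer : (T : Subgroup Y) ≤ N)).toEquiv, h.card, hN] at h1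
      omega
    by_cases hgT : g ∈ (T : Subgroup Y)
    · exact Or.inl hgT
    refine Or.inr ⟨g * u⁻¹, ?_, (inv_mul_cancel_right g u).symm⟩
    have := (mul_mem_iff_of_index_two hidx (a := ⟨g, hg⟩) (b := (⟨u, huN⟩ : N)⁻¹)).2
      (iff_of_false (fun e => hgT (mem_subgroupOf.1 e)) (fun e => huT (by
        have := inv_mem (mem_subgroupOf.1 e); simpa using this)))
    exact mem_subgroupOf.1 this
  have hfix : ∀ t ∈ (T : Subgroup Y), u * (t * (u * t * u⁻¹)) * u⁻¹ = t * (u * t * u⁻¹) := by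
    intro t ht
    calc u * (t * (u * t * u⁻¹)) * u⁻¹ = (u * t * u⁻¹) * ((u * u) * t * (u * u)⁻¹) := by group
      _ = t * (u * t * u⁻¹) := by rw [hu2, one_mul, inv_one, mul_one, h.comm _ (hTu t ht) t ht]
  have hsq : ∀ t ∈ (T : Subgroup Y), t * t = 1 → t = 1 := fun t ht e => by
    have := h.cube t ht
    rwa [pow_succ, pow_two, e, one_mul] at this
  by_cases hall : ∀ t ∈ (T : Subgroup Y), u * t * u⁻¹ = t⁻¹
  · -- inversion
    have hTI : ThreeTINine.TI (T : Subgroup Y) := ThreeTINine.TI.of_sylow T rfl h.comm h.cube h.card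
      fun x hx hx1 => le_antisymm (fun g hg => by
        rcases hdec g (h.loc x hx hx1 hg) with hg' | ⟨t, ht, rfl⟩
        · exact hg'
        exfalso
        have e1 : t * u * x * (t * u)⁻¹ = x := by
          rw [mem_centralizer_singleton_iff.1 hg, mul_inv_cancel_right]
        rw [show t * u * x * (t * u)⁻¹ = t * (u * x * u⁻¹) * t⁻¹ by group, hall x hx,
          h.comm t ht _ (inv_mem hx), mul_inv_cancel_right] at e1
        exact hx1 (hsq x hx (by nth_rewrite 1 [← e1]; exact inv_mul_cancel x)))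
        fun g hg => mem_centralizer_singleton_iff.2 (h.comm g hg x hx)
    obtain ⟨χ, hχ, h1⟩ := hTI.two_case hall fun g hg s hs => by
      rcases hdec g hg with hg' | ⟨t, ht, rfl⟩
      · exact Or.inl (by rw [h.comm g hg' s hs, mul_inv_cancel_right])
      · exact Or.inr (by rw [show t * u * s * (t * u)⁻¹ = t * (u * s * u⁻¹) * t⁻¹ by group, hall s hs,
          h.comm t ht _ (inv_mem hs), mul_inv_cancel_right])
    haveI := Fintype.ofFinite Y
    obtain ⟨f, hf⟩ := Char.IsChar.exists_hom (Char.IsIrr.isCharacter χ.2) h1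
    have hfne : f.ker ≠ ⊤ := fun e => hχ (funext fun g => by
      have hg : g ∈ f.ker := e ▸ mem_top g
      rw [hf]; simp [show f g = 1 from hg])
    have hTK : (T : Subgroup Y) ≤ f.ker := by
      intro t ht
      have e2 : f t⁻¹ = f t := by
        rw [← hall t ht, map_mul, map_mul, map_inv, mul_comm (f u) (f t), mul_inv_cancel_right]
      rw [MonoidHom.mem_ker]
      have e3 : f (t * t) = 1 := by
        rw [map_mul]; nth_rewrite 1 [← e2]; rw [← map_mul, inv_mul_cancel, map_one]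
      have e4 : f (t * t * t) = 1 := by rw [← pow_three', h.cube t ht, map_one]
      rwa [map_mul, e3, one_mul] at e4
    have huK : u ∉ f.ker := fun hm => hfne (eq_top_iff.2 fun g _ => by
      have hf' := Sylow.normalizer_sup_eq_top (T.subtype hTK)
      rw [show ((T.subtype hTK : Sylow 3 f.ker) : Subgroup f.ker).map f.ker.subtype = T from by
        show ((T : Subgroup Y).subgroupOf f.ker).map f.ker.subtype = T
        rw [subgroupOf_map_subtype, inf_eq_left.2 hTK]] at hf'
      have hle : N ⊔ f.ker ≤ f.ker := sup_le (fun n hn => by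
        rcases hdec n hn with hn' | ⟨t, ht, rfl⟩
        · exact hTK hn'
        · exact mul_mem (hTK ht) hm) le_rfl
      exact hle (hf' ▸ mem_top g))
    refine h.normal_of_central (K := f.ker) inferInstance hTK fun g hg hgN x hx => ?_
    rcases hdec g hgN with hg' | ⟨t, ht, rfl⟩
    · exact h.comm g hg' x hx
    · refine absurd ?_ huK
      have := mul_mem (inv_mem (hTK ht)) hg
      rwa [inv_mul_cancel_left] at this
  -- a fixed line
  push Not at hall
  obtain ⟨t0, ht0, ht0'⟩ := hall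
  set a := t0 * (u * t0 * u⁻¹) with ha_def
  have haT : a ∈ (T : Subgroup Y) := mul_mem ht0 (hTu t0 ht0)
  have ha1 : a ≠ 1 := fun e => ht0' (eq_inv_of_mul_eq_one_right e)
  have hua : u * a * u⁻¹ = a := hfix t0 ht0
  obtain ⟨t1, ht1, ht1'⟩ : ∃ t ∈ (T : Subgroup Y), u * t * u⁻¹ ≠ t := by
    by_contra hno
    push Not at hno
    exact huT (h.cent ▸ mem_centralizer_iff.2 fun t ht => (mul_inv_eq_iff_eq_mul.1 (hno t ht)).symm)
  set b := t1 * (u * t1 * u⁻¹)⁻¹ with hb_def
  have hbT : b ∈ (T : Subgroup Y) := mul_mem ht1 (inv_mem (hTu t1 ht1))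
  have hub : u * b * u⁻¹ = b⁻¹ := by
    calc u * b * u⁻¹ = (u * t1 * u⁻¹) * ((u * u) * t1 * (u * u)⁻¹)⁻¹ := by rw [hb_def]; group
      _ = b⁻¹ := by rw [hu2, one_mul, inv_one, mul_one, hb_def, mul_inv_rev, inv_inv]
  have hb1 : b ≠ 1 := fun e => ht1' (mul_inv_eq_one.1 e).symm
  have hba : b ∉ zpowers a := fun hm => by
    have hfixb : u * b * u⁻¹ = b := by
      obtain ⟨i, hi⟩ := mem_zpowers_iff.1 hm
      rw [← hi, ← conj_zpow, hua]
    rw [hub] at hfixb
    exact hb1 (hsq b hbT (by nth_rewrite 1 [← hfixb]; exact inv_mul_cancel b))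
  have hgen : (T : Subgroup Y) = zpowers a ⊔ zpowers b := by
    refine (eq_of_le_of_card_ge (sup_le (zpowers_le.2 haT) (zpowers_le.2 hbT)) ?_).symm
    rw [h.card]
    have hd : Nat.card (zpowers a ⊔ zpowers b : Subgroup Y) ∣ 3 ^ 2 := by
      have := card_dvd_of_le (sup_le (zpowers_le.2 haT) (zpowers_le.2 hbT) : zpowers a ⊔ zpowers b ≤ (T : Subgroup Y))
      rwa [h.card] at this
    have hlt : Nat.card (zpowers a) < Nat.card (zpowers a ⊔ zpowers b : Subgroup Y) := by
      refine lt_of_le_of_ne (card_le_of_le le_sup_left) fun e => hba ?_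
      rw [eq_of_le_of_card_ge (le_sup_left : zpowers a ≤ zpowers a ⊔ zpowers b) e.ge]
      exact mem_sup_right (mem_zpowers b)
    rw [Nat.card_zpowers, orderOf_eq_prime (h.cube a haT) ha1] at hlt
    obtain ⟨i, hi, e⟩ := (Nat.dvd_prime_pow Nat.prime_three).1 hd
    rw [e] at hlt ⊢
    interval_cases i <;> simp at hlt ⊢
  haveI hmc : IsMulCommutative (T : Subgroup Y) := ⟨⟨fun x y => Subtype.ext (h.comm _ x.2 _ y.2)⟩⟩
  letI : CommGroup (T : Subgroup Y) := { (inferInstance : Group (T : Subgroup Y)) with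
    mul_comm := fun x y => Subtype.ext (h.comm _ x.2 _ y.2) }
  set V : Y →* (T : Subgroup Y) := MonoidHom.transfer (MonoidHom.id (T : Subgroup Y)) with hV
  have hnT : ¬ 3 ∣ (T : Subgroup Y).index := T.not_dvd_index
  have hkey : ∀ (k : ℕ) (g₀ : Y), g₀⁻¹ * a ^ k * g₀ ∈ (T : Subgroup Y) → g₀⁻¹ * a ^ k * g₀ = a ^ k := by
    intro k g₀ hg
    obtain ⟨n, hn, e⟩ := T.conj_eq_normalizer_conj_of_mem (a ^ k) g₀ (pow_mem haT k) hg
    have hcomm : n * a ^ k = a ^ k * n := by
      rcases hdec n hn with hn' | ⟨t, ht, rfl⟩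
      · exact h.comm n hn' _ (pow_mem haT k)
      · have e1 : u * a ^ k = a ^ k * u := (Commute.pow_right (mul_inv_eq_iff_eq_mul.1 hua) k).eq
        rw [mul_assoc, e1, ← mul_assoc, h.comm t ht _ (pow_mem haT k), mul_assoc]
    rw [e, mul_assoc, ← hcomm, inv_mul_cancel_left]
  have hVa : ∀ i : ℤ, V a ^ i = 1 → a ^ i = 1 := by
    intro i hi
    rw [hV, MonoidHom.transfer_eq_pow _ a hkey] at hi
    have h1 : (a ^ (T : Subgroup Y).index) ^ i = 1 := congrArg Subtype.val hi
    rw [← zpow_natCast, ← zpow_mul, ← orderOf_dvd_iff_zpow_eq_one, orderOf_eq_prime (h.cube a haT) ha1] at h1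
    rw [← orderOf_dvd_iff_zpow_eq_one, orderOf_eq_prime (h.cube a haT) ha1]
    refine ((Nat.prime_iff_prime_int.1 Nat.prime_three).dvd_mul.1 h1).resolve_left fun hd => hnT ?_
    exact_mod_cast hd
  have hT2 : ∀ y : (T : Subgroup Y), y * y = 1 → y = 1 := fun y e =>
    Subtype.ext (hsq _ y.2 (congrArg Subtype.val e))
  have hVu : V u = 1 := hT2 _ (by rw [← map_mul, hu2, map_one])
  have hVb : V b = 1 := hT2 _ (by
    have e : V b⁻¹ = V b := by rw [← hub, map_mul, map_mul, map_inv, hVu, one_mul, inv_one, mul_one]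
    nth_rewrite 1 [← e]
    rw [← map_mul, inv_mul_cancel, map_one])
  set H := V.ker with hH
  have hC : ∀ g ∈ H, g * b = b * g → g ∈ zpowers b := by
    intro g hg hgb
    have hgN : g ∈ N := h.loc b hbT hb1 (mem_centralizer_singleton_iff.2 hgb)
    have hTdec : ∀ t ∈ (T : Subgroup Y), ∃ i j : ℤ, t = a ^ i * b ^ j := by
      intro t ht
      rw [hgen, ← SetLike.mem_coe] at ht
      have hnorm : zpowers b ≤ normalizer (zpowers a : Set Y) := zpowers_le.2 (mem_normalizer_fintype fun y hy => by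
        obtain ⟨i, rfl⟩ := mem_zpowers_iff.1 hy
        rw [h.comm b hbT _ (zpow_mem haT i), mul_inv_cancel_right]
        exact zpow_mem (mem_zpowers a) i)
      rw [← sup_comm, coe_mul_of_left_le_normalizer_right _ _ hnorm] at ht
      obtain ⟨x, hx, y, hy, rfl⟩ := ht
      obtain ⟨j, rfl⟩ := mem_zpowers_iff.1 hx
      obtain ⟨i, rfl⟩ := mem_zpowers_iff.1 hy
      exact ⟨i, j, h.comm _ (zpow_mem hbT j) _ (zpow_mem haT i)⟩
    rw [hH, MonoidHom.mem_ker] at hg
    rcases hdec g hgN with hg' | ⟨t, ht, rfl⟩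
    · obtain ⟨i, j, rfl⟩ := hTdec g hg'
      rw [map_mul, map_zpow, map_zpow, hVb, one_zpow, mul_one] at hg
      rw [hVa i hg, one_mul]
      exact zpow_mem (mem_zpowers b) j
    · exfalso
      have e1 : t * u * b * (t * u)⁻¹ = b := mul_inv_eq_iff_eq_mul.2 hgb
      rw [show t * u * b * (t * u)⁻¹ = t * (u * b * u⁻¹) * t⁻¹ by group, hub,
        h.comm t ht _ (inv_mem hbT), mul_inv_cancel_right] at e1
      exact hb1 (hsq b hbT (by nth_rewrite 1 [← e1]; exact inv_mul_cancel b))
  have h6 : Nat.card H ≤ 6 := card_le_six (b := b) hVb (h.cube b hbT) hb1 hC T.2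
    (fun _ _ => le_normalizer_of_normal (mem_top _)) fun R _ h3 hR => h.free h3 hR
  have hY : Nat.card Y = Nat.card H * Nat.card V.range := by
    rw [← index_ker, ← hH, card_mul_index]
  have hr : Nat.card V.range ∣ 9 := by
    rw [← h.card]; exact card_subgroup_dvd_card _
  have h18 : 18 ∣ Nat.card Y := hN ▸ card_subgroup_dvd_card N
  have h27 : ¬ 27 ∣ Nat.card Y := fun hd => by
    have := T.pow_dvd_card_of_pow_dvd_card (n := 3) hd
    rw [h.card] at this
    omega
  refine eq_top_of_card_eq _ ?_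
  rw [hN]
  rw [hY] at h18 h27 ⊢
  have h3H : 3 ∣ Nat.card H := by
    have := H.orderOf_dvd_natCard (show b ∈ H from hVb)
    rwa [orderOf_eq_prime (h.cube b hbT) hb1] at this
  have : Nat.card V.range = 1 ∨ Nat.card V.range = 3 ∨ Nat.card V.range = 9 := by
    obtain ⟨i, hi, e⟩ := (Nat.dvd_prime_pow Nat.prime_three).1 (show Nat.card V.range ∣ 3 ^ 2 from hr)
    interval_cases i <;> rw [e] <;> norm_num
  rcases this with e | e | e <;> rw [e] at h18 h27 ⊢ <;> omega

end Nine

end Cfsg.Agent.Sym9ThreeLocal
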