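import Cfsg.Agent.Sym9ThreeLocal.Model
import Cfsg.Agent.A9ThreeLocal.Basic
import Mathlib.GroupTheory.Sylow
import Mathlib.GroupTheory.Nilpotent

/-!
# The configuration, and control of fusion in the elementary subgroup
-/

set_option autoImplicit false
set_option synthInstance.maxSize 4000
set_option synthInstance.maxHeartbeats 400000

namespace Cfsg.Agent.Sym9ThreeLocal

open Subgroup

universe u

/-- An element of the automiser fixing a nontrivial vector up to sign and not conjugate to the diagonal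
one has no part of order three. -/
def XLike (k : Kind) (v : A) : Prop := ∃ q : W, inK k q ∧ (act q xA = v ∨ act q xA = v⁻¹)

instance (k : Kind) (v : A) : Decidable (XLike k v) := by unfold XLike; infer_instance

theorem xLike_self : ∀ k, XLike k xA := by decide +kernel

theorem three_free : ∀ k, ∀ v : A, v ≠ 1 → ¬ XLike k v →
    ∀ q : W, inK k q → act q v = v → q ^ 3 = 1 → q = 1 := by
  decide +kernel

theorem abelian_small : ∀ m : Mf, m.right.left = 1 → m.right ≠ 1 → m ^ 27 = 1 →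
    (Finset.univ.filter fun n : Mf => n.right.left = 1 ∧ n * m = m * n).card < 27 := by
  decide +kernel

/-- The configuration. -/
structure Conf (G : Type u) [Group G] where
  /-- The kind of the automiser. -/
  k : Kind
  /-- The normaliser of the elementary subgroup. -/
  φ : Mk k →* G
  inj : Function.Injective φ
  norm : ∀ g : G, (∀ a : A, ∃ b : A, g * φ (inlA k a) * g⁻¹ = φ (inlA k b)) → g ∈ φ.range
  centX : centralizer ({φ (inlA k xA)} : Set G) ≤ φ.range
  sig : ∀ H : Subgroup G, (Nat.card H).Coprime 3 →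
    (∀ a : A, H.map (MulAut.conj (φ (inlA k a))).toMonoidHom = H) → H = ⊥

namespace Conf

variable {G : Type u} [Group G] (h : Conf G)

/-- The embedding of the elementary group. -/
def j : A →* G := h.φ.comp (inlA h.k)

/-- The embedding of the automiser. -/
def q : KG h.k →* G := h.φ.comp (inrK h.k)

/-- The element of order three whose centraliser is given. -/
abbrev x : G := h.j xA

/-- The elementary subgroup. -/
def J : Subgroup G := h.j.range

/-- Its normaliser. -/
def N : Subgroup G := h.φ.range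

theorem j_inj : Function.Injective h.j := h.inj.comp fun a b e =>
  SemidirectProduct.inl_injective (congrArg Subtype.val e)

theorem q_inj : Function.Injective h.q := h.inj.comp fun a b e =>
  Subtype.ext (SemidirectProduct.inr_injective (congrArg Subtype.val e))

theorem j_mem (a : A) : h.j a ∈ h.J := ⟨a, rfl⟩

theorem q_mem_N (w : KG h.k) : h.q w ∈ h.N := ⟨_, rfl⟩

theorem j_mem_N (a : A) : h.j a ∈ h.N := ⟨_, rfl⟩

theorem J_le_N : h.J ≤ h.N := by rintro _ ⟨a, rfl⟩; exact h.j_mem_N a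

theorem j_comm (a b : A) : h.j a * h.j b = h.j b * h.j a := by rw [← map_mul, ← map_mul, mul_comm]

theorem J_comm : ∀ a ∈ h.J, ∀ b ∈ h.J, a * b = b * a := by
  rintro _ ⟨a, rfl⟩ _ ⟨b, rfl⟩; exact h.j_comm a b

theorem J_cube : ∀ a ∈ h.J, a ^ 3 = 1 := by
  rintro _ ⟨a, rfl⟩
  rw [← map_pow, A_cube, map_one]

theorem J_card : Nat.card h.J = 27 := by
  rw [← card_A]; exact (Nat.card_congr (MonoidHom.ofInjective h.j_inj).toEquiv).symm

theorem j_ne {a : A} (ha : a ≠ 1) : h.j a ≠ 1 := fun e => ha (h.j_inj (e.trans h.j.map_one.symm))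

theorem order_j {a : A} (ha : a ≠ 1) : orderOf (h.j a) = 3 := by
  haveI : Fact (Nat.Prime 3) := ⟨Nat.prime_three⟩
  exact orderOf_eq_prime (h.J_cube _ (h.j_mem a)) (h.j_ne ha)

theorem conj_j (w : KG h.k) (a : A) : h.q w * h.j a * (h.q w)⁻¹ = h.j (act w a) := by
  show h.φ (inrK h.k w) * h.φ (inlA h.k a) * (h.φ (inrK h.k w))⁻¹ = h.φ (inlA h.k (act w a))
  rw [← map_inv, ← map_mul, ← map_mul]
  congr 1
  refine Subtype.ext ?_
  show SemidirectProduct.inr (w : W) * SemidirectProduct.inl a * (SemidirectProduct.inr (w : W))⁻¹ =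
    (SemidirectProduct.inl (act w a) : Mf)
  rw [← map_inv, ← SemidirectProduct.inl_aut, theta_apply]

/-- Every element of the normaliser is a translation times an element of the automiser. -/
theorem exists_split {g : G} (hg : g ∈ h.N) : ∃ (a : A) (w : KG h.k), g = h.j a * h.q w := by
  obtain ⟨m, rfl⟩ := hg
  exact ⟨m.1.left, ⟨m.1.right, m.2⟩, by
    show h.φ m = h.φ (inlA h.k m.1.left) * h.φ (inrK h.k _)
    rw [← map_mul, ← Mk_split]⟩

theorem mem_N_iff {g : G} : g ∈ h.N ↔ ∀ a : A, ∃ b : A, g * h.j a * g⁻¹ = h.j b := by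
  refine ⟨fun hg a => ?_, fun hg => h.norm g hg⟩
  obtain ⟨c, w, rfl⟩ := h.exists_split hg
  refine ⟨act w a, ?_⟩
  calc h.j c * h.q w * h.j a * (h.j c * h.q w)⁻¹ = h.j c * (h.q w * h.j a * (h.q w)⁻¹) * (h.j c)⁻¹ := by group
    _ = _ := by rw [h.conj_j, h.j_comm, mul_inv_cancel_right]

theorem N_eq [Finite G] : h.N = normalizer (h.J : Set G) := by
  ext g
  rw [h.mem_N_iff]
  constructor
  · intro hg
    refine mem_normalizer_fintype fun y hy => ?_
    obtain ⟨a, rfl⟩ := hy
    obtain ⟨b, hb⟩ := hg a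
    exact ⟨b, hb.symm⟩
  · intro hg a
    obtain ⟨b, hb⟩ := (mem_normalizer_iff.1 hg _).1 (h.j_mem a)
    exact ⟨b, hb.symm⟩

/-- The action of an element of the normaliser on the elementary subgroup. -/
theorem exists_act {g : G} (hg : g ∈ h.N) :
    ∃ w : KG h.k, (∀ a, g * h.j a * g⁻¹ = h.j (act w a)) ∧ ∃ c, g = h.j c * h.q w := by
  obtain ⟨c, w, rfl⟩ := h.exists_split hg
  refine ⟨w, fun a => ?_, c, rfl⟩
  calc h.j c * h.q w * h.j a * (h.j c * h.q w)⁻¹ = h.j c * (h.q w * h.j a * (h.q w)⁻¹) * (h.j c)⁻¹ := by group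
    _ = _ := by rw [h.conj_j, h.j_comm, mul_inv_cancel_right]

/-- The elementary subgroup is self-centralising. -/
theorem cent_J {g : G} (hg : ∀ a, g * h.j a = h.j a * g) : g ∈ h.J := by
  have hN : g ∈ h.N := h.mem_N_iff.2 fun a => ⟨a, by rw [hg a, mul_inv_cancel_right]⟩
  obtain ⟨w, hw, c, rfl⟩ := h.exists_act hN
  have h1 : (w : W) = 1 := act_inj _ fun a => h.j_inj (by rw [← hw a, hg a, mul_inv_cancel_right])
  rw [show w = 1 from Subtype.ext h1, map_one, mul_one]
  exact h.j_mem c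

variable [Finite G]

/-- The elementary subgroup is the only abelian subgroup of its order in the given centraliser. -/
theorem eq_J {T : Subgroup G} (hT : T ≤ centralizer ({h.x} : Set G)) (hc : ∀ a ∈ T, ∀ b ∈ T, a * b = b * a)
    (h27 : Nat.card T = 27) : T = h.J := by
  classical
  refine eq_of_le_of_card_ge (fun y hy => ?_) (by rw [h.J_card, h27])
  by_contra hne
  have hlift : ∀ t : T, ∃ m : Mk h.k, h.φ m = (t : G) ∧ m.1.right.left = 1 := fun t => by
    obtain ⟨m, hm⟩ := h.centX (hT t.2)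
    refine ⟨m, hm, (fix_xA _).1 (h.j_inj ?_)⟩
    have e := mem_centralizer_singleton_iff.1 (hT t.2)
    rw [← h.conj_j ⟨m.1.right, m.2⟩]
    have hsplit : (t : G) = h.j m.1.left * h.q ⟨m.1.right, m.2⟩ := by
      show _ = h.φ (inlA h.k m.1.left) * h.φ (inrK h.k _)
      rw [← map_mul, ← Mk_split, hm]
    rw [hsplit, mul_assoc, ← mul_assoc (h.x), h.j_comm, mul_assoc (h.j _)] at e
    exact mul_inv_eq_iff_eq_mul.2 (mul_left_cancel e)
  obtain ⟨m, hm, hml⟩ := hlift ⟨y, hy⟩
  have hr : m.1.right ≠ 1 := fun e => hne ⟨m.1.left, by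
    show h.φ (inlA h.k m.1.left) = y
    refine Eq.trans ?_ hm; congr 1
    exact Subtype.ext (SemidirectProduct.ext rfl e.symm)⟩
  have h27m : m.1 ^ 27 = 1 := by
    have hy27 : y ^ 27 = 1 := orderOf_dvd_iff_pow_eq_one.1 (h27 ▸ T.orderOf_dvd_natCard hy)
    have : m ^ 27 = 1 := h.inj (by rw [map_pow, hm, hy27, map_one])
    exact congrArg Subtype.val this
  have hlt := abelian_small m.1 hml hr h27m
  choose f hf hfl using hlift
  have hle : Nat.card T ≤ (Finset.univ.filter fun n : Mf => n.right.left = 1 ∧ n * m.1 = m.1 * n).card := by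
    rw [← Fintype.card_subtype, ← Nat.card_eq_fintype_card]
    refine Nat.card_le_card_of_injective (fun t => ⟨(f t).1, hfl t, ?_⟩) fun s t e => ?_
    · exact congrArg Subtype.val (show f t * m = m * f t from
        h.inj (by rw [map_mul, map_mul, hf, hm]; exact hc _ t.2 _ hy))
    · have e' : f s = f t := Subtype.ext (congrArg Subtype.val e :)
      exact Subtype.ext (by rw [← hf s, ← hf t, e'])
  omega

/-- The elementary subgroup lies in the centraliser of each of its elements. -/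
theorem J_le_cent (v : A) : h.J ≤ centralizer ({h.j v} : Set G) := by
  rintro _ ⟨a, rfl⟩
  exact mem_centralizer_singleton_iff.2 (h.j_comm a v)

/-- The normaliser of the given line is inside the normaliser of the elementary subgroup. -/
theorem mem_N_of_line {g : G} (hg : g * h.x * g⁻¹ = h.x ∨ g * h.x * g⁻¹ = h.x⁻¹) : g ∈ h.N := by
  have hle : h.J.map (MulAut.conj g).toMonoidHom ≤ centralizer ({h.x} : Set G) := by
    rintro _ ⟨y, hy, rfl⟩
    have e : MulAut.conj g h.x * MulAut.conj g y = MulAut.conj g y * MulAut.conj g h.x := by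
      rw [← map_mul, ← map_mul, h.J_comm _ (h.j_mem xA) _ hy]
    rw [MulAut.conj_apply g h.x] at e
    rcases hg with e' | e' <;> rw [e'] at e
    · exact mem_centralizer_singleton_iff.2 e.symm
    · exact mem_centralizer_singleton_iff.2 (Commute.inv_right_iff.1 e.symm)
  have he := h.eq_J hle (by
    rintro _ ⟨a, ha, rfl⟩ _ ⟨b, hb, rfl⟩
    rw [← map_mul, ← map_mul, h.J_comm a ha b hb]) (by
    rw [card_map_of_injective (MulAut.conj g).injective, h.J_card])
  exact h.mem_N_iff.2 fun a => by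
    obtain ⟨b, hb⟩ : g * h.j a * g⁻¹ ∈ h.J := he ▸ ⟨_, h.j_mem a, rfl⟩
    exact ⟨b, hb.symm⟩

/-- The centraliser of a vector like the diagonal one is local. -/
theorem cent_xLike {v : A} (hv : XLike h.k v) : centralizer ({h.j v} : Set G) ≤ h.N := by
  intro g hg
  obtain ⟨w, hw, e⟩ := hv
  set n := h.q ⟨w, hw⟩ with hn
  have hv' : g * (n * h.x * n⁻¹) * g⁻¹ = n * h.x * n⁻¹ := by
    have h1 := mem_centralizer_singleton_iff.1 hg
    rw [h.conj_j]
    rcases e with e | e
    · rw [e, h1, mul_inv_cancel_right]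
    · rw [e, map_inv, (show Commute g (h.j v)⁻¹ from Commute.inv_right h1).eq, mul_inv_cancel_right]
  have : n⁻¹ * g * n ∈ h.N := h.mem_N_of_line (Or.inl (by
    calc n⁻¹ * g * n * h.x * (n⁻¹ * g * n)⁻¹ = n⁻¹ * (g * (n * h.x * n⁻¹) * g⁻¹) * n := by group
      _ = h.x := by rw [hv']; group))
  simpa [mul_assoc, hn] using mul_mem (mul_mem (h.q_mem_N ⟨w, hw⟩) this) (inv_mem (h.q_mem_N ⟨w, hw⟩))

/-- A three-subgroup centralising a vector unlike the diagonal one is abelian. -/
theorem pgroup_eq_J {v : A} (hv : v ≠ 1) (hx : ¬ XLike h.k v) {P : Subgroup G} (hP : IsPGroup 3 P)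
    (hJ : h.J ≤ P) (hc : P ≤ centralizer ({h.j v} : Set G)) : P = h.J := by
  haveI : Fact (Nat.Prime 3) := ⟨Nat.prime_three⟩
  refine le_antisymm ?_ hJ
  by_contra hne
  have hlt : h.J.subgroupOf P < ⊤ :=
    lt_top_iff_ne_top.2 fun e => hne (subgroupOf_eq_top.1 e)
  haveI : Group.IsNilpotent P := hP.isNilpotent
  obtain ⟨g, hgN, hgJ⟩ := SetLike.exists_of_lt (Group.normalizerCondition_of_isNilpotent _ hlt)
  have hgN' : (g : G) ∈ h.N := by
    rw [h.N_eq]
    exact mem_normalizer_fintype fun y hy => (mem_normalizer_iff.1 hgN ⟨y, hJ hy⟩).1 hy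
  obtain ⟨w, hw, c, hgc⟩ := h.exists_act hgN'
  have hfix : act w v = v := h.j_inj (by
    rw [← hw, mem_centralizer_singleton_iff.1 (hc g.2), mul_inv_cancel_right])
  have hqP : h.q w ∈ P := by
    have : h.q w = (h.j c)⁻¹ * g := by rw [hgc, inv_mul_cancel_left]
    rw [this]; exact mul_mem (inv_mem (hJ (h.j_mem c))) g.2
  obtain ⟨i, hi⟩ := hP ⟨_, hqP⟩
  have hi' : w ^ 3 ^ i = 1 := h.q_inj (by
    rw [map_pow, map_one]; exact congrArg Subtype.val hi)
  have hw1 : ∀ n, w ^ 3 ^ n = 1 → w = 1 := by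
    intro n
    induction n with
    | zero => simp
    | succ n ih =>
      intro e
      rw [pow_succ, pow_mul] at e
      refine ih (Subtype.ext (three_free h.k v hv hx _ ((w ^ 3 ^ n) : KG h.k).2 ?_ (congrArg Subtype.val e :)))
      clear e ih
      induction 3 ^ n with
      | zero => simp [act_one]
      | succ m ih => rw [pow_succ, Subgroup.coe_mul, act_mul, hfix, ih]
  rw [hw1 i hi', map_one, mul_one] at hgc
  exact hgJ (mem_subgroupOf.2 (hgc ▸ h.j_mem c))

/-- Fusion in the elementary subgroup is controlled by its normaliser. -/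
theorem ctrl {g : G} {v v' : A} (hv : v ≠ 1) (he : g * h.j v * g⁻¹ = h.j v') :
    ∃ w : W, inK h.k w ∧ act w v = v' := by
  haveI : Fact (Nat.Prime 3) := ⟨Nat.prime_three⟩
  have hv' : v' ≠ 1 := fun e => h.j_ne hv (conj_eq_one_iff.1 (by rw [he, e, map_one]))
  have key : ∀ (g : G) (v v' : A), v' ≠ 1 → ¬ XLike h.k v' → g * h.j v * g⁻¹ = h.j v' →
      ∃ w : W, inK h.k w ∧ act w v = v' := by
    intro g v v' hv' hx he
    set C := centralizer ({h.j v'} : Set G) with hC
    have hJC' : h.J.map (MulAut.conj g).toMonoidHom ≤ C := by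
      rintro _ ⟨y, hy, rfl⟩
      rw [hC, mem_centralizer_singleton_iff, ← he]
      show MulAut.conj g y * MulAut.conj g (h.j v) = MulAut.conj g (h.j v) * MulAut.conj g y
      rw [← map_mul, ← map_mul, h.J_comm y hy _ (h.j_mem v)]
    have hJ3 : IsPGroup 3 h.J := IsPGroup.of_card (n := 3) (by rw [h.J_card]; norm_num)
    obtain ⟨P, hP⟩ := (hJ3.comap_subtype (K := C)).exists_le_sylow
    obtain ⟨R, hR⟩ := ((hJ3.map (MulAut.conj g).toMonoidHom).comap_subtype (K := C)).exists_le_sylow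
    obtain ⟨c, hc⟩ := MulAction.exists_smul_eq C R P
    have hJP : h.J ≤ (P : Subgroup C).map C.subtype := fun y hy => ⟨⟨y, h.J_le_cent v' hy⟩, hP hy, rfl⟩
    have hPJ := h.pgroup_eq_J hv' hx (P.2.map C.subtype) hJP (map_subtype_le _)
    have hT : h.J.map (MulAut.conj ((c : G) * g)).toMonoidHom ≤ h.J := by
      rintro _ ⟨y, hy, rfl⟩
      rw [← hPJ]
      have hmem : (⟨g * y * g⁻¹, hJC' ⟨y, hy, rfl⟩⟩ : C) ∈ (R : Subgroup C) := hR ⟨y, hy, rfl⟩
      refine ⟨c * ⟨g * y * g⁻¹, hJC' ⟨y, hy, rfl⟩⟩ * c⁻¹, ?_, ?_⟩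
      · rw [← hc, Sylow.coe_subgroup_smul]; exact ⟨_, hmem, rfl⟩
      · simp [mul_assoc]
    have hN : (c : G) * g ∈ h.N := h.mem_N_iff.2 fun a => by
      obtain ⟨b, hb⟩ := hT ⟨_, h.j_mem a, rfl⟩
      exact ⟨b, hb.symm⟩
    obtain ⟨w, hw, -⟩ := h.exists_act hN
    refine ⟨w, w.2, h.j_inj ?_⟩
    rw [← hw]
    calc (c : G) * g * h.j v * ((c : G) * g)⁻¹ = (c : G) * (g * h.j v * g⁻¹) * (c : G)⁻¹ := by group
      _ = h.j v' := by rw [he, mem_centralizer_singleton_iff.1 c.2, mul_inv_cancel_right]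
  by_cases hx' : XLike h.k v'
  swap
  · exact key g v v' hv' hx' he
  by_cases hx : XLike h.k v
  swap
  · obtain ⟨w, hw, e⟩ := key g⁻¹ v' v hv hx (by rw [← he]; group)
    exact ⟨w⁻¹, inK_inv _ _ hw, by rw [← e, ← act_mul, inv_mul_cancel, act_one]⟩
  obtain ⟨w, hw, e⟩ := hx
  obtain ⟨w', hw', e'⟩ := hx'
  set n := h.q ⟨w, hw⟩
  set n' := h.q ⟨w', hw'⟩
  have hg : n'⁻¹ * g * n ∈ h.N := by
    refine h.mem_N_of_line ?_
    have h1 : n * h.x * n⁻¹ = h.j v ∨ n * h.x * n⁻¹ = (h.j v)⁻¹ := by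
      rw [h.conj_j, ← map_inv]; exact e.imp (congrArg _) (congrArg _)
    have h2 : n'⁻¹ * h.j v' * n' = h.x ∨ n'⁻¹ * h.j v' * n' = h.x⁻¹ := by
      have h3 : n' * h.x * n'⁻¹ = h.j v' ∨ n' * h.x * n'⁻¹ = (h.j v')⁻¹ := by
        rw [h.conj_j, ← map_inv]; exact e'.imp (congrArg _) (congrArg _)
      rcases h3 with h3 | h3
      · exact Or.inl (by rw [← h3]; group)
      · exact Or.inr (by rw [← inv_inv (h.j v'), ← h3]; group)
    have hcalc : n'⁻¹ * g * n * h.x * (n'⁻¹ * g * n)⁻¹ = n'⁻¹ * (g * (n * h.x * n⁻¹) * g⁻¹) * n' := by group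
    rcases h1 with h1 | h1 <;> rw [hcalc, h1]
    · rw [he]; exact h2
    · rw [show g * (h.j v)⁻¹ * g⁻¹ = (h.j v')⁻¹ by rw [← he]; group,
        show n'⁻¹ * (h.j v')⁻¹ * n' = (n'⁻¹ * h.j v' * n')⁻¹ by group]
      rcases h2 with h2 | h2 <;> rw [h2]
      · exact Or.inr rfl
      · exact Or.inl (inv_inv _)
  have hgN : g ∈ h.N := by
    have := mul_mem (mul_mem (h.q_mem_N ⟨w', hw'⟩) hg) (inv_mem (h.q_mem_N ⟨w, hw⟩))
    simpa [mul_assoc, n, n'] using this
  obtain ⟨u, hu, -⟩ := h.exists_act hgN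
  exact ⟨u, u.2, h.j_inj (by rw [← hu]; exact he)⟩

end Conf

end Cfsg.Agent.Sym9ThreeLocal
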