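import Cfsg.Agent.Sym9ThreeLocal.FourIndex
import Cfsg.Agent.Sym9ThreeLocal.KindTwo

/-!
# The third kind: fusion of elements of order three
-/

set_option autoImplicit false
set_option synthInstance.maxSize 4000
set_option synthInstance.maxHeartbeats 400000

namespace Cfsg.Agent.Sym9ThreeLocal

open Cfsg Cfsg.Agent Subgroup

universe u

/-- Another sign change. -/
def wd2 : W := wq 1 0 1 (.r 0)

theorem four_not_neg : (∀ q : W, inK .four q → act q xA ≠ xA⁻¹) ∧ inK .four wd2 ∧ parFun wd2 = 0 ∧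
    wd2 * wd2 = 1 ∧ wd2 ≠ 1 ∧ wd2 ≠ wd1 ∧ wd2 * wd1 = wd1 * wd2 ∧ parFun wc = 0 := by
  decide +kernel

theorem klein_local : ∀ m : Mf, inK .four m.right → parFun m.right = 0 →
    m * SemidirectProduct.inl e1 = SemidirectProduct.inl e1 * m →
    m * SemidirectProduct.inr wd1 = SemidirectProduct.inr wd1 * m → m * m = 1 →
    m = 1 ∨ m = SemidirectProduct.inr wd1 := by
  decide +kernel

theorem cube_even : ∀ m : Mf, m.right.left = 1 → m * SemidirectProduct.inr wc * m⁻¹ = (SemidirectProduct.inr wc)⁻¹ →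
    parFun m.right ≠ 0 := by
  decide +kernel

namespace Conf

variable {G : Type u} [Group G] [Finite G] (h : Conf G)

theorem x_not_real (hk : h.k = .four) (g : G) : g * h.x * g⁻¹ ≠ h.x⁻¹ := by
  intro e
  obtain ⟨w, hw, hwx⟩ := h.ctrl (v' := xA⁻¹) xA_ne (by rw [map_inv]; exact e)
  exact four_not_neg.1 w (hk ▸ hw) hwx

/-- The cycle is not conjugate into the elementary subgroup. -/
theorem cyc_not_J (F : h.Facts) (hk : h.k = .four) (a : A) : ¬ IsConj h.cyc (h.j a) := by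
  intro hc
  obtain ⟨g, hg⟩ := isConj_iff.1 hc
  have ha : a ≠ 1 := fun e => h.cyc_notMem (by
    rw [e, map_one, conj_eq_one_iff] at hg
    rw [hg]; exact one_mem _)
  have hga : g⁻¹ * h.j a * g⁻¹⁻¹ = h.cyc := by rw [← hg]; group
  obtain ⟨w, hw, hwv⟩ := h.xLike_of_conj F (by rw [hk]; decide) h.cyc_x h.cyc_notMem ha hga
  have hgw : g⁻¹ * h.q ⟨w, hw⟩ * h.x * (g⁻¹ * h.q ⟨w, hw⟩)⁻¹ = h.cyc ∨
      g⁻¹ * h.q ⟨w, hw⟩ * h.x * (g⁻¹ * h.q ⟨w, hw⟩)⁻¹ = h.cyc⁻¹ := by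
    rw [show g⁻¹ * h.q ⟨w, hw⟩ * h.x * (g⁻¹ * h.q ⟨w, hw⟩)⁻¹ =
      g⁻¹ * (h.q ⟨w, hw⟩ * h.x * (h.q ⟨w, hw⟩)⁻¹) * g⁻¹⁻¹ by group, h.conj_j]
    rcases hwv with e | e <;> rw [e]
    · exact Or.inl hga
    · exact Or.inr (by rw [map_inv, ← conj_inv, hga])
  obtain ⟨k, -, hkx, hkc⟩ := h.line_swap hgw
  have hsq : k * k * h.x * (k * k)⁻¹ = k * (k * h.x * k⁻¹) * k⁻¹ := by group
  have hinv : ∀ y : G, k * y⁻¹ * k⁻¹ = (k * y * k⁻¹)⁻¹ := fun y => conj_inv.symm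
  obtain ⟨t, ht, htx⟩ := eF_shift (Multiplicative.ofAdd (1, 1)) (by decide)
  have hax : h.j t * h.x * (h.j t)⁻¹ = h.x := mul_inv_eq_iff_eq_mul.2 (h.j_comm t xA)
  have hac : h.j t * h.cyc * (h.j t)⁻¹ = h.x * h.cyc := by
    rw [← h.ee_cyc]
    conv_rhs => rw [← h.ee_x, ← map_mul]
    refine h.phi_conj (m := inlA h.k t) (a := h.eM _) ?_
    rw [map_inv SemidirectProduct.inl] at ht
    exact ht
  set b := k * h.j t * k⁻¹ with hb
  suffices hbx : b * h.x * b⁻¹ = h.cyc * h.x ∧ b * h.cyc * b⁻¹ = h.cyc by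
    have hb1 : b⁻¹ * h.x * b = h.cyc⁻¹ * h.x := by
      have e : h.x = h.cyc * (b⁻¹ * h.x * b) := by
        calc h.x = b⁻¹ * (b * h.x * b⁻¹) * b := by group
          _ = b⁻¹ * (h.cyc * h.x) * b := by rw [hbx.1]
          _ = b⁻¹ * (b * h.cyc * b⁻¹) * h.x * b := by rw [hbx.2]; group
          _ = _ := by group
      conv_rhs => rw [e]
      group
    have hb2 : b⁻¹ * h.cyc * b = h.cyc := by
      calc b⁻¹ * h.cyc * b = b⁻¹ * (b * h.cyc * b⁻¹) * b := by rw [hbx.2]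
        _ = h.cyc := by group
    set s := h.j t * b⁻¹ * h.j t with hs
    have hsx : s * h.x * s⁻¹ = h.cyc⁻¹ := by
      calc s * h.x * s⁻¹ = h.j t * (b⁻¹ * (h.j t * h.x * (h.j t)⁻¹) * b) * (h.j t)⁻¹ := by rw [hs]; group
        _ = h.j t * (h.cyc⁻¹ * h.x) * (h.j t)⁻¹ := by rw [hax, hb1]
        _ = (h.j t * h.cyc * (h.j t)⁻¹)⁻¹ * (h.j t * h.x * (h.j t)⁻¹) := by group
        _ = h.cyc⁻¹ := by rw [hac, hax, mul_inv_rev]; group
    have hsc : s * h.cyc * s⁻¹ = h.x := by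
      calc s * h.cyc * s⁻¹ = h.j t * (b⁻¹ * (h.j t * h.cyc * (h.j t)⁻¹) * b) * (h.j t)⁻¹ := by rw [hs]; group
        _ = h.j t * ((b⁻¹ * h.x * b) * (b⁻¹ * h.cyc * b)) * (h.j t)⁻¹ := by rw [hac]; group
        _ = h.j t * h.x * (h.j t)⁻¹ := by
          rw [hb1, hb2, mul_assoc h.cyc⁻¹, ← h.cyc_x, inv_mul_cancel_left]
        _ = h.x := hax
    refine h.x_not_real hk (s * s) ?_
    rw [show s * s * h.x * (s * s)⁻¹ = s * (s * h.x * s⁻¹) * s⁻¹ by group, hsx, ← conj_inv, hsc]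
  have hbconj : ∀ y y' z : G, k * y * k⁻¹ = z → h.j t * y * (h.j t)⁻¹ = y' → b * z * b⁻¹ = k * y' * k⁻¹ := by
    intro y y' z e e'
    rw [hb, ← e, ← e']; group
  rcases hkx with e | e <;> rcases hkc with e' | e'
  · exact ⟨by rw [hbconj _ _ _ e' hac, ← conj_mul, e, e'], by rw [hbconj _ _ _ e hax, e]⟩
  · exact absurd (by rw [hsq, e, e']) (h.x_not_real hk (k * k))
  · exact absurd (by rw [hsq, e, hinv, e']) (h.x_not_real hk (k * k))
  · refine ⟨?_, ?_⟩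
    · rw [← inv_inj, conj_inv, hbconj _ _ _ e' hac, ← conj_mul, e, e', mul_inv_rev]
      exact (show Commute h.cyc h.x from h.cyc_x).inv_inv.eq
    · rw [← inv_inj, conj_inv, hbconj _ _ _ e hax, e]

/-- An element sending the diagonal into the plane fixes it. -/
theorem conj_x_E (F : h.Facts) (hk : h.k = .four) {p : G} (hp : p * h.x * p⁻¹ ∈ h.E) : p * h.x * p⁻¹ = h.x := by
  obtain ⟨r, hr⟩ := hp
  rcases eF_cases r (fun e => h.j_ne xA_ne (conj_eq_one_iff.1 (hr.symm.trans (by rw [e, map_one])))) with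
    e | e | ⟨hr2, e⟩
  · rw [← hr, e, h.ee_x]
  · exact absurd (by rw [← hr, e, map_inv, h.ee_x]) (h.x_not_real hk p)
  exfalso
  obtain ⟨c, hc, -⟩ := eF_shift r hr2
  have hjc : h.j c * h.ee (Multiplicative.ofAdd (0, r.toAdd.2)) * (h.j c)⁻¹ = p * h.x * p⁻¹ := by
    rw [← hr]
    exact h.phi_conj (m := inlA h.k c) (a := h.eM _) (b := h.eM r) (by
      rw [map_inv SemidirectProduct.inl] at hc; exact hc)
  rcases e with e | e <;> rw [e] at hjc
  · rw [h.ee_cyc] at hjc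
    exact h.cyc_not_J F hk xA (isConj_iff.2 ⟨p⁻¹ * h.j c, by
      rw [show p⁻¹ * h.j c * h.cyc * (p⁻¹ * h.j c)⁻¹ = p⁻¹ * (h.j c * h.cyc * (h.j c)⁻¹) * p by group, hjc]
      group⟩)
  · rw [map_inv, h.ee_cyc, ← conj_inv, inv_eq_iff_eq_inv] at hjc
    exact h.cyc_not_J F hk xA⁻¹ (isConj_iff.2 ⟨p⁻¹ * h.j c, by
      rw [show p⁻¹ * h.j c * h.cyc * (p⁻¹ * h.j c)⁻¹ = p⁻¹ * (h.j c * h.cyc * (h.j c)⁻¹) * p by group, hjc,
        map_inv]
      group⟩)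

/-- The plane is a maximal three-subgroup of the centraliser of the cycle. -/
theorem cent_cyc_max (F : h.Facts) (hk : h.k = .four) {P : Subgroup G} (hP : IsPGroup 3 P) (hEP : h.E ≤ P)
    (hPc : P ≤ centralizer ({h.cyc} : Set G)) : P ≤ h.E := by
  haveI : Fact (Nat.Prime 3) := ⟨Nat.prime_three⟩
  by_contra hne
  have hlt : h.E.subgroupOf P < ⊤ := lt_top_iff_ne_top.2 fun e => hne (subgroupOf_eq_top.1 e)
  haveI : Group.IsNilpotent P := hP.isNilpotent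
  obtain ⟨g, hgN, hgE⟩ := SetLike.exists_of_lt (Group.normalizerCondition_of_isNilpotent _ hlt)
  refine hgE (mem_subgroupOf.2 (h.cent_E (mul_inv_eq_iff_eq_mul.1 ?_) (mem_centralizer_singleton_iff.1 (hPc g.2))))
  exact h.conj_x_E F hk ((mem_normalizer_iff.1 hgN ⟨h.x, hEP h.x_mem_E⟩).1 h.x_mem_E)

/-- No even element inverts the cycle. -/
theorem cyc_not_inv (F : h.Facts) (hk : h.k = .four) {χ : G →* ℤˣ}
    (hχ : ∀ m : Mk h.k, (χ (h.φ m) = 1 ↔ parFun m.1.right = 0)) {r : G} (hr : χ r = 1) :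
    r * h.cyc * r⁻¹ ≠ h.cyc⁻¹ := by
  haveI : Fact (Nat.Prime 3) := ⟨Nat.prime_three⟩
  intro hrc
  set K := centralizer ({h.cyc} : Set G) ⊓ χ.ker with hK
  have hEχ : h.E ≤ χ.ker := h.E_gen (MonoidHom.mem_ker.2 ((hχ (inlA h.k xA)).2 par_facts.1))
    (MonoidHom.mem_ker.2 ((hχ (inrK h.k ⟨wc, inK_wc h.k⟩)).2 four_not_neg.2.2.2.2.2.2.2))
  have hEK : h.E ≤ K := le_inf (fun e he => mem_centralizer_singleton_iff.2 (h.E_comm he h.cyc_mem_E)) hEχ
  have hEp : IsPGroup 3 h.E := fun a => ⟨1, Subtype.ext (by rw [pow_one]; exact h.E_cube a.2)⟩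
  let P0 : Sylow 3 K := ⟨h.E.subgroupOf K, hEp.comap_subtype, fun {Q} hQ hle => le_antisymm (fun y hy =>
    mem_subgroupOf.2 (h.cent_cyc_max F hk (hQ.map K.subtype) (fun e he => ⟨⟨e, hEK he⟩, hle he, rfl⟩)
      (fun z hz => by obtain ⟨z', -, rfl⟩ := hz; exact z'.2.1) ⟨y, hy, rfl⟩)) hle⟩
  have hrK : h.E.map (MulAut.conj r).toMonoidHom ≤ K := by
    rintro _ ⟨e, he, rfl⟩
    show r * e * r⁻¹ ∈ K
    refine ⟨mem_centralizer_singleton_iff.2 (Commute.inv_right_iff.1 ?_), ?_⟩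
    · rw [← hrc]
      exact (show Commute e h.cyc from h.E_comm he h.cyc_mem_E).map (MulAut.conj r).toMonoidHom
    · show χ (r * e * r⁻¹) = 1
      rw [map_mul, map_mul, MonoidHom.mem_ker.1 (hEχ he), map_inv, hr]
      simp
  obtain ⟨R, hR⟩ := ((hEp.map (MulAut.conj r).toMonoidHom).comap_subtype (K := K)).exists_le_sylow
  obtain ⟨c, hc⟩ := MulAction.exists_smul_eq K R P0
  have hmem : ∀ e ∈ h.E, (c : G) * r * e * ((c : G) * r)⁻¹ ∈ h.E := by
    intro e he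
    have h1 : (⟨r * e * r⁻¹, hrK ⟨e, he, rfl⟩⟩ : K) ∈ (R : Subgroup K) := hR ⟨e, he, rfl⟩
    have h2 : c * (⟨r * e * r⁻¹, hrK ⟨e, he, rfl⟩⟩ : K) * c⁻¹ ∈ (P0 : Subgroup K) := by
      rw [← hc, Sylow.coe_subgroup_smul]
      exact ⟨_, h1, rfl⟩
    have h3 : (c : G) * (r * e * r⁻¹) * (c : G)⁻¹ ∈ h.E := mem_subgroupOf.1 h2
    rwa [show (c : G) * r * e * ((c : G) * r)⁻¹ = (c : G) * (r * e * r⁻¹) * (c : G)⁻¹ by group]
  have hfix := h.conj_x_E F hk (hmem _ h.x_mem_E)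
  obtain ⟨m, hm, hml⟩ := h.cent_x_model (mul_inv_eq_iff_eq_mul.1 hfix)
  have hinv : h.φ m * h.cyc * (h.φ m)⁻¹ = h.cyc⁻¹ := by
    rw [hm, show (c : G) * r * h.cyc * ((c : G) * r)⁻¹ = (c : G) * (r * h.cyc * r⁻¹) * (c : G)⁻¹ by group, hrc,
      ← conj_inv, mem_centralizer_singleton_iff.1 c.2.1, mul_inv_cancel_right]
  have e : m * inrK h.k ⟨wc, inK_wc h.k⟩ * m⁻¹ = (inrK h.k ⟨wc, inK_wc h.k⟩)⁻¹ := h.inj (by
    rw [map_mul, map_mul, map_inv, map_inv]; exact hinv)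
  refine cube_even m.1 hml (congrArg Subtype.val e) ((hχ m).1 ?_)
  rw [hm, map_mul, MonoidHom.mem_ker.1 c.2.2, hr, one_mul]

/-- The four group has no element of order three in its centraliser. -/
theorem klein_cent (F : h.Facts) (hk : h.k = .four) {χ : G →* ℤˣ}
    (hχ : ∀ m : Mk h.k, (χ (h.φ m) = 1 ↔ parFun m.1.right = 0)) {y : G} (hy : y ^ 3 = 1)
    (h1 : y * h.q ⟨wd1, h.inK_d1 hk⟩ = h.q ⟨wd1, h.inK_d1 hk⟩ * y)
    (h2 : y * h.q ⟨wd2, hk ▸ four_not_neg.2.1⟩ = h.q ⟨wd2, hk ▸ four_not_neg.2.1⟩ * y) : y = 1 := by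
  haveI : Fact (Nat.Prime 3) := ⟨Nat.prime_three⟩
  obtain ⟨-, hn1, -, hfix1, hfix, hu, -⟩ := four_facts
  have hloc := h.cent_local F (by rw [hk]; decide) hn1
  have h9 := h.not_nine_dvd (i := ⟨wd1, h.inK_d1 hk⟩) hn1 hfix1 hfix hu hloc
  by_contra hne
  set d1 := h.q ⟨wd1, h.inK_d1 hk⟩ with hd1
  set d2 := h.q ⟨wd2, hk ▸ four_not_neg.2.1⟩ with hd2
  set C := centralizer ({d1} : Set G) with hC
  have hde : d1 * h.j e1 = h.j e1 * d1 :=
    mul_inv_eq_iff_eq_mul.1 ((h.conj_j _ e1).trans (congrArg h.j hfix1))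
  let z : C := ⟨h.j e1, mem_centralizer_singleton_iff.2 hde.symm⟩
  let w : C := ⟨y, mem_centralizer_singleton_iff.2 h1⟩
  have hz : orderOf z = 3 := by rw [orderOf_mk, h.order_j hn1]
  obtain ⟨P, hP⟩ := (IsPGroup.of_card (G := zpowers z) (n := 1) (by rw [Nat.card_zpowers, hz, pow_one])).exists_le_sylow
  obtain ⟨R, hR⟩ := (IsPGroup.of_card (G := zpowers w) (n := 1) (by
    rw [Nat.card_zpowers, orderOf_mk, orderOf_eq_prime hy hne, pow_one])).exists_le_sylow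
  have hPz : (P : Subgroup C) = zpowers z := by
    refine (eq_of_le_of_card_ge hP ?_).symm
    rw [Nat.card_zpowers, hz]
    obtain ⟨n, hn⟩ := P.2.exists_card_eq
    rw [hn]
    by_contra hlt
    have hn2 : 2 ≤ n := by
      by_contra hn2
      interval_cases n <;> norm_num at hlt
    exact h9 (dvd_trans (by rw [hn]; exact pow_dvd_pow 3 hn2) (card_subgroup_dvd_card (P : Subgroup C)))
  obtain ⟨c, hc⟩ := MulAction.exists_smul_eq C R P
  have hcy : (c : G) * y * (c : G)⁻¹ ∈ zpowers (h.j e1) := by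
    have h3 : c * w * c⁻¹ ∈ (P : Subgroup C) := by
      rw [← hc, Sylow.coe_subgroup_smul]
      exact ⟨w, hR (mem_zpowers w), rfl⟩
    rw [hPz] at h3
    obtain ⟨i, hi⟩ := mem_zpowers_iff.1 h3
    exact mem_zpowers_iff.2 ⟨i, congrArg Subtype.val hi⟩
  have hcd1 : (c : G) * d1 * (c : G)⁻¹ = d1 := by
    rw [mem_centralizer_singleton_iff.1 c.2, mul_inv_cancel_right]
  set u := (c : G) * d2 * (c : G)⁻¹ with hu'
  have hcu : (c : G) * y * (c : G)⁻¹ * u = u * ((c : G) * y * (c : G)⁻¹) :=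
    ((show Commute y d2 from h2).map (MulAut.conj (c : G)).toMonoidHom).eq
  have hue : u * h.j e1 = h.j e1 * u := by
    rcases A9ThreeLocal.zpowers_three_cases (h.J_cube _ (h.j_mem e1)) hcy with e | e | e
    · exact absurd (conj_eq_one_iff.1 e) hne
    · rw [← e]; exact hcu.symm
    · exact (Commute.inv_right_iff.1 (show Commute u (h.j e1)⁻¹ by rw [← e]; exact hcu.symm)).eq
  obtain ⟨m, hm⟩ := hloc (mem_centralizer_singleton_iff.2 hue)
  have hd12 : d2 * d1 = d1 * d2 := by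
    rw [hd1, hd2, ← map_mul, ← map_mul]
    exact congrArg h.q (Subtype.ext four_not_neg.2.2.2.2.2.2.1)
  have hu1 : u * d1 = d1 * u := by
    rw [← hcd1]
    exact ((show Commute d2 d1 from hd12).map (MulAut.conj (c : G)).toMonoidHom).eq
  have hu2 : u * u = 1 := by
    rw [hu', show (c : G) * d2 * (c : G)⁻¹ * ((c : G) * d2 * (c : G)⁻¹) = (c : G) * (d2 * d2) * (c : G)⁻¹ by group,
      h.q_sq (u := ⟨wd2, hk ▸ four_not_neg.2.1⟩) four_not_neg.2.2.2.1, mul_one, mul_inv_cancel]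
  have hpar : parFun m.1.right = 0 := by
    refine (hχ m).1 ?_
    have hχd : χ d2 = 1 := (hχ (inrK h.k ⟨wd2, hk ▸ four_not_neg.2.1⟩)).2 four_not_neg.2.2.1
    rw [hm, hu', map_mul, map_mul, hχd, mul_one,
      map_inv, mul_inv_cancel]
  rw [← hm] at hue hu1 hu2
  rcases klein_local m.1 (hk ▸ (show inK h.k m.1.right from m.2)) hpar
    (congrArg Subtype.val (h.inj ((map_mul h.φ _ _).trans (hue.trans (map_mul h.φ _ _).symm)) :
      m * inlA h.k e1 = inlA h.k e1 * m))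
    (congrArg Subtype.val (h.inj ((map_mul h.φ _ _).trans (hu1.trans (map_mul h.φ _ _).symm)) :
      m * inrK h.k ⟨wd1, h.inK_d1 hk⟩ = inrK h.k ⟨wd1, h.inK_d1 hk⟩ * m))
    (congrArg Subtype.val (h.inj ((map_mul h.φ _ _).trans (hu2.trans h.φ.map_one.symm)) : m * m = 1)) with e | e
  · have : u = 1 := by rw [← hm, show m = 1 from Subtype.ext e, map_one]
    exact four_not_neg.2.2.2.2.1 (congrArg Subtype.val (h.q_inj
      ((conj_eq_one_iff.1 this).trans h.q.map_one.symm) : (⟨wd2, _⟩ : KG h.k) = 1))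
  · have : u = d1 := by rw [← hm, show m = inrK h.k ⟨wd1, h.inK_d1 hk⟩ from Subtype.ext e]; rfl
    rw [← hcd1, hu'] at this
    exact four_not_neg.2.2.2.2.2.1 (congrArg Subtype.val (h.q_inj (mul_left_cancel (mul_right_cancel this))))

end Conf

end Cfsg.Agent.Sym9ThreeLocal
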