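import Cfsg.Agent.Sym9ThreeLocal.KindOne
import Cfsg.Agent.Sym9ThreeLocal.EightLocal

/-!
# The third kind: a subgroup of index two
-/

set_option autoImplicit false
set_option synthInstance.maxSize 4000
set_option synthInstance.maxHeartbeats 400000

namespace Cfsg.Agent.Sym9ThreeLocal

open Cfsg Cfsg.Agent Subgroup

universe u

/-- The sign change of the last two blocks. -/
def wd1 : W := wq 0 1 1 (.r 0)

theorem four_facts : inK .four wd1 ∧ e1 ≠ 1 ∧ ¬ XLike .four e1 ∧ act wd1 e1 = e1 ∧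
    (∀ a : A, act wd1 a = a → a = 1 ∨ a = e1 ∨ a = e1 * e1) ∧
    (∀ u : W, u ^ 3 = 1 → u * wd1 = wd1 * u → act u e1 = e1 → u = 1) ∧
    parFun wd1 = 0 ∧ wd1 * wd1 = 1 ∧ wd1 ≠ 1 ∧
    (Finset.univ.filter fun q : W => inK .four q ∧ act q 1 = 1).card = 24 ∧
    (∀ a : A, ∃ i : Fin 3, act wd1 a = a → e1 ^ (i : ℕ) = a) := by
  decide +kernel

theorem four_even : ∀ u : W, inK .four u → parFun u = 0 →
    ∃ a b : W, inK .four a ∧ inK .four b ∧ a * wt * a⁻¹ * (b * wt * b⁻¹) = u := by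
  decide +kernel

theorem four_odd : ∀ u : W, inK .four u → parFun u ≠ 0 → parFun (u * wt) = 0 := by decide +kernel

theorem z2_cases : (∀ y : Multiplicative (ZMod 2), y = 1 ∨ y = Multiplicative.ofAdd 1) ∧
    Multiplicative.ofAdd (1 : ZMod 2) ≠ 1 := by decide +kernel

namespace Conf

variable {G : Type u} [Group G] [Finite G] (h : Conf G)

/-- The parity on the normaliser. -/
def par : Mk h.k →* Multiplicative (ZMod 2) :=
  (parHom.comp SemidirectProduct.rightHom).comp (Mk h.k).subtype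

omit [Finite G] in
theorem par_eq_one {m : Mk h.k} : h.par m = 1 ↔ parFun m.1.right = 0 :=
  Multiplicative.ofAdd.injective.eq_iff' rfl

omit [Finite G] in
theorem inK_d1 (hk : h.k = .four) : inK h.k wd1 := hk ▸ four_facts.1

theorem d1_not_conj (F : h.Facts) (hk : h.k = .four) : ¬ IsConj h.tau (h.q ⟨wd1, h.inK_d1 hk⟩) := by
  have hact : ∀ a : A, h.q ⟨wd1, h.inK_d1 hk⟩ * h.j a = h.j a * h.q ⟨wd1, h.inK_d1 hk⟩ ↔ act wd1 a = a :=
    fun a => by rw [← mul_inv_eq_iff_eq_mul, h.conj_j, h.j_inj.eq_iff]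
  refine h.not_conj_tau F (by rw [hk]; decide) four_facts.2.1 (by rw [hk]; exact four_facts.2.2.1)
    (fun a ha => ?_) ((hact _).2 four_facts.2.2.2.1)
  obtain ⟨i, hi⟩ := four_facts.2.2.2.2.2.2.2.2.2.2 a
  exact hi ((hact a).1 ha) ▸ pow_mem (mem_zpowers _) _

theorem four_card_N (hk : h.k = .four) : Nat.card h.N = 648 := by
  have := h.card_cent_inf 1
  rw [inf_eq_left.2 (fun g _ => mem_centralizer_singleton_iff.2 (by simp)), hk,
    four_facts.2.2.2.2.2.2.2.2.2.1] at this
  exact this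

/-- The conjugates of the distinguished involution in the normaliser. -/
theorem four_class (F : h.Facts) (hk : h.k = .four) {n : G} (hn : n ∈ h.N) (hc : IsConj h.tau n) :
    ∃ f ∈ h.N, f * h.tau * f⁻¹ = n := by
  obtain ⟨g, hg⟩ := isConj_iff.1 hc
  have h2 : n * n = 1 := by
    rw [← hg, show g * h.tau * g⁻¹ * (g * h.tau * g⁻¹) = g * (h.tau * h.tau) * g⁻¹ by group, h.tau_sq,
      mul_one, mul_inv_cancel]
  have h1 : n ≠ 1 := fun e => h.tau_ne (conj_eq_one_iff.1 (hg.trans e))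
  obtain ⟨r, hr, hrk, f, hf, e⟩ := h.invol_rep (by rw [hk]; decide) hn h2 h1
  have hcr : IsConj h.tau (h.q ⟨r, hr⟩) := hc.trans (isConj_iff.2 ⟨f⁻¹, by rw [e]; group⟩)
  rw [hk] at hrk
  simp only [reps, List.mem_cons, List.not_mem_nil, or_false] at hrk
  rcases hrk with rfl | rfl
  · exact ⟨f, hf, e.symm⟩
  · exact absurd hcr (h.d1_not_conj F hk)

theorem four_odd_index (F : h.Facts) (hk : h.k = .four) : Odd h.N.index := by
  have hle := (F.tau_le (h.cent_local F (by rw [hk]; decide) (by decide +kernel))).1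
  exact index_odd h.N h.tau_sq (show h.tau ∈ h.N from h.q_mem_N _) (fun n hn hc => h.four_class F hk hn hc)
    odd_one (by rw [inf_eq_right.2 hle, one_mul])

theorem four_index_three (F : h.Facts) (hk : h.k = .four) : ¬ 3 ∣ h.N.index := by
  haveI : Fact (Nat.Prime 3) := ⟨Nat.prime_three⟩
  rintro ⟨r, hr⟩
  have hG : Nat.card G = 243 * (8 * r) := by
    rw [← card_mul_index h.N, h.four_card_N hk, hr]; ring
  obtain ⟨P⟩ : Nonempty (Sylow 3 G) := inferInstance
  have h5 : 3 ^ 5 ∣ Nat.card P := P.pow_dvd_card_of_pow_dvd_card (by rw [hG]; exact dvd_mul_right _ _)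
  obtain ⟨g, hg⟩ := F.sylow P P.2
  have hle : (P : Subgroup G).map (MulAut.conj g).toMonoidHom ≤ h.S := by
    rintro _ ⟨y, hy, rfl⟩; exact hg y hy
  have h6 := card_le_of_le hle
  rw [card_map_of_injective (MulAut.conj g).injective, F.S_card] at h6
  have := Nat.le_of_dvd Nat.card_pos h5
  norm_num at this
  omega

/-- A homomorphism whose value on the normaliser is the parity. -/
theorem four_sign (F : h.Facts) (hk : h.k = .four) :
    ∃ χ : G →* ℤˣ, ∀ m : Mk h.k, (χ (h.φ m) = 1 ↔ parFun m.1.right = 0) := by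
  classical
  haveI : Fact (Nat.Prime 2) := ⟨Nat.prime_two⟩
  set H : Subgroup G := h.par.ker.map h.φ with hH
  have hodd := h.four_odd_index F hk
  have hpt : h.par (inrK h.k ⟨wt, inK_wt h.k⟩) = Multiplicative.ofAdd 1 := rfl
  have hker : 2 * Nat.card h.par.ker = 648 := by
    rw [← h.four_card_N hk, show Nat.card h.N = Nat.card (Mk h.k) from
        Nat.card_congr (MonoidHom.ofInjective h.inj).toEquiv.symm,
      ← card_mul_index h.par.ker, index_ker, mul_comm,
      MonoidHom.range_eq_top.2 (fun y => ?_), card_top, par_facts.2.2.2.2.2.2.2]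
    rcases z2_cases.1 y with rfl | rfl
    · exact ⟨1, map_one _⟩
    · exact ⟨_, hpt⟩
  have hidx : H.index = 2 * h.N.index := by
    have h1 := card_mul_index H
    rw [← card_mul_index h.N, h.four_card_N hk, hH, card_map_of_injective h.inj] at h1
    refine Nat.eq_of_mul_eq_mul_left (show 0 < Nat.card h.par.ker from Nat.card_pos) ?_
    rw [h1, ← hker]; ring
  haveI := Fintype.ofFinite (G ⧸ H)
  set χ : G →* ℤˣ := Equiv.Perm.sign.comp (MulAction.toPermHom G (G ⧸ H)) with hχ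
  have ht : χ h.tau = -1 := by
    have h2 : MulAction.toPermHom G (G ⧸ H) h.tau ^ 2 = 1 := by
      rw [← map_pow, pow_two, h.tau_sq, map_one]
    have h0 : ∀ p, MulAction.toPermHom G (G ⧸ H) h.tau p ≠ p := by
      intro p hp
      obtain ⟨y, rfl⟩ := QuotientGroup.mk_surjective p
      change ((h.tau * y : G) : G ⧸ H) = (y : G ⧸ H) at hp
      rw [QuotientGroup.eq] at hp
      have hmem : y⁻¹ * h.tau * y ∈ H := by
        have := inv_mem hp
        simpa [mul_assoc] using this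
      obtain ⟨m, hm, hmy⟩ := hmem
      have hc : IsConj h.tau (h.φ m) := isConj_iff.2 ⟨y⁻¹, by rw [inv_inv, hmy]⟩
      obtain ⟨f, ⟨p, rfl⟩, e⟩ := h.four_class F hk ⟨m, rfl⟩ hc
      have e' : p * inrK h.k ⟨wt, inK_wt h.k⟩ * p⁻¹ = m := h.inj (by
        rw [map_mul, map_mul, map_inv]; exact e)
      have e2 := congrArg h.par e'
      rw [map_mul, map_mul, map_inv, mul_right_comm, mul_inv_cancel, one_mul, MonoidHom.mem_ker.1 hm] at e2
      exact z2_cases.2 (hpt.symm.trans e2)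
    have hcard4 : Fintype.card (G ⧸ H) % 4 = 2 := by
      rw [← Nat.card_eq_fintype_card, ← index_eq_card, hidx]
      rw [Nat.odd_iff] at hodd
      omega
    show Equiv.Perm.sign (MulAction.toPermHom G (G ⧸ H) h.tau) = -1
    rw [Equiv.Perm.sign_of_pow_two_eq_one h2,
      (Fintype.card_eq_zero_iff.2 ⟨fun p => h0 _ p.2⟩ :
        Fintype.card (Function.fixedPoints (MulAction.toPermHom G (G ⧸ H) h.tau)) = 0), Nat.sub_zero]
    exact Odd.neg_one_pow ⟨Fintype.card (G ⧸ H) / 4, by omega⟩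
  have hj : ∀ a : A, χ (h.j a) = 1 := fun a => by
    have h3 : χ (h.j a) ^ 3 = 1 := by rw [← map_pow, h.J_cube _ (h.j_mem a), map_one]
    rcases Int.units_eq_one_or (χ (h.j a)) with e | e
    · exact e
    · rw [e] at h3; exact absurd h3 (by decide)
  have hev : ∀ u : KG h.k, parFun (u : W) = 0 → χ (h.q u) = 1 := by
    intro u hu
    have hu4 : inK .four (u : W) := hk ▸ u.2
    obtain ⟨a, b, ha, hb, e⟩ := four_even _ hu4 hu
    have e' : u = (⟨a, hk.symm ▸ ha⟩ : KG h.k) * ⟨wt, inK_wt h.k⟩ * (⟨a, hk.symm ▸ ha⟩ : KG h.k)⁻¹ *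
        ((⟨b, hk.symm ▸ hb⟩ : KG h.k) * ⟨wt, inK_wt h.k⟩ * (⟨b, hk.symm ▸ hb⟩ : KG h.k)⁻¹) := Subtype.ext e.symm
    rw [e']
    simp only [map_mul, map_inv]
    show _ * χ h.tau * _ * (_ * χ h.tau * _) = 1
    rw [mul_right_comm _ (χ h.tau), mul_inv_cancel, one_mul, mul_right_comm _ (χ h.tau), mul_inv_cancel, one_mul,
      ht]
    decide
  refine ⟨χ, fun m => ?_⟩
  rw [show h.φ m = h.j m.1.left * h.q ⟨m.1.right, m.2⟩ by
    show _ = h.φ (inlA h.k m.1.left) * h.φ (inrK h.k _)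
    rw [← map_mul, ← Mk_split], map_mul, hj, one_mul]
  constructor
  · intro e
    by_contra hne
    have h4 : inK .four m.1.right := hk ▸ (show inK h.k m.1.right from m.2)
    have hu : parFun (((⟨m.1.right, m.2⟩ * ⟨wt, inK_wt h.k⟩ : KG h.k)) : W) = 0 := by
      rw [Subgroup.coe_mul]
      exact four_odd _ h4 hne
    have h1 := hev _ hu
    rw [map_mul, map_mul, e, one_mul] at h1
    exact absurd (ht.symm.trans h1) (by decide)
  · exact hev ⟨m.1.right, m.2⟩

end Conf

end Cfsg.Agent.Sym9ThreeLocal
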