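import Cfsg.Agent.Sym9ThreeLocal.Interface
import Cfsg.Agent.Invol.ZStar
import Mathlib.GroupTheory.GroupAction.ConjAct
import Mathlib.GroupTheory.PGroup

/-!
# Involutions and fusion in the small kinds
-/

set_option autoImplicit false
set_option synthInstance.maxSize 4000
set_option synthInstance.maxHeartbeats 400000

namespace Cfsg.Agent.Sym9ThreeLocal

open Cfsg Cfsg.Agent Subgroup

universe u

theorem eType_small : ∀ k, k ≠ Kind.eight → ∀ v : A, ¬ EType k v := by decide +kernel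

theorem stab_four : ∀ k, k ≠ Kind.eight → ∀ v : A, v ≠ 1 → ¬ XLike k v →
    ∀ q : W, inK k q → act q v = v → q ^ 4 = 1 := by decide +kernel

theorem invol_form : ∀ m : Mf, m * m = 1 →
    m.right * m.right = 1 ∧ m = SemidirectProduct.inl (m.left * m.left) * SemidirectProduct.inr m.right *
      SemidirectProduct.inl (m.left * m.left)⁻¹ := by decide +kernel

theorem wc_facts : (∀ k, inK k wc) ∧ wc ^ 3 = 1 ∧ wc ≠ 1 ∧ act wc xA = xA ∧ wt * wc ≠ wc * wt := by
  decide +kernel

/-- Representatives of the involutions of the automisers. -/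
def reps : Kind → List W
  | .one => [wt]
  | .two => [wt, wi, wi * wt]
  | .four => [wt, wq 0 1 1 (.r 0)]
  | .eight => []

theorem reps_cover : ∀ k, k ≠ Kind.eight → ∀ u : W, inK k u → u * u = 1 → u ≠ 1 →
    ∃ r ∈ reps k, inK k r ∧ ∃ p : W, inK k p ∧ p * r * p⁻¹ = u := by
  decide +kernel

/-- The plane containing the diagonal and the cycle, in the model. -/
def inE (m : Mf) : Prop := (m.left = 1 ∨ m.left = xA ∨ m.left = xA⁻¹) ∧ m.right.left = 1 ∧
  (m.right = 1 ∨ m.right = wc ∨ m.right = wc⁻¹)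

instance : DecidablePred inE := fun m => by unfold inE; infer_instance

namespace Conf

variable {G : Type u} [Group G] (h : Conf G)

/-- An element of the normaliser comes from the model. -/
theorem exists_model {g : G} (hg : g ∈ h.N) : ∃ m : Mk h.k, h.φ m = g := hg

theorem q_sq {u : KG h.k} (hu : (u : W) * u = 1) : h.q u * h.q u = 1 := by
  rw [← map_mul, show u * u = 1 from Subtype.ext hu, map_one]

theorem cyc_cube : h.cyc ^ 3 = 1 := by
  show h.q _ ^ 3 = 1
  rw [← map_pow, show (⟨wc, inK_wc h.k⟩ : KG h.k) ^ 3 = 1 from Subtype.ext wc_facts.2.1, map_one]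

theorem cyc_x : h.cyc * h.x = h.x * h.cyc :=
  mul_inv_eq_iff_eq_mul.1 ((h.conj_j _ _).trans (congrArg h.j wc_facts.2.2.2.1))

theorem q_notMem_J {u : KG h.k} (hu : (u : W) ≠ 1) : h.q u ∉ h.J := by
  rintro ⟨a, ha⟩
  have e : inlA h.k a = inrK h.k u := h.inj ha
  exact hu (congrArg (fun m : Mk h.k => m.1.right) e).symm

theorem cyc_notMem : h.cyc ∉ h.J := h.q_notMem_J (u := ⟨wc, inK_wc h.k⟩) wc_facts.2.2.1

theorem tau_cyc_ne : h.tau * h.cyc ≠ h.cyc * h.tau := by
  intro e
  have e' : h.q (⟨wt, inK_wt h.k⟩ * ⟨wc, inK_wc h.k⟩) = h.q (⟨wc, inK_wc h.k⟩ * ⟨wt, inK_wt h.k⟩) :=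
    (map_mul h.q _ _).trans (e.trans (map_mul h.q _ _).symm)
  exact wc_facts.2.2.2.2 (congrArg Subtype.val (h.q_inj e'))

variable [Finite G]

/-- An involution of the normaliser is conjugate in it to a representative. -/
theorem invol_rep (hk : h.k ≠ .eight) {n : G} (hn : n ∈ h.N) (h2 : n * n = 1) (h1 : n ≠ 1) :
    ∃ (r : W) (hr : inK h.k r), r ∈ reps h.k ∧ ∃ f ∈ h.N, n = f * h.q ⟨r, hr⟩ * f⁻¹ := by
  obtain ⟨m, rfl⟩ := hn
  have hm : m.1 * m.1 = 1 := congrArg Subtype.val (h.inj (show h.φ (m * m) = h.φ 1 by rw [map_mul, h2, map_one]))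
  obtain ⟨hu, hf⟩ := invol_form m.1 hm
  have hu1 : m.1.right ≠ 1 := by
    intro e
    refine h1 ?_
    have : m = 1 := Subtype.ext (by
      rw [hf, e, map_one, mul_one, ← map_mul, mul_inv_cancel, map_one]; rfl)
    rw [this, map_one]
  obtain ⟨r, hr, hrk, p, hp, hpr⟩ := reps_cover h.k hk m.1.right m.2 hu hu1
  refine ⟨r, hrk, hr, h.j (m.1.left * m.1.left) * h.q ⟨p, hp⟩, mul_mem (h.j_mem_N _) (h.q_mem_N _), ?_⟩
  refine (congrArg h.φ (show m = inlA h.k (m.1.left * m.1.left) *
    inrK h.k (⟨p, hp⟩ * ⟨r, hrk⟩ * ⟨p, hp⟩⁻¹) * (inlA h.k (m.1.left * m.1.left))⁻¹ from Subtype.ext (hf.trans (by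
      rw [map_inv, show (⟨p, hp⟩ * ⟨r, hrk⟩ * ⟨p, hp⟩⁻¹ : KG h.k) = ⟨m.1.right, m.2⟩ from Subtype.ext hpr]
      rfl)))).trans ?_
  rw [map_mul, map_mul, map_inv]
  show h.j _ * h.q _ * (h.j _)⁻¹ = _
  rw [map_mul h.q, map_mul h.q, map_inv h.q]
  group

theorem cent_local (F : h.Facts) (hk : h.k ≠ .eight) {v : A} (hv : v ≠ 1) :
    centralizer ({h.j v} : Set G) ≤ h.N := F.loc v hv (eType_small h.k hk v)

/-- Three-elements centralising most vectors lie in the elementary subgroup. -/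
theorem mem_J_of_cent (F : h.Facts) (hk : h.k ≠ .eight) {v : A} (hv : v ≠ 1) (hx : ¬ XLike h.k v) {y : G}
    (hy : y * h.j v = h.j v * y) (h3 : y ^ 3 = 1) : y ∈ h.J := by
  obtain ⟨m, rfl⟩ := h.cent_local F hk hv (mem_centralizer_singleton_iff.2 hy)
  have h3' : m.1 ^ 3 = 1 := congrArg Subtype.val (h.inj (show h.φ (m ^ 3) = h.φ 1 by rw [map_pow, h3, map_one]))
  have hu3 : m.1.right ^ 3 = 1 := by
    have := congrArg (SemidirectProduct.rightHom : Mf →* W) h3'
    rwa [map_pow, map_one] at this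
  have hfix : act m.1.right v = v := by
    refine h.j_inj ?_
    have e : h.φ m = h.j m.1.left * h.q ⟨m.1.right, m.2⟩ := by
      show _ = h.φ (inlA h.k m.1.left) * h.φ (inrK h.k _)
      rw [← map_mul, ← Mk_split]
    rw [← h.conj_j ⟨m.1.right, m.2⟩ v]
    rw [e] at hy
    have e2 : h.q ⟨m.1.right, m.2⟩ * h.j v = h.j v * h.q ⟨m.1.right, m.2⟩ := by
      refine mul_left_cancel (a := h.j m.1.left) ?_
      rw [← mul_assoc, hy, ← mul_assoc, h.j_comm, mul_assoc]
    exact mul_inv_eq_iff_eq_mul.2 e2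
  have hu1 : m.1.right = 1 := by
    have h4 := stab_four h.k hk v hv hx _ m.2 hfix
    have e : m.1.right ^ 4 = m.1.right := by rw [pow_succ, hu3, one_mul]
    exact e.symm.trans h4
  exact ⟨m.1.left, by
    show h.φ (inlA h.k m.1.left) = h.φ m
    refine congrArg h.φ (Subtype.ext ?_)
    exact SemidirectProduct.ext rfl hu1.symm⟩

theorem cube_conj {g y : G} (hy : y ^ 3 = 1) : (g * y * g⁻¹) ^ 3 = 1 := by
  rw [conj_pow, hy, mul_one, mul_inv_cancel]

/-- An involution whose fixed vectors form such a line is not conjugate to the distinguished one. -/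
theorem not_conj_tau (F : h.Facts) (hk : h.k ≠ .eight) {i : G} {v : A} (hv : v ≠ 1) (hx : ¬ XLike h.k v)
    (hfix : ∀ a : A, i * h.j a = h.j a * i → a ∈ zpowers v) (hiv : i * h.j v = h.j v * i) :
    ¬ IsConj h.tau i := by
  intro hc
  obtain ⟨g, rfl⟩ := isConj_iff.1 hc
  obtain ⟨hle, -⟩ := F.tau_le (h.cent_local F hk (by decide +kernel))
  set y := g⁻¹ * h.j v * g with hy
  have hyt : y * h.tau = h.tau * y := by
    calc y * h.tau = g⁻¹ * (h.j v * (g * h.tau * g⁻¹)) * g := by rw [hy]; group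
      _ = g⁻¹ * (g * h.tau * g⁻¹ * h.j v) * g := by rw [hiv]
      _ = h.tau * y := by rw [hy]; group
  have hy3 : y ^ 3 = 1 := by
    have := cube_conj (g := g⁻¹) (h.J_cube _ (h.j_mem v))
    rwa [inv_inv] at this
  -- it lies in the elementary subgroup
  obtain ⟨c, u, hyc⟩ := h.exists_split (hle (mem_centralizer_singleton_iff.2 hyt))
  have hyJ : y ∈ h.J := by
    obtain ⟨m, hm⟩ := hle (mem_centralizer_singleton_iff.2 hyt)
    have hmm : m * inrK h.k ⟨wt, inK_wt h.k⟩ = inrK h.k ⟨wt, inK_wt h.k⟩ * m :=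
      h.inj (by rw [map_mul, map_mul, hm]; exact hyt)
    have hwt : m.1.right * wt = wt * m.1.right := congrArg (fun m : Mk h.k => m.1.right) hmm
    have h3' : m ^ 3 = 1 := h.inj (by rw [map_pow, hm, hy3, map_one])
    have hu3 : m.1.right ^ 3 = 1 := by
      have := congrArg (SemidirectProduct.rightHom : Mf →* W) (congrArg Subtype.val h3')
      rwa [show ((m ^ 3 : Mk h.k) : Mf) = m.1 ^ 3 from rfl, map_pow, show ((1 : Mk h.k) : Mf) = 1 from rfl,
        map_one] at this
    have hu2 := (show ∀ u : W, u * wt = wt * u → u * u = 1 by decide +kernel) _ hwt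
    refine ⟨m.1.left, ?_⟩
    rw [← hm]
    show h.φ (inlA h.k m.1.left) = h.φ m
    refine congrArg h.φ (Subtype.ext (SemidirectProduct.ext rfl ?_))
    show (1 : W) = m.1.right
    rw [← hu3, pow_succ, pow_two, hu2, one_mul]
  -- so nine elements of the elementary group commute with the involution and the vector
  have hall : ∀ a : A, act wt a = a → g * h.j a * g⁻¹ ∈ h.J ∧ (g * h.tau * g⁻¹) * (g * h.j a * g⁻¹) =
      (g * h.j a * g⁻¹) * (g * h.tau * g⁻¹) := by
    intro a ha
    refine ⟨h.mem_J_of_cent F hk hv hx ?_ (cube_conj (h.J_cube _ (h.j_mem a))), ?_⟩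
    · calc g * h.j a * g⁻¹ * h.j v = g * (h.j a * y) * g⁻¹ := by rw [hy]; group
        _ = g * (y * h.j a) * g⁻¹ := by rw [h.J_comm _ (h.j_mem a) _ hyJ]
        _ = _ := by rw [hy]; group
    · have e : h.tau * h.j a = h.j a * h.tau := mul_inv_eq_iff_eq_mul.1 ((h.conj_j _ a).trans (congrArg h.j ha))
      calc g * h.tau * g⁻¹ * (g * h.j a * g⁻¹) = g * (h.tau * h.j a) * g⁻¹ := by group
        _ = g * (h.j a * h.tau) * g⁻¹ := by rw [e]
        _ = _ := by group
  have key : ∀ a : A, act wt a = a → ∃ i : ℕ, i < 3 ∧ g * h.j a * g⁻¹ = h.j (v ^ i) := by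
    intro a ha
    obtain ⟨⟨b, hb⟩, hcomm⟩ := hall a ha
    obtain ⟨i, hi⟩ := mem_zpowers_iff.1 (hfix b (by rw [hb]; exact hcomm))
    refine ⟨(i % 3).toNat, by omega, ?_⟩
    rw [← hb, ← hi]
    congr 1
    rw [← zpow_natCast v, Int.toNat_of_nonneg (Int.emod_nonneg _ (by norm_num))]
    conv_lhs => rw [← Int.emod_add_mul_ediv i 3, zpow_add, zpow_mul,
      show v ^ (3 : ℤ) = 1 from (zpow_natCast v 3).trans (A_cube v), one_zpow, mul_one]
  choose f hf hfe using key
  have hinj : Function.Injective fun a : {a : A // act wt a = a} => (⟨f a.1 a.2, hf a.1 a.2⟩ : Fin 3) := by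
    intro a b e
    have e1 := hfe a.1 a.2
    rw [show f a.1 a.2 = f b.1 b.2 from congrArg Fin.val e, ← hfe b.1 b.2] at e1
    exact Subtype.ext (h.j_inj (mul_left_cancel (mul_right_cancel e1)))
  have := Fintype.card_le_of_injective _ hinj
  rw [Fintype.card_fin] at this
  exact absurd this (by decide +kernel)

/-- No element outside the elementary subgroup centralising the diagonal is conjugate to another vector. -/
theorem xLike_of_conj (F : h.Facts) (hk : h.k ≠ .eight) {y g : G} {v : A} (hy : y * h.x = h.x * y)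
    (hyJ : y ∉ h.J) (hv : v ≠ 1) (hg : g * h.j v * g⁻¹ = y) : XLike h.k v := by
  by_contra hx
  set w := g⁻¹ * h.x * g with hw
  have hwJ : w ∈ h.J := h.mem_J_of_cent F hk hv hx (by
    rw [hw, ← inv_mul_cancel_left g (h.j v), ← inv_mul_cancel_right (g * h.j v) g]
    calc g⁻¹ * h.x * g * (g⁻¹ * (g * h.j v * g⁻¹ * g)) = g⁻¹ * (h.x * (g * h.j v * g⁻¹)) * g := by group
      _ = g⁻¹ * (g * h.j v * g⁻¹ * h.x) * g := by rw [hg, hy]
      _ = _ := by group) (by
    have := cube_conj (g := g⁻¹) (h.J_cube _ (h.j_mem xA))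
    rwa [inv_inv] at this)
  have hle : h.J.map (MulAut.conj g).toMonoidHom ≤ centralizer ({h.x} : Set G) := by
    rintro _ ⟨b, hb, rfl⟩
    rw [mem_centralizer_singleton_iff]
    show g * b * g⁻¹ * h.x = h.x * (g * b * g⁻¹)
    calc g * b * g⁻¹ * h.x = g * (b * w) * g⁻¹ := by rw [hw]; group
      _ = g * (w * b) * g⁻¹ := by rw [h.J_comm b hb w hwJ]
      _ = _ := by rw [hw]; group
  have e := h.eq_J hle (by
    rintro _ ⟨a, ha, rfl⟩ _ ⟨b, hb, rfl⟩
    rw [← map_mul, ← map_mul, h.J_comm a ha b hb]) (by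
    rw [card_map_of_injective (MulAut.conj g).injective, h.J_card])
  exact hyJ (e ▸ ⟨_, h.j_mem v, hg⟩)

/-- An isolated involution not commuting with the cycle ends the proof. -/
theorem finish_isolated (F : h.Facts) {w : G} (hw : IsIsolatedInvolution w) (hne : w * h.cyc ≠ h.cyc * w) :
    h.J.Normal := by
  refine F.finish (oddCore G) inferInstance (fun hO => hne ?_)
    (Nat.coprime_two_right.1 Core.coprime_card_pPrimeCore)
  have e := Invol.zstar hw h.cyc
  rw [hO, mem_bot, mul_inv_eq_one, mul_inv_eq_iff_eq_mul] at e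
  exact e

end Conf

variable {G : Type u} [Group G] [Finite G]

/-- Isolation, checked in a subgroup of odd index. -/
theorem isolated_of_odd_index {H : Subgroup G} (hH : Odd H.index) {w : G} (hw : orderOf w = 2)
    (hiso : ∀ a ∈ H, ∀ b ∈ H, IsConj w a → IsConj w b → Commute a b → a = b) : IsIsolatedInvolution w := by
  haveI : Fact (Nat.Prime 2) := ⟨Nat.prime_two⟩
  refine ⟨hw, fun g hc => ?_⟩
  set u := g * w * g⁻¹ with hu
  have hw2 : w * w = 1 := by rw [← pow_two, ← hw, pow_orderOf_eq_one]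
  have hu2 : u * u = 1 := by
    rw [hu, show g * w * g⁻¹ * (g * w * g⁻¹) = g * (w * w) * g⁻¹ by group, hw2, mul_one, mul_inv_cancel]
  let L : Subgroup G :=
    { carrier := {1, w, u, w * u}
      one_mem' := Or.inl rfl
      mul_mem' := by
        have c1 : u * w = w * u := hc.eq.symm
        have w1 : ∀ t, w * (w * t) = t := fun t => by rw [← mul_assoc, hw2, one_mul]
        have u1 : ∀ t, u * (u * t) = t := fun t => by rw [← mul_assoc, hu2, one_mul]
        have c2 : ∀ t, u * (w * t) = w * (u * t) := fun t => by rw [← mul_assoc, c1, mul_assoc]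
        intro a b ha hb
        simp only [Set.mem_insert_iff, Set.mem_singleton_iff] at ha hb ⊢
        rcases ha with e | e | e | e <;> rcases hb with e' | e' | e' | e' <;> rw [e, e'] <;>
          simp [mul_assoc, hw2, hu2, c1, c2, w1, u1]
      inv_mem' := by
        have hwi : w⁻¹ = w := inv_eq_of_mul_eq_one_right hw2
        have hui : u⁻¹ = u := inv_eq_of_mul_eq_one_right hu2
        intro a ha
        simp only [Set.mem_insert_iff, Set.mem_singleton_iff] at ha ⊢
        rcases ha with e | e | e | e <;> rw [e] <;> simp [hwi, hui, hc.eq.symm] }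
  have hL : IsPGroup 2 L := fun a => ⟨1, by
    refine Subtype.ext ?_
    show ((a : G)) ^ (2 ^ 1) = 1
    rw [pow_one, pow_two]
    rcases a.2 with e | e | e | e <;> rw [e]
    · exact one_mul 1
    · exact hw2
    · exact hu2
    · calc w * u * (w * u) = w * (u * w) * u := by group
        _ = w * w * (u * u) := by rw [hc.eq.symm]; group
        _ = 1 := by rw [hw2, hu2, one_mul]⟩
  obtain ⟨P, hP⟩ : ∃ P : Sylow 2 G, (P : Subgroup G) ≤ H := by
    obtain ⟨P0⟩ : Nonempty (Sylow 2 H) := inferInstance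
    have hp : IsPGroup 2 ((P0 : Subgroup H).map H.subtype) := P0.2.map _
    obtain ⟨P, hP⟩ := hp.exists_le_sylow
    refine ⟨P, le_of_eq_of_le ?_ (map_subtype_le (P0 : Subgroup H))⟩
    refine (eq_of_le_of_card_ge hP ?_).symm
    rw [card_map_of_injective H.subtype_injective]
    obtain ⟨k, hk⟩ := P.2.exists_card_eq
    have hd : Nat.card P ∣ Nat.card H * H.index := H.card_mul_index.symm ▸ card_subgroup_dvd_card _
    rw [hk] at hd ⊢
    have h2 : (2 ^ k).Coprime H.index := (Nat.coprime_two_left.2 hH).pow_left k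
    have h3 := h2.dvd_of_dvd_mul_right hd
    rw [← (P0 : Subgroup H).card_mul_index] at h3
    have h4 : (2 ^ k).Coprime (P0 : Subgroup H).index :=
      ((Nat.Prime.coprime_iff_not_dvd Nat.prime_two).2 P0.not_dvd_index).pow_left k
    exact Nat.le_of_dvd Nat.card_pos (h4.dvd_of_dvd_mul_right h3)
  obtain ⟨R, hR⟩ := hL.exists_le_sylow
  obtain ⟨c, hc'⟩ := MulAction.exists_smul_eq G R P
  have hmem : ∀ a ∈ L, c * a * c⁻¹ ∈ H := fun a ha => hP (by
    rw [← hc', Sylow.coe_subgroup_smul]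
    exact ⟨a, hR ha, rfl⟩)
  have e := hiso _ (hmem w (Or.inr (Or.inl rfl))) _ (hmem u (Or.inr (Or.inr (Or.inl rfl))))
    (isConj_iff.2 ⟨c, rfl⟩) ((isConj_iff.2 ⟨g, rfl⟩ : IsConj w u).trans (isConj_iff.2 ⟨c, rfl⟩))
    (show Commute (c * w * c⁻¹) (c * u * c⁻¹) from (show Commute w u from hc).map (MulAut.conj c).toMonoidHom)
  exact (mul_left_cancel (mul_right_cancel e)).symm

/-- A single class with odd ratio of centralisers forces odd index. -/
theorem index_odd (H : Subgroup G) {i : G} (hi : i * i = 1) (hiH : i ∈ H)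
    (hone : ∀ n ∈ H, IsConj i n → ∃ f ∈ H, f * i * f⁻¹ = n)
    {r : ℕ} (hr : Odd r)
    (hc : Nat.card (centralizer ({i} : Set G)) = r * Nat.card (H ⊓ centralizer ({i} : Set G) : Subgroup G)) :
    Odd H.index := by
  classical
  haveI : Fact (Nat.Prime 2) := ⟨Nat.prime_two⟩
  have hcls : Nat.card {n : G // n ∈ H ∧ IsConj i n} * Nat.card (H ⊓ centralizer ({i} : Set G) : Subgroup G) =
      Nat.card H := by
    let act' : MulAction H G := MulAction.compHom G ((ConjAct.toConjAct : G ≃* ConjAct G).toMonoidHom.comp H.subtype)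
    letI := act'
    have hsm : ∀ (f : H) (a : G), f • a = (f : G) * a * (f : G)⁻¹ := fun f a =>
      ConjAct.smul_def (ConjAct.toConjAct (f : G)) a
    have horb : MulAction.orbit H i = {n : G | n ∈ H ∧ IsConj i n} := by
      ext n
      constructor
      · rintro ⟨f, rfl⟩
        show f • i ∈ H ∧ IsConj i (f • i)
        rw [hsm]
        exact ⟨mul_mem (mul_mem f.2 hiH) (inv_mem f.2), isConj_iff.2 ⟨f, rfl⟩⟩
      · rintro ⟨hn, hcn⟩
        obtain ⟨f, hf, e⟩ := hone n hn hcn
        exact ⟨⟨f, hf⟩, (hsm _ _).trans e⟩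
    have hst : MulAction.stabilizer H i = (H ⊓ centralizer ({i} : Set G)).subgroupOf H := by
      ext f
      rw [MulAction.mem_stabilizer_iff, hsm, mul_inv_eq_iff_eq_mul, mem_subgroupOf, mem_inf,
        mem_centralizer_singleton_iff]
      exact ⟨fun e => ⟨f.2, e⟩, fun e => e.2⟩
    have h1 := card_mul_index (MulAction.stabilizer H i)
    rw [index_eq_card, ← Nat.card_congr (MulAction.orbitEquivQuotientStabilizer H i), horb, hst,
      Nat.card_congr (subgroupOfEquivOfLe (inf_le_left : H ⊓ centralizer ({i} : Set G) ≤ H)).toEquiv] at h1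
    rw [← h1, mul_comm]
    rfl
  have h2 := fix_card_mul H i
  rw [hc, mul_assoc, mul_comm (Nat.card (H ⊓ _ : Subgroup G)), hcls] at h2
  have hfix : Nat.card {p : G ⧸ H // i • p = p} = r := Nat.eq_of_mul_eq_mul_right Nat.card_pos h2
  have hp : IsPGroup 2 (zpowers i) := by
    rw [IsPGroup]
    intro a
    refine ⟨1, ?_⟩
    obtain ⟨j, hj⟩ := mem_zpowers_iff.1 a.2
    refine Subtype.ext ?_
    show (a : G) ^ (2 ^ 1) = 1
    rw [← hj, pow_one, ← zpow_natCast, ← zpow_mul, mul_comm, zpow_mul, zpow_natCast, pow_two, hi, one_zpow]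
  have hmod := hp.card_modEq_card_fixedPoints (α := G ⧸ H)
  have hfp : MulAction.fixedPoints (zpowers i) (G ⧸ H) = {p | i • p = p} := by
    ext p
    refine ⟨fun hf => hf ⟨i, mem_zpowers i⟩, fun hf => ?_⟩
    rintro ⟨a, ha⟩
    have hle : zpowers i ≤ MulAction.stabilizer G p := zpowers_le.2 hf
    exact hle ha
  rw [hfp] at hmod
  rw [index_eq_card, Nat.odd_iff]
  have h3 : Nat.card (G ⧸ H) % 2 = r % 2 := hmod.trans (by rw [← hfix]; rfl)
  rw [h3, ← Nat.odd_iff]
  exact hr

end Cfsg.Agent.Sym9ThreeLocal
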