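import Cfsg.Agent.Sym9ThreeLocal.KindCommon

/-!
# The plane spanned by the diagonal and the cycle
-/

set_option autoImplicit false
set_option synthInstance.maxSize 4000
set_option synthInstance.maxHeartbeats 400000

namespace Cfsg.Agent.Sym9ThreeLocal

open Cfsg Cfsg.Agent Subgroup

universe u

/-- The index set of the plane. -/
abbrev P9 : Type := Multiplicative (ZMod 3 × ZMod 3)

/-- The plane in the model. -/
def eF (p : P9) : Mf :=
  ⟨vec p.toAdd.1 p.toAdd.1 p.toAdd.1, wq 0 0 0 (.r p.toAdd.2)⟩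

theorem eF_mul : ∀ p p' : P9, eF (p * p') = eF p * eF p' := by decide +kernel

theorem eF_inK : ∀ k, ∀ p : P9, inK k (eF p).right := by decide +kernel

theorem eF_inj : ∀ p p' : P9, eF p = eF p' → p = p' := by decide +kernel

theorem eF_gen : eF (Multiplicative.ofAdd (1, 0)) = SemidirectProduct.inl xA ∧
    eF (Multiplicative.ofAdd (0, 1)) = SemidirectProduct.inr wc ∧
    ∀ p : P9, p = Multiplicative.ofAdd (1, 0) ^ p.toAdd.1.val * Multiplicative.ofAdd (0, 1) ^ p.toAdd.2.val := by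
  decide +kernel

theorem eF_shift : ∀ p : P9, p.toAdd.2 ≠ 0 → ∃ c : A,
    SemidirectProduct.inl c * eF (Multiplicative.ofAdd (0, p.toAdd.2)) * SemidirectProduct.inl c⁻¹ = eF p ∧
    SemidirectProduct.inl c * eF (Multiplicative.ofAdd (1, 0)) * SemidirectProduct.inl c⁻¹ =
      eF (Multiplicative.ofAdd (1, 0)) := by decide +kernel

theorem cube_outside : ∀ m : Mf, m.right.left = 1 → m.right ≠ 1 → m ^ 3 = 1 → ∃ c : A,
    SemidirectProduct.inl c * SemidirectProduct.inr wc * SemidirectProduct.inl c⁻¹ = m ∨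
    SemidirectProduct.inl c * (SemidirectProduct.inr wc)⁻¹ * SemidirectProduct.inl c⁻¹ = m := by decide +kernel

theorem eF_self : ∀ m : Mf, m.right.left = 1 → m * SemidirectProduct.inr wc = SemidirectProduct.inr wc * m →
    ∃ p, eF p = m := by decide +kernel

theorem fix_line : ∀ k, ∀ v : A, (∃ q : W, inK k q ∧ act q v = xA) → ∃ p : W, inK k p ∧ act p xA = v := by
  decide +kernel

namespace Conf

variable {G : Type u} [Group G] (h : Conf G)

/-- The plane in the normaliser. -/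
def eM : P9 →* Mk h.k := MonoidHom.mk' (fun p => ⟨eF p, eF_inK h.k p⟩) fun p p' => Subtype.ext (eF_mul p p')

/-- The plane. -/
def ee : P9 →* G := h.φ.comp h.eM

/-- As a subgroup. -/
def E : Subgroup G := h.ee.range

theorem ee_x : h.ee (Multiplicative.ofAdd (1, 0)) = h.x := congrArg h.φ (Subtype.ext eF_gen.1)

theorem ee_cyc : h.ee (Multiplicative.ofAdd (0, 1)) = h.cyc := congrArg h.φ (Subtype.ext eF_gen.2.1)

theorem E_comm {a b : G} (ha : a ∈ h.E) (hb : b ∈ h.E) : a * b = b * a := by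
  obtain ⟨p, rfl⟩ := ha
  obtain ⟨p', rfl⟩ := hb
  rw [← map_mul, ← map_mul, mul_comm]

theorem E_cube {a : G} (ha : a ∈ h.E) : a ^ 3 = 1 := by
  obtain ⟨p, rfl⟩ := ha
  rw [← map_pow, (show ∀ p : P9, p ^ 3 = 1 by decide +kernel) p, map_one]

theorem x_mem_E : h.x ∈ h.E := ⟨_, h.ee_x⟩

theorem cyc_mem_E : h.cyc ∈ h.E := ⟨_, h.ee_cyc⟩

theorem E_gen {H : Subgroup G} (hx : h.x ∈ H) (hc : h.cyc ∈ H) : h.E ≤ H := by
  rintro _ ⟨p, rfl⟩
  rw [eF_gen.2.2 p, map_mul, map_pow, map_pow, h.ee_x, h.ee_cyc]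
  exact mul_mem (pow_mem hx _) (pow_mem hc _)

variable [Finite G]

theorem mem_norm_E {g : G} (hx : g * h.x * g⁻¹ ∈ h.E) (hc : g * h.cyc * g⁻¹ ∈ h.E) :
    g ∈ normalizer (h.E : Set G) := by
  have hle : h.E ≤ h.E.comap (MulAut.conj g).toMonoidHom := h.E_gen hx hc
  exact mem_normalizer_fintype fun a ha => hle ha

theorem cent_x_model {g : G} (hg : g * h.x = h.x * g) : ∃ m : Mk h.k, h.φ m = g ∧ m.1.right.left = 1 := by
  obtain ⟨m, hm⟩ := h.centX (mem_centralizer_singleton_iff.2 hg)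
  refine ⟨m, hm, (fix_xA _).1 (h.j_inj ?_)⟩
  have e : h.φ m = h.j m.1.left * h.q ⟨m.1.right, m.2⟩ := by
    show _ = h.φ (inlA h.k m.1.left) * h.φ (inrK h.k _)
    rw [← map_mul, ← Mk_split]
  rw [← hm, e] at hg
  rw [← h.conj_j ⟨m.1.right, m.2⟩ xA]
  refine mul_inv_eq_iff_eq_mul.2 (mul_left_cancel (a := h.j m.1.left) ?_)
  rw [← mul_assoc, hg, ← mul_assoc, h.j_comm, mul_assoc]

/-- The centraliser of the plane is the plane. -/
theorem cent_E {g : G} (hx : g * h.x = h.x * g) (hc : g * h.cyc = h.cyc * g) : g ∈ h.E := by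
  obtain ⟨m, rfl, hm⟩ := h.cent_x_model hx
  have e : m * inrK h.k ⟨wc, inK_wc h.k⟩ = inrK h.k ⟨wc, inK_wc h.k⟩ * m :=
    h.inj (by rw [map_mul, map_mul]; exact hc)
  obtain ⟨p, hp⟩ := eF_self m.1 hm (congrArg Subtype.val e)
  exact ⟨p, congrArg h.φ (Subtype.ext hp)⟩

/-- A conjugator of the diagonal to the cycle can be chosen to normalise the plane. -/
theorem line_swap {g : G} (hg : g * h.x * g⁻¹ = h.cyc ∨ g * h.x * g⁻¹ = h.cyc⁻¹) :
    ∃ g' ∈ normalizer (h.E : Set G), (g' * h.x * g'⁻¹ = h.cyc ∨ g' * h.x * g'⁻¹ = h.cyc⁻¹) ∧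
      (g' * h.cyc * g'⁻¹ = h.x ∨ g' * h.cyc * g'⁻¹ = h.x⁻¹) := by
  set w := g⁻¹ * h.x * g with hw
  have hgx : g * h.x * g⁻¹ * h.x = h.x * (g * h.x * g⁻¹) := by
    rcases hg with e | e <;> rw [e]
    · exact h.cyc_x
    · exact (show Commute h.cyc h.x from h.cyc_x).inv_left.eq
  have hwx : w * h.x = h.x * w := by
    calc w * h.x = g⁻¹ * (h.x * (g * h.x * g⁻¹)) * g := by rw [hw]; group
      _ = g⁻¹ * (g * h.x * g⁻¹ * h.x) * g := by rw [hgx]
      _ = _ := by rw [hw]; group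
  have hw3 : w ^ 3 = 1 := by
    have := cube_conj (g := g⁻¹) (h.J_cube _ (h.j_mem xA))
    rwa [inv_inv] at this
  obtain ⟨m, hm, hm1⟩ := h.cent_x_model hwx
  have hm3 : m.1 ^ 3 = 1 := congrArg Subtype.val (h.inj (show h.φ (m ^ 3) = h.φ 1 by rw [map_pow, hm, hw3, map_one]))
  by_cases hr : m.1.right = 1
  · exfalso
    have hv : h.j m.1.left = w := by
      rw [← hm]
      show h.φ (inlA h.k m.1.left) = h.φ m
      exact congrArg h.φ (Subtype.ext (SemidirectProduct.ext rfl hr.symm))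
    have he : g * h.j m.1.left * g⁻¹ = h.x := by rw [hv, hw]; group
    have hne : m.1.left ≠ 1 := fun e => by
      rw [e, map_one] at he
      exact h.j_ne xA_ne (he.symm.trans (by group))
    obtain ⟨p, hp, hpv⟩ := fix_line h.k _ (h.ctrl hne he)
    have hgp : g * h.q ⟨p, hp⟩ ∈ h.N := h.centX (mem_centralizer_singleton_iff.2 (mul_inv_eq_iff_eq_mul.1 (by
      calc g * h.q ⟨p, hp⟩ * h.x * (g * h.q ⟨p, hp⟩)⁻¹ =
          g * (h.q ⟨p, hp⟩ * h.x * (h.q ⟨p, hp⟩)⁻¹) * g⁻¹ := by group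
        _ = h.x := by rw [h.conj_j ⟨p, hp⟩, hpv, he])))
    have hgN : g ∈ h.N := (Subgroup.mul_mem_cancel_right _ (h.q_mem_N ⟨p, hp⟩)).1 hgp
    obtain ⟨b, hb⟩ := h.mem_N_iff.1 hgN xA
    rcases hg with e | e <;> rw [hb] at e
    · exact h.cyc_notMem ⟨b, e⟩
    · exact h.cyc_notMem ⟨b⁻¹, by rw [map_inv, e, inv_inv]⟩
  obtain ⟨c, hc⟩ := cube_outside m.1 hm1 hr hm3
  set g' := g * h.j c with hg'
  have hcx : h.j c * h.x * (h.j c)⁻¹ = h.x := mul_inv_eq_iff_eq_mul.2 (h.j_comm c xA)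
  have hg'x : g' * h.x * g'⁻¹ = g * h.x * g⁻¹ := by
    rw [hg', show g * h.j c * h.x * (g * h.j c)⁻¹ = g * (h.j c * h.x * (h.j c)⁻¹) * g⁻¹ by group, hcx]
  have hg'c : g' * h.cyc * g'⁻¹ = h.x ∨ g' * h.cyc * g'⁻¹ = h.x⁻¹ := by
    rcases hc with e | e
    · left
      have e' : h.j c * h.cyc * (h.j c)⁻¹ = w := by
        rw [← hm]
        show h.φ (inlA h.k c) * h.φ (inrK h.k _) * (h.φ (inlA h.k c))⁻¹ = h.φ m
        rw [← map_inv, ← map_mul, ← map_mul]
        refine congrArg h.φ (Subtype.ext ?_)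
        rw [← e, map_inv]; rfl
      rw [hg', show g * h.j c * h.cyc * (g * h.j c)⁻¹ = g * (h.j c * h.cyc * (h.j c)⁻¹) * g⁻¹ by group, e', hw]
      group
    · right
      have e' : h.j c * h.cyc⁻¹ * (h.j c)⁻¹ = w := by
        rw [← hm]
        show h.φ (inlA h.k c) * (h.φ (inrK h.k _))⁻¹ * (h.φ (inlA h.k c))⁻¹ = h.φ m
        rw [← map_inv h.φ, ← map_inv h.φ, ← map_mul, ← map_mul]
        refine congrArg h.φ (Subtype.ext ?_)
        rw [← e, map_inv SemidirectProduct.inl]; rfl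
      rw [hg', show g * h.j c * h.cyc * (g * h.j c)⁻¹ = g * (h.j c * h.cyc⁻¹ * (h.j c)⁻¹)⁻¹ * g⁻¹ by group, e', hw]
      group
  refine ⟨g', h.mem_norm_E ?_ ?_, by rw [hg'x]; exact hg, hg'c⟩
  · rw [hg'x]
    rcases hg with e | e <;> rw [e]
    · exact h.cyc_mem_E
    · exact inv_mem h.cyc_mem_E
  · rcases hg'c with e | e <;> rw [e]
    · exact h.x_mem_E
    · exact inv_mem h.x_mem_E

end Conf

end Cfsg.Agent.Sym9ThreeLocal
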