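import Cfsg.Agent.Sym9ThreeLocal.KindTwo
import Cfsg.Agent.Sym9ThreeLocal.KindFour

/-!
# The three small kinds
-/

set_option autoImplicit false

namespace Cfsg.Agent.Sym9ThreeLocal

universe u

/-- Away from the large kind the elementary subgroup is normal. -/
theorem Conf.normal_of_kind {G : Type u} [Group G] [Finite G] (h : Conf G) (F : h.Facts) (hk : h.k ≠ .eight) :
    h.J.Normal := by
  cases e : h.k
  · exact h.normal_of_one F e
  · exact h.normal_of_two F e
  · exact h.normal_of_four F e
  · exact absurd e hk

end Cfsg.Agent.Sym9ThreeLocal
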