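import Mathlib.GroupTheory.SemidirectProduct
import Mathlib.GroupTheory.SpecificGroups.Dihedral
import Mathlib.Data.ZMod.Basic

/-!
# A model for the normaliser of an elementary subgroup of order twenty-seven in `Sym(9)`

The elementary group, the monomial group of order forty-eight acting on it, and the four possible
automiser groups containing the block permutations.
-/

set_option autoImplicit false
set_option synthInstance.maxSize 4000
set_option synthInstance.maxHeartbeats 400000

namespace Cfsg.Agent.Sym9ThreeLocal

/-- The elementary group of order twenty-seven. -/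
abbrev A : Type := Multiplicative (ZMod 3 × ZMod 3 × ZMod 3)

/-- Sign changes. -/
abbrev V8 : Type := Multiplicative (ZMod 2 × ZMod 2 × ZMod 2)

/-- A coordinate. -/
def get {R : Type} (t : R × R × R) : Fin 3 → R
  | 0 => t.1
  | 1 => t.2.1
  | 2 => t.2.2

/-- The inverse of the permutation of the three blocks attached to an element of the dihedral group. -/
def blkInv : DihedralGroup 3 → Fin 3 → Fin 3
  | .r i, k => k - (show Fin 3 from i)
  | .sr i, k => -k - (show Fin 3 from i)

/-- The permutations of the blocks act on signs. -/
def psiFun (x : DihedralGroup 3) (v : V8) : V8 :=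
  Multiplicative.ofAdd (get v.toAdd (blkInv x 0), get v.toAdd (blkInv x 1), get v.toAdd (blkInv x 2))

theorem psiFun_one : ∀ v, psiFun 1 v = v := by decide +kernel

theorem psiFun_mul : ∀ x y v, psiFun (x * y) v = psiFun x (psiFun y v) := by decide +kernel

theorem psiFun_hom : ∀ x v w, psiFun x (v * w) = psiFun x v * psiFun x w := by decide +kernel

/-- The action on signs. -/
def psi : DihedralGroup 3 →* MulAut V8 where
  toFun x :=
    { toFun := psiFun x
      invFun := psiFun x⁻¹
      left_inv := fun v => by rw [← psiFun_mul, inv_mul_cancel, psiFun_one]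
      right_inv := fun v => by rw [← psiFun_mul, mul_inv_cancel, psiFun_one]
      map_mul' := psiFun_hom x }
  map_one' := MulEquiv.ext psiFun_one
  map_mul' x y := MulEquiv.ext (psiFun_mul x y)

/-- The monomial group, of order forty-eight. -/
abbrev W : Type := V8 ⋊[psi] DihedralGroup 3

instance instFintypeW : Fintype W := Fintype.ofEquiv _ SemidirectProduct.equivProd.symm

/-- A sign change. -/
def neg2 (d : ZMod 2) (y : ZMod 3) : ZMod 3 := if d = 0 then y else -y

/-- A coordinate of the transformed vector. -/
def actCoord (q : W) (t : A) (k : Fin 3) : ZMod 3 :=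
  neg2 (get q.left.toAdd k) (get t.toAdd (blkInv q.right k))

/-- The action on the elementary group. -/
def act (q : W) (t : A) : A :=
  Multiplicative.ofAdd (actCoord q t 0, actCoord q t 1, actCoord q t 2)

theorem act_one : ∀ t, act 1 t = t := by decide +kernel

theorem act_mul : ∀ x y t, act (x * y) t = act x (act y t) := by decide +kernel

theorem act_hom : ∀ x t u, act x (t * u) = act x t * act x u := by decide +kernel

/-- The action, as a homomorphism. -/
def theta : W →* MulAut A where
  toFun x :=
    { toFun := act x
      invFun := act x⁻¹
      left_inv := fun v => by rw [← act_mul, inv_mul_cancel, act_one]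
      right_inv := fun v => by rw [← act_mul, mul_inv_cancel, act_one]
      map_mul' := act_hom x }
  map_one' := MulEquiv.ext act_one
  map_mul' x y := MulEquiv.ext (act_mul x y)

theorem theta_apply (q : W) (t : A) : theta q t = act q t := rfl

theorem act_inj : ∀ q : W, (∀ t, act q t = t) → q = 1 := by decide +kernel

theorem card_A : Nat.card A = 27 := by rw [Nat.card_eq_fintype_card]; decide +kernel

theorem A_cube : ∀ a : A, a ^ 3 = 1 := by decide +kernel

/-- The model, of order `1296`. -/
abbrev Mf : Type := A ⋊[theta] W

instance instFintypeMf : Fintype Mf := Fintype.ofEquiv _ SemidirectProduct.equivProd.symm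

/-- A vector. -/
def vec (x y z : ZMod 3) : A := Multiplicative.ofAdd (x, y, z)

/-- The diagonal vector. -/
def xA : A := vec 1 1 1

/-- The first coordinate vector. -/
def e1 : A := vec 1 0 0
/-- The second coordinate vector. -/
def e2 : A := vec 0 1 0
/-- The third coordinate vector. -/
def e3 : A := vec 0 0 1
/-- A vector with two entries. -/
def uA : A := vec 1 1 0

theorem xA_ne : xA ≠ 1 := by decide +kernel

/-- The element of the monomial group with given signs and permutation. -/
def wq (a b c : ZMod 2) (d : DihedralGroup 3) : W := ⟨Multiplicative.ofAdd (a, b, c), d⟩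

/-- The cycle of the blocks. -/
def wc : W := wq 0 0 0 (.r 1)
/-- The exchange of the last two blocks. -/
def wt : W := wq 0 0 0 (.sr 0)
/-- The inversion. -/
def wi : W := wq 1 1 1 (.r 0)
/-- A single sign change. -/
def wf : W := wq 1 0 0 (.r 0)

theorem wt_act : ∀ x y z, act wt (vec x y z) = vec x z y := by decide +kernel

theorem wi_act : ∀ a, act wi a = a⁻¹ := by decide +kernel

/-- The possible automisers. -/
inductive Kind
  | one | two | four | eight
deriving DecidableEq

instance : Fintype Kind where
  elems := {.one, .two, .four, .eight}
  complete k := by cases k <;> simp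

/-- Membership in an automiser. -/
def inK : Kind → W → Prop
  | .one, q => q.left = 1
  | .two, q => q.left = 1 ∨ q.left = wi.left
  | .four, q => q.left.toAdd.1 + q.left.toAdd.2.1 + q.left.toAdd.2.2 = 0
  | .eight, _ => True

instance (k : Kind) : DecidablePred (inK k) := fun q => by cases k <;> unfold inK <;> infer_instance

theorem inK_one : ∀ k, inK k 1 := by decide +kernel

theorem inK_mul : ∀ k, ∀ p q, inK k p → inK k q → inK k (p * q) := by decide +kernel

theorem inK_inv : ∀ k, ∀ p, inK k p → inK k p⁻¹ := by decide +kernel

/-- The automiser. -/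
def KG (k : Kind) : Subgroup W where
  carrier := {q | inK k q}
  one_mem' := inK_one k
  mul_mem' {p q} := inK_mul k p q
  inv_mem' {p} := inK_inv k p

theorem mem_KG {k : Kind} {q : W} : q ∈ KG k ↔ inK k q := Iff.rfl

theorem perm_mem : ∀ k, ∀ d : DihedralGroup 3, inK k (SemidirectProduct.inr d) := by decide +kernel

theorem fix_xA : ∀ q : W, act q xA = xA ↔ q.left = 1 := by decide +kernel

/-- The model of the normaliser with a given automiser. -/
def Mk (k : Kind) : Subgroup Mf := (KG k).comap SemidirectProduct.rightHom

theorem mem_Mk {k : Kind} {m : Mf} : m ∈ Mk k ↔ inK k m.right := Iff.rfl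

/-- A translation in the model. -/
def inlA (k : Kind) : A →* Mk k :=
  (SemidirectProduct.inl : A →* Mf).codRestrict (Mk k) fun _ => inK_one k

/-- The complement in the model. -/
def inrK (k : Kind) : KG k →* Mk k :=
  ((SemidirectProduct.inr : W →* Mf).comp (KG k).subtype).codRestrict (Mk k) fun q => q.2

theorem Mk_split {k : Kind} (m : Mk k) : m = inlA k m.1.left * inrK k ⟨m.1.right, m.2⟩ :=
  Subtype.ext (SemidirectProduct.inl_left_mul_inr_right m.1).symm

end Cfsg.Agent.Sym9ThreeLocal
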